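import Cfsg.Agent.Lib.Transfer.Goldschmidt.Basic

/-!
# Walks, arcs and critical arcs

The critical length is the least number of steps at which a central involution next to a vertex of the first kind stops
fixing the graph. Up to that length the stabilizers are transitive on arcs, or a stabilizer of an arc fixes an extension.
-/

set_option autoImplicit false

namespace Cfsg.Agent.Transfer.Goldschmidt

open MulAction Subgroup

variable {G V : Type*} [Group G] [MulAction G V] {adj : V → V → Prop} {A : V → Prop} {z : V → G}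

theorem wk_one {u v : V} (huv : adj u v) : Wk adj 1 u v := ⟨v, huv, rfl⟩

theorem Wk.trans : ∀ {m n : ℕ} {u v w : V}, Wk adj m u v → Wk adj n v w → Wk adj (m + n) u w
  | 0, n, u, v, w, h1, h2 => by
    have e : u = v := h1
    subst e
    rwa [Nat.zero_add]
  | m + 1, n, u, v, w, ⟨x, hx, h1⟩, h2 => by
    rw [Nat.add_right_comm]
    exact ⟨x, hx, Wk.trans h1 h2⟩

theorem Wk.snoc {n : ℕ} {u v w : V} (h1 : Wk adj n u v) (h2 : adj v w) : Wk adj (n + 1) u w :=
  h1.trans (wk_one h2)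

theorem Wk.unsnoc : ∀ {n : ℕ} {u w : V}, Wk adj (n + 1) u w → ∃ v, Wk adj n u v ∧ adj v w
  | 0, u, w, ⟨x, hx, (e : x = w)⟩ => ⟨u, rfl, e ▸ hx⟩
  | n + 1, u, w, ⟨x, hx, h1⟩ => by
    obtain ⟨v, hv, hvw⟩ := Wk.unsnoc h1
    exact ⟨v, ⟨x, hx, hv⟩, hvw⟩

theorem exists_path : ∀ {n : ℕ} {u v : V}, Wk adj n u v →
    ∃ p : ℕ → V, p 0 = u ∧ p n = v ∧ ∀ i < n, adj (p i) (p (i + 1))
  | 0, u, v, e => ⟨fun _ => u, rfl, e, fun i hi => absurd hi (Nat.not_lt_zero i)⟩
  | n + 1, u, v, ⟨x, hx, h1⟩ => by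
    obtain ⟨p, hp0, hpn, hp⟩ := exists_path h1
    refine ⟨fun i => if i = 0 then u else p (i - 1), rfl, by simpa using hpn, fun i hi => ?_⟩
    rcases i with - | i
    · simpa [hp0] using hx
    · simpa using hp i (by omega)

theorem wk_path {p : ℕ → V} {n : ℕ} (hp : ∀ i < n, adj (p i) (p (i + 1))) :
    ∀ (d : ℕ) (i : ℕ), i + d ≤ n → Wk adj d (p i) (p (i + d))
  | 0, _, _ => rfl
  | d + 1, i, hid => ⟨p (i + 1), hp i (by omega), by
      have := wk_path hp d (i + 1) (by omega)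
      rwa [Nat.add_right_comm] at this⟩

/-- Prepend a vertex to a path. -/
def consP (u : V) (p : ℕ → V) : ℕ → V
  | 0 => u
  | i + 1 => p i

@[simp] theorem consP_zero (u : V) (p : ℕ → V) : consP u p 0 = u := rfl

@[simp] theorem consP_succ (u : V) (p : ℕ → V) (i : ℕ) : consP u p (i + 1) = p i := rfl

/-- Append a vertex to a path of length `n`. -/
def snocP (n : ℕ) (p : ℕ → V) (u : V) : ℕ → V := fun i => if i ≤ n then p i else u

theorem snocP_le {n i : ℕ} (p : ℕ → V) (u : V) (hi : i ≤ n) : snocP n p u i = p i := if_pos hi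

theorem snocP_last {n : ℕ} (p : ℕ → V) (u : V) : snocP n p u (n + 1) = u := if_neg (by omega)

theorem arc_zero (v : V) : Arc adj 0 (fun _ => v) :=
  ⟨fun i hi => absurd hi (Nat.not_lt_zero i), fun i hi => absurd hi (by omega)⟩

theorem Arc.cons {n : ℕ} {p : ℕ → V} {u : V} (hp : Arc adj n p) (hu : adj u (p 0)) (hn : 1 ≤ n → p 1 ≠ u) :
    Arc adj (n + 1) (consP u p) := by
  refine ⟨fun i hi => ?_, fun i hi => ?_⟩
  · rcases i with - | i
    · exact hu
    · exact hp.1 i (by omega)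
  · rcases i with - | i
    · exact hn (by omega)
    · exact hp.2 i (by omega)

theorem arc_one {u v : V} (huv : adj u v) : Arc adj 1 (consP u (fun _ => v)) :=
  (arc_zero v).cons huv fun h0 => absurd h0 (by omega)

theorem arc_two {u v w : V} (huv : adj u v) (hvw : adj v w) (hne : w ≠ u) :
    Arc adj 2 (consP u (consP v fun _ => w)) := (arc_one hvw).cons huv fun _ => hne

theorem Arc.snoc {n : ℕ} {p : ℕ → V} {u : V} (hp : Arc adj n p) (hu : adj (p n) u) (hn : 1 ≤ n → u ≠ p (n - 1)) :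
    Arc adj (n + 1) (snocP n p u) := by
  refine ⟨fun i hi => ?_, fun i hi => ?_⟩
  · rw [snocP_le p u (by omega : i ≤ n)]
    rcases eq_or_lt_of_le (by omega : i ≤ n) with rfl | hlt
    · rwa [snocP_last]
    · rw [snocP_le p u (by omega : i + 1 ≤ n)]
      exact hp.1 i hlt
  · rw [snocP_le p u (by omega : i ≤ n)]
    rcases eq_or_lt_of_le hi with e | hlt
    · have : i + 2 = n + 1 := e
      rw [this, snocP_last]
      have hh := hn (by omega)
      rwa [show n - 1 = i by omega] at hh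
    · rw [snocP_le p u (by omega : i + 2 ≤ n)]
      exact hp.2 i (by omega)

theorem Arc.shift {n m : ℕ} {p : ℕ → V} (hp : Arc adj n p) (j : ℕ) (h : j + m ≤ n) :
    Arc adj m fun i => p (j + i) :=
  ⟨fun i hi => hp.1 (j + i) (by omega), fun i hi => hp.2 (j + i) (by omega)⟩

theorem Arc.mono {n m : ℕ} {p : ℕ → V} (hp : Arc adj n p) (h : m ≤ n) : Arc adj m p :=
  ⟨fun i hi => hp.1 i (by omega), fun i hi => hp.2 i (by omega)⟩

theorem Arc.ne_pred {n i : ℕ} {p : ℕ → V} (hp : Arc adj n p) (hi : i + 2 ≤ n) : p i ≠ p (i + 2) :=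
  (hp.2 i hi).symm

theorem Arc.wk {n : ℕ} {p : ℕ → V} (hp : Arc adj n p) {i j : ℕ} (hij : i ≤ j) (hj : j ≤ n) :
    Wk adj (j - i) (p i) (p j) := by
  have := wk_path hp.1 (j - i) i (by omega)
  rwa [Nat.add_sub_cancel' hij] at this

namespace Hyp

variable (h : Hyp G adj A z)
include h

theorem wk_symm : ∀ {n : ℕ} {u v : V}, Wk adj n u v → Wk adj n v u
  | 0, _, _, e => e.symm
  | _ + 1, _, _, ⟨_, hx, h1⟩ => (wk_symm h1).snoc (h.symm hx)

theorem wk_smul (g : G) : ∀ {n : ℕ} {u v : V}, Wk adj n u v → Wk adj n (g • u) (g • v)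
  | 0, _, _, (e : _ = _) => congrArg (g • ·) e
  | _ + 1, _, _, ⟨x, hx, h1⟩ => ⟨g • x, h.smul_adj g hx, wk_smul g h1⟩

theorem arc_rev {n : ℕ} {p : ℕ → V} (hp : Arc adj n p) : Arc adj n fun i => p (n - i) := by
  refine ⟨fun i hi => ?_, fun i hi => ?_⟩
  · have := h.symm (hp.1 (n - (i + 1)) (by omega))
    rwa [show n - (i + 1) + 1 = n - i by omega] at this
  · have := hp.2 (n - (i + 2)) (by omega)
    rw [show n - (i + 2) + 2 = n - i by omega] at this
    exact this.symm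

theorem arc_smul (g : G) {n : ℕ} {p : ℕ → V} (hp : Arc adj n p) : Arc adj n fun i => g • p i :=
  ⟨fun i hi => h.smul_adj g (hp.1 i hi), fun i hi e => hp.2 i hi (smul_left_cancel g e)⟩

theorem A_arc {n : ℕ} {p : ℕ → V} (hp : Arc adj n p) :
    ∀ {i : ℕ}, i ≤ n → (A (p i) ↔ (A (p 0) ↔ Even i))
  | 0, _ => by simp
  | i + 1, hi => by
    have h1 := A_arc hp (i := i) (by omega)
    have h2 := h.bip (hp.1 i (by omega))
    rw [Nat.even_add_one]
    tauto

theorem exists_extend {n : ℕ} {p : ℕ → V} (hp : Arc adj n p) :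
    ∃ u, adj (p n) u ∧ (1 ≤ n → u ≠ p (n - 1)) := by
  rcases n with - | n
  · obtain ⟨u, hu⟩ := h.deg (p 0)
    exact ⟨u, hu, fun h0 => absurd h0 (by omega)⟩
  · obtain ⟨w₁, w₂, h1, -, -, a1, -, -⟩ := h.nbr (h.symm (hp.1 n (by omega)))
    exact ⟨w₁, a1, fun _ => by simpa using h1⟩

theorem extend {n : ℕ} {p : ℕ → V} (hp : Arc adj n p) :
    ∀ d : ℕ, ∃ q, Arc adj (n + d) q ∧ ∀ i ≤ n, q i = p i
  | 0 => ⟨p, hp, fun _ _ => rfl⟩
  | d + 1 => by
    obtain ⟨q, hq, hqp⟩ := extend hp d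
    obtain ⟨u, hu, hne⟩ := h.exists_extend hq
    exact ⟨_, hq.snoc hu hne, fun i hi => (snocP_le q u (by omega)).trans (hqp i hi)⟩

theorem same_type (u v : V) :
    ((A u ↔ A v) → ∃ g : G, g • u = v) ∧ (¬ (A u ↔ A v) → ∃ g : G, adj (g • u) v) := by
  induction h.conn u v with
  | refl => exact ⟨fun _ => ⟨1, one_smul G u⟩, fun hne => absurd Iff.rfl hne⟩
  | @tail x y _ hxy ih =>
    have hb := h.bip hxy
    refine ⟨fun hs => ?_, fun hd => ?_⟩
    · obtain ⟨g, hg⟩ := ih.2 (by tauto)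
      obtain ⟨k, hk, hky⟩ := h.trans (h.symm hg) hxy
      exact ⟨k * g, by rw [mul_smul, hky]⟩
    · obtain ⟨g, hg⟩ := ih.1 (by tauto)
      exact ⟨g, by rw [hg]; exact hxy⟩

end Hyp

/-- Stabilizers are transitive on arcs of length `k` starting at vertices of one kind. -/
def Orbit (G : Type*) [Group G] {V : Type*} [MulAction G V] (adj : V → V → Prop) (A : V → Prop) (k : ℕ) : Prop :=
  ∀ p q, Arc adj k p → Arc adj k q → (A (p 0) ↔ A (q 0)) → ∃ g : G, ∀ i ≤ k, g • p i = q i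

/-- The stabilizer of an arc of length `k` moves its extension. -/
def Mov (G : Type*) [Group G] {V : Type*} [MulAction G V] (adj : V → V → Prop) (k : ℕ) : Prop :=
  ∀ p, Arc adj (k + 1) p → ∃ g : G, (∀ i ≤ k, g • p i = p i) ∧ g • p (k + 1) ≠ p (k + 1)

/-- From length `k` on, an arc stabilizer fixes the extension at the ends of the second parity. -/
def Fail (G : Type*) [Group G] {V : Type*} [MulAction G V] (adj : V → V → Prop) (A : V → Prop) (b k : ℕ) : Prop :=
  ∀ m p, k ≤ m → Arc adj (m + 1) p → (A (p m) ↔ ¬ Even b) →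
    ∀ g : G, (∀ i ≤ m, g • p i = p i) → g • p (m + 1) = p (m + 1)

/-- The standing hypotheses with the critical length `b`. -/
structure HypB (G : Type*) [Group G] {V : Type*} [MulAction G V] (adj : V → V → Prop) (A : V → Prop)
    (z : V → G) (b : ℕ) : Prop extends Hyp G adj A z where
  pos : 1 ≤ b
  low : ∀ {a δ v : V} {k : ℕ}, k ≤ b → A a → adj a δ → Wk adj k a v → z δ • v = v
  crit : ∃ p : ℕ → V, Arc adj b p ∧ A (p 0) ∧ ∃ δ, adj (p 0) δ ∧ z δ ∉ Q G adj (p b)

/-- Every arc of length `b` starting at a vertex of the first kind is critical. -/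
def AllCrit (G : Type*) [Group G] {V : Type*} [MulAction G V] (adj : V → V → Prop) (A : V → Prop)
    (z : V → G) (b : ℕ) : Prop :=
  ∀ p, Arc adj b p → A (p 0) → ∃ δ, adj (p 0) δ ∧ z δ ∉ Q G adj (p b)

theorem Hyp.exists_b (h : Hyp G adj A z) (v : V) : ∃ b, HypB G adj A z b := by
  classical
  let L : ℕ → Prop := fun n => ∀ a δ w, A a → adj a δ → Wk adj n a w → z δ • w = w
  obtain ⟨a, haA⟩ : ∃ a, A a := by
    obtain ⟨u, hu⟩ := h.deg v
    by_cases hv : A v
    · exact ⟨v, hv⟩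
    · exact ⟨u, h.isA hv hu⟩
  have hex : ∃ n, ¬ L n := by
    by_contra hall
    push Not at hall
    obtain ⟨δ, hδ⟩ := h.deg a
    refine h.z_ne (h.notA haA hδ) (h.eq_one_of_fix_all (fun w => ?_) a)
    have key : ∃ n, Wk adj n a w := by
      induction h.conn a w with
      | refl => exact ⟨0, rfl⟩
      | tail _ hxy ih => obtain ⟨n, hn⟩ := ih; exact ⟨n + 1, hn.snoc hxy⟩
    obtain ⟨n, hn⟩ := key
    exact hall n a δ w haA hδ hn
  have hm := Nat.find_spec hex
  have h0 : L 0 := fun a δ w ha hδ e => e ▸ (h.z_fix ha hδ).1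
  have h1 : L 1 := fun a δ w ha hδ e => by
    obtain ⟨x, hx, rfl⟩ := e
    exact (h.z_fix ha hδ).2 _ hx
  have hm2 : 2 ≤ Nat.find hex := by
    by_contra hlt
    rcases (by omega : Nat.find hex = 0 ∨ Nat.find hex = 1) with e | e <;> rw [e] at hm
    · exact hm h0
    · exact hm h1
  refine ⟨Nat.find hex - 1, { h with pos := by omega, low := ?_, crit := ?_ }⟩
  · intro a δ w k hk ha hδ hw
    exact Classical.not_not.mp (Nat.find_min hex (show k < Nat.find hex by omega)) a δ w ha hδ hw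
  · have hm' : ∃ a δ w, A a ∧ adj a δ ∧ Wk adj (Nat.find hex) a w ∧ z δ • w ≠ w := by
      by_contra hno
      push Not at hno
      exact hm hno
    obtain ⟨a₀, δ, w, ha, hδ, hw, hne⟩ := hm'
    obtain ⟨b, hb⟩ : ∃ b, Nat.find hex = b + 1 := ⟨Nat.find hex - 1, by omega⟩
    rw [hb] at hw
    obtain ⟨y, hy, hyw⟩ := hw.unsnoc
    obtain ⟨p, hp0, hpb, hp⟩ := exists_path hy
    rw [hb, Nat.add_sub_cancel]
    refine ⟨p, ⟨hp, fun i hi e => hne ?_⟩, hp0 ▸ ha, δ, hp0 ▸ hδ, fun hQ => hne (hQ.2 w (hpb ▸ hyw))⟩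
    have w1 := wk_path hp i 0 (by omega)
    have w2 := wk_path hp (b - (i + 2)) (i + 2) (by omega)
    rw [Nat.zero_add, hp0] at w1
    rw [e, Nat.add_sub_cancel' hi, hpb] at w2
    exact Classical.not_not.mp (Nat.find_min hex (show i + (b - (i + 2)) + 1 < Nat.find hex by omega))
      a₀ δ w ha hδ ((w1.trans w2).snoc hyw)

namespace HypB

variable {b : ℕ} (h : HypB G adj A z b)
include h

theorem z_mem_Q {β v : V} {k : ℕ} (hβ : ¬ A β) (hw : Wk adj k β v) (hk : k ≤ b) : z β ∈ Q G adj v := by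
  have fix : ∀ {j : ℕ} {u : V}, Wk adj j β u → j ≤ b + 1 → z β • u = u := by
    rintro (- | j) u hu hj
    · obtain rfl : β = u := hu
      exact h.z_fixes_self hβ
    · obtain ⟨x, hx, hxu⟩ := hu
      exact h.low (by omega) (h.isA hβ hx) (h.symm hx) hxu
  exact ⟨fix hw (by omega), fun u hu => fix (hw.snoc hu) (by omega)⟩

/-- On a critical arc every involution next to the start, off the arc, moves the neighbours of the end. -/
theorem crit_z {p : ℕ → V} (hp : Arc adj b p) (hA : A (p 0))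
    (hc : ∃ δ, adj (p 0) δ ∧ z δ ∉ Q G adj (p b)) {δ : V} (hδ : adj (p 0) δ) (hne : δ ≠ p 1) :
    z δ ∉ Q G adj (p b) := by
  obtain ⟨ε, hε, hεQ⟩ := hc
  have h1 : adj (p 0) (p 1) := hp.1 0 h.pos
  have hQ1 : z (p 1) ∈ Q G adj (p b) :=
    h.z_mem_Q (h.notA hA h1) (hp.wk h.pos le_rfl) (by omega)
  have hε1 : ε ≠ p 1 := fun e => hεQ (e ▸ hQ1)
  rcases eq_or_ne δ ε with rfl | hde
  · exact hεQ
  · intro hδQ
    exact hεQ (h.z_sum hA hδ h1 hε hne hde hε1.symm ▸ mul_mem hδQ hQ1)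

theorem crit_move {p : ℕ → V} (hp : Arc adj b p) (hA : A (p 0))
    (hc : ∃ δ, adj (p 0) δ ∧ z δ ∉ Q G adj (p b)) {δ w : V} (hδ : adj (p 0) δ) (hne : δ ≠ p 1)
    (hw : adj (p b) w) (hwne : w ≠ p (b - 1)) : z δ • w ≠ w := by
  have hprev : adj (p b) (p (b - 1)) := by
    have := h.symm (hp.1 (b - 1) (by have := h.pos; omega))
    rwa [Nat.sub_add_cancel h.pos] at this
  have w1 := hp.wk (Nat.zero_le (b - 1)) (Nat.sub_le b 1)
  have w2 := hp.wk (Nat.zero_le b) le_rfl
  exact h.moves_all (h.low (by omega) hA hδ w2) (h.low (by omega) hA hδ w1) hprev hw hwne.symm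
    (h.crit_z hp hA hc hδ hne)

theorem orbit_zero : Orbit G adj A 0 := fun p q _ _ hs => by
  obtain ⟨g, hg⟩ := (h.same_type (p 0) (q 0)).1 hs
  exact ⟨g, fun i hi => by obtain rfl : i = 0 := (by omega); exact hg⟩

theorem mov_zero : Mov G adj 0 := fun p hp => by
  obtain ⟨w₁, w₂, h1, -, -, a1, -, -⟩ := h.nbr (hp.1 0 (by omega))
  obtain ⟨g, hg, hgw⟩ := h.trans (hp.1 0 (by omega)) a1
  exact ⟨g, fun i hi => by obtain rfl : i = 0 := (by omega); exact hg, fun e => h1 (hgw.symm.trans e)⟩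

theorem mov_one : Mov G adj 1 := fun p hp => by
  obtain ⟨g, hg, hgw⟩ := h.move' (h.symm (hp.1 0 (by omega))) (hp.1 1 (by omega)) (hp.ne_pred (i := 0) le_rfl)
  refine ⟨g, fun i hi => ?_, hgw⟩
  rcases (by omega : i = 0 ∨ i = 1) with rfl | rfl
  exacts [hg.2, hg.1]

theorem orbit_succ {k : ℕ} (ho : Orbit G adj A k) (hm : Mov G adj k) : Orbit G adj A (k + 1) := fun p q hp hq hs => by
  obtain ⟨g, hg⟩ := ho p q (hp.mono (by omega)) (hq.mono (by omega)) hs
  have hadj : adj (q k) (g • p (k + 1)) := hg k le_rfl ▸ h.smul_adj g (hp.1 k (by omega))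
  by_cases he : g • p (k + 1) = q (k + 1)
  · exact ⟨g, fun i hi => (Nat.lt_or_eq_of_le hi).elim (fun hlt => hg i (by omega)) fun e => e ▸ he⟩
  rcases k with - | k
  · obtain ⟨t, ht, htw⟩ := h.trans hadj (hq.1 0 (by omega))
    refine ⟨t * g, fun i hi => ?_⟩
    rcases (by omega : i = 0 ∨ i = 1) with rfl | rfl
    · rw [mul_smul, hg 0 le_rfl]; exact ht
    · rw [mul_smul]; exact htw
  obtain ⟨m, hm1, hm2⟩ := hm q hq
  have hne : q k ≠ g • p (k + 1 + 1) := fun e =>
    hp.2 k (by omega) (smul_left_cancel g (e.symm.trans (hg k (by omega)).symm))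
  have hsw := h.swap (hm1 (k + 1) le_rfl) (hm1 k (by omega)) (h.symm (hq.1 k (by omega))) (hq.1 (k + 1) (by omega))
    hadj (hq.ne_pred le_rfl) hne (Ne.symm he) hm2
  refine ⟨m * g, fun i hi => ?_⟩
  rcases Nat.lt_or_eq_of_le hi with hlt | rfl
  · rw [mul_smul, hg i (by omega), hm1 i (by omega)]
  · rw [mul_smul, hsw.2]

/-- Movers at the ends of the parity of the critical end. -/
theorem mov_end {k : ℕ} (hk : 1 ≤ k) (hkb : k ≤ b) (ho : Orbit G adj A k) {q : ℕ → V} (hq : Arc adj (k + 1) q)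
    (ht : A (q k) ↔ Even b) : ∃ g : G, (∀ i ≤ k, g • q i = q i) ∧ g • q (k + 1) ≠ q (k + 1) := by
  obtain ⟨p, hp, hA, hc⟩ := h.crit
  obtain ⟨δ, hδ, hδne⟩ : ∃ δ, adj (p 0) δ ∧ δ ≠ p 1 := by
    obtain ⟨w₁, -, h1, -, -, a1, -, -⟩ := h.nbr (hp.1 0 h.pos)
    exact ⟨w₁, a1, h1⟩
  have hr : Arc adj k fun i => p (b - k + i) := hp.shift _ (by omega)
  obtain ⟨g, hg⟩ := ho _ _ hr (hq.mono (by omega)) (by
    show A (p (b - k + 0)) ↔ A (q 0)
    have e1 := h.A_arc hr (i := k) le_rfl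
    simp only [show b - k + k = b by omega] at e1
    have e2 := h.A_arc hq (i := k) (by omega)
    have e3 := h.A_arc hp (i := b) le_rfl
    tauto)
  refine ⟨g * z δ * g⁻¹, fun i hi => ?_, fun e => ?_⟩
  · rw [← hg i hi, mul_smul, mul_smul, inv_smul_smul,
      h.low (show b - k + i ≤ b by omega) hA hδ (by simpa using hp.wk (Nat.zero_le (b - k + i)) (by omega))]
  · have hgb : g • p b = q k := by simpa [show b - k + k = b by omega] using hg k le_rfl
    refine h.crit_move hp hA hc hδ hδne (w := g⁻¹ • q (k + 1)) ?_ ?_ ?_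
    · simpa [← hgb] using h.smul_adj g⁻¹ (hq.1 k (by omega))
    · rw [ne_eq, inv_smul_eq_iff]
      have := hg (k - 1) (by omega)
      rw [show b - k + (k - 1) = b - 1 by omega] at this
      rw [this]
      have := hq.2 (k - 1) (by omega)
      rwa [show k - 1 + 2 = k + 1 by omega] at this
    · rw [mul_smul, mul_smul] at e
      exact smul_left_cancel g (e.trans (smul_inv_smul g _).symm)

theorem mov_even {k : ℕ} (hk : 2 ≤ k) (hkb : k ≤ b) (hke : Even k) (ho : Orbit G adj A k)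
    (hm : Mov G adj (k - 1)) : Mov G adj k := by
  intro q hq
  by_cases ht : A (q k) ↔ Even b
  · exact h.mov_end (by omega) hkb ho hq ht
  obtain ⟨s, hs, hs0⟩ := h.mov_end (by omega) hkb ho (h.arc_rev hq) (by
    show A (q (k + 1 - k)) ↔ Even b
    rw [show k + 1 - k = 1 by omega]
    have e1 := h.A_arc hq (i := k) (by omega)
    have e2 := h.A_arc hq (i := 1) (by omega)
    have : ¬ Even 1 := by decide
    tauto)
  have hs' : ∀ i, 1 ≤ i → i ≤ k + 1 → s • q i = q i := fun i h1 h2 => by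
    simpa [show k + 1 - (k + 1 - i) = i by omega] using hs (k + 1 - i) (by omega)
  replace hs0 : s • q 0 ≠ q 0 := by simpa using hs0
  obtain ⟨r, hr, hrne⟩ := hm (fun i => q (1 + i)) (hq.shift 1 (by omega))
  replace hrne : r • q (k + 1) ≠ q (k + 1) := by simpa [show 1 + (k - 1 + 1) = k + 1 by omega] using hrne
  have hr' : ∀ i, 1 ≤ i → i ≤ k → r • q i = q i := fun i h1 h2 => by
    simpa [show 1 + (i - 1) = i by omega] using hr (i - 1) (by omega)
  by_cases hr0 : r • q 0 = q 0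
  · exact ⟨r, fun i hi => (Nat.eq_zero_or_pos i).elim (fun e => e ▸ hr0) fun h1 => hr' i h1 hi, hrne⟩
  have hQ := h.inv_mul_fix (g := r) (k := s) (u := q 2) (w := q 0)
    (mem_T.mpr ⟨hr' 1 le_rfl (by omega), hr' 2 (by omega) hk⟩)
    (mem_T.mpr ⟨hs' 1 le_rfl (by omega), hs' 2 (by omega) (by omega)⟩) (hq.1 1 (by omega))
    (h.symm (hq.1 0 (by omega))) (hq.2 0 (by omega)) hr0 hs0
  refine ⟨r⁻¹ * s, fun i hi => ?_, fun e => hrne ?_⟩
  · rcases Nat.eq_zero_or_pos i with rfl | h1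
    · exact hQ.2 _ (h.symm (hq.1 0 (by omega)))
    · rw [mul_smul, hs' i h1 (by omega), inv_smul_eq_iff.mpr (hr' i h1 hi).symm]
  · rw [mul_smul, hs' (k + 1) (by omega) le_rfl, inv_smul_eq_iff] at e
    exact e.symm

theorem orbit_one : Orbit G adj A 1 := h.orbit_succ h.orbit_zero h.mov_zero

theorem orbit_two : Orbit G adj A 2 := h.orbit_succ h.orbit_one h.mov_one

theorem mov_two (hb : 2 ≤ b) : Mov G adj 2 := h.mov_even le_rfl hb (by decide) h.orbit_two h.mov_one

theorem orbit_three (hb : 2 ≤ b) : Orbit G adj A 3 := h.orbit_succ h.orbit_two (h.mov_two hb)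

theorem mov_odd {k : ℕ} (hk : 1 ≤ k) (hkb : k ≤ b) (ho : Orbit G adj A k) (hnot : ¬ Fail G adj A b k)
    (hko : ¬ Even k) : Mov G adj k := by
  intro q hq
  by_cases ht : A (q k) ↔ Even b
  · exact h.mov_end hk hkb ho hq ht
  simp only [Fail, not_forall] at hnot
  obtain ⟨m, p, hkm, hp, hpA, g, hg, hne⟩ := hnot
  have hp' : Arc adj (k + 1) fun i => p (m - k + i) := hp.shift _ (by omega)
  obtain ⟨t, ht'⟩ := ho _ _ (hp'.mono (by omega)) (hq.mono (by omega)) (by
    show A (p (m - k + 0)) ↔ A (q 0)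
    have e1 := h.A_arc hp' (i := k) (by omega)
    simp only [show m - k + k = m by omega] at e1
    have e2 := h.A_arc hq (i := k) (by omega)
    tauto)
  have hfix : ∀ i ≤ k, (t * g * t⁻¹) • q i = q i := fun i hi => by
    rw [← ht' i hi, mul_smul, mul_smul, inv_smul_smul, hg _ (by omega)]
  refine ⟨t * g * t⁻¹, hfix, fun e => hne ?_⟩
  obtain ⟨j, rfl⟩ : ∃ j, k = j + 1 := ⟨k - 1, by omega⟩
  have htm : t • p m = q (j + 1) := by simpa [show m - (j + 1) + (j + 1) = m by omega] using ht' (j + 1) le_rfl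
  have htp : t • p (m - 1) = q j := by simpa [show m - (j + 1) + j = m - 1 by omega] using ht' j (by omega)
  have hadj : adj (q (j + 1)) (t • p (m + 1)) := htm ▸ h.smul_adj t (hp.1 m (by omega))
  have hQ := h.fix_two (hfix (j + 1) le_rfl) (hfix j (by omega)) e (h.symm (hq.1 j (by omega)))
    (hq.1 (j + 1) (by omega)) (hq.ne_pred le_rfl)
  have := hQ.2 _ hadj
  rw [mul_smul, mul_smul, inv_smul_smul] at this
  exact smul_left_cancel t this

/-- Either arcs of the critical length form one orbit for each kind, or there is a failing length. -/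
theorem dichotomy : Orbit G adj A b ∨ ∃ k, ¬ Even k ∧ 3 ≤ k ∧ k < b ∧ Fail G adj A b k := by
  by_cases hF : ∃ k, ¬ Even k ∧ 3 ≤ k ∧ k < b ∧ Fail G adj A b k
  · exact Or.inr hF
  push Not at hF
  have key : ∀ k, k + 1 ≤ b → Orbit G adj A (k + 1) ∧ Mov G adj k := by
    intro k
    induction k with
    | zero => exact fun _ => ⟨h.orbit_one, h.mov_zero⟩
    | succ k ih =>
      intro hk
      obtain ⟨ho, hmk⟩ := ih (by omega)
      have hm : Mov G adj (k + 1) := by
        rcases Nat.eq_zero_or_pos k with rfl | hk0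
        · exact h.mov_one
        by_cases he : Even (k + 1)
        · exact h.mov_even (by omega) (by omega) he ho (by simpa using hmk)
        · refine h.mov_odd (by omega) (by omega) ho (fun hf => ?_) he
          exact hF (k + 1) he (by
            rcases (by omega : k = 1 ∨ 2 ≤ k) with rfl | h2
            · exact absurd (by decide : Even (1 + 1)) he
            · omega) (by omega) hf
      exact ⟨h.orbit_succ ho hm, hm⟩
  refine Or.inl ?_
  obtain ⟨j, hj⟩ : ∃ j, b = j + 1 := ⟨b - 1, by have := h.pos; omega⟩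
  rw [hj]
  exact (key j (by omega)).1

theorem allCrit_of_orbit (ho : Orbit G adj A b) : AllCrit G adj A z b := by
  intro q hq hqA
  obtain ⟨p, hp, hA, δ, hδ, hδQ⟩ := h.crit
  obtain ⟨g, hg⟩ := ho p q hp hq (iff_of_true hA hqA)
  refine ⟨g • δ, hg 0 (by omega) ▸ h.smul_adj g hδ, fun hc => hδQ ?_⟩
  have hc' := h.Q_conj (g := g⁻¹) hc
  rwa [h.z_smul g (h.notA hA hδ), inv_inv, ← mul_assoc, ← mul_assoc, inv_mul_cancel, one_mul,
    inv_mul_cancel_right, inv_smul_eq_iff.mpr (hg b le_rfl).symm] at hc'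

/-- The centres at the two ends of an arc of length at most `b + 1` differ. -/
theorem centre_ne (hC : AllCrit G adj A z b) {j : ℕ} {y : ℕ → V} (hy : Arc adj j y) (h0 : ¬ A (y 0))
    (hj : ¬ A (y j)) (hj2 : 2 ≤ j) (hjb : j ≤ b + 1) : z (y 0) ≠ z (y j) := by
  intro e
  obtain ⟨q, hq, hqy⟩ := h.extend hy (b + 1 - j)
  rw [show j + (b + 1 - j) = b + 1 by omega] at hq
  rw [← hqy 0 (by omega), ← hqy j le_rfl] at e
  rw [← hqy j le_rfl] at hj
  have hA1 : A (q 1) := h.isA (hqy 0 (by omega) ▸ h0) (hq.1 0 (by omega))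
  have hq' : Arc adj b fun i => q (1 + i) := hq.shift 1 (by omega)
  refine h.crit_z hq' hA1 (hC _ hq' hA1) (h.symm (hq.1 0 (by omega))) (hq.ne_pred (i := 0) (by omega)) ?_
  show z (q 0) ∈ Q G adj (q (1 + b))
  rw [e]
  exact h.z_mem_Q hj (hq.wk (by omega) (by omega)) (by omega)

end HypB

end Cfsg.Agent.Transfer.Goldschmidt
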