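import Cfsg.Agent.Lib.Grp.Frattini

/-!
# Cubic graphs with a central involution at every second vertex

A group acts on a connected cubic graph with two kinds of vertices; the stabilizer of a vertex of the second kind
centralizes an involution attached to it, and that involution fixes the neighbours of every vertex adjacent to it.
-/

set_option autoImplicit false

namespace Cfsg.Agent.Transfer.Goldschmidt

open MulAction Subgroup

variable {G V : Type*} [Group G] [MulAction G V] {adj : V → V → Prop} {A : V → Prop} {z : V → G}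

/-- The edge stabilizer. -/
abbrev T (G : Type*) [Group G] {V : Type*} [MulAction G V] (v u : V) : Subgroup G :=
  stabilizer G v ⊓ stabilizer G u

/-- The element fixes a vertex and its neighbours. -/
def FixN (adj : V → V → Prop) (g : G) (v : V) : Prop := g • v = v ∧ ∀ u, adj v u → g • u = u

/-- The stabilizer of a vertex and its neighbours. -/
def Q (G : Type*) [Group G] {V : Type*} [MulAction G V] (adj : V → V → Prop) (v : V) : Subgroup G where
  carrier := {g | FixN adj g v}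
  one_mem' := ⟨one_smul G v, fun u _ => one_smul G u⟩
  mul_mem' {a b} ha hb := ⟨by rw [mul_smul, hb.1, ha.1], fun u hu => by rw [mul_smul, hb.2 u hu, ha.2 u hu]⟩
  inv_mem' {a} ha := ⟨inv_smul_eq_iff.mpr ha.1.symm, fun u hu => inv_smul_eq_iff.mpr (ha.2 u hu).symm⟩

theorem mem_Q {g : G} {v : V} : g ∈ Q G adj v ↔ g • v = v ∧ ∀ u, adj v u → g • u = u := Iff.rfl

theorem mem_T {g : G} {v u : V} : g ∈ T G v u ↔ g • v = v ∧ g • u = u := Iff.rfl

/-- The standing hypotheses. -/
structure Hyp (G : Type*) [Group G] {V : Type*} [MulAction G V] (adj : V → V → Prop) (A : V → Prop)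
    (z : V → G) : Prop where
  symm : ∀ {u v : V}, adj u v → adj v u
  smul_adj : ∀ (g : G) {u v : V}, adj u v → adj (g • u) (g • v)
  A_smul : ∀ (g : G) {v : V}, A v → A (g • v)
  bip : ∀ {u v : V}, adj u v → (A u ↔ ¬ A v)
  conn : ∀ u v : V, Relation.ReflTransGen adj u v
  fin : ∀ v : V, Finite (stabilizer G v)
  deg : ∀ v : V, ∃ u, adj v u
  nbr : ∀ {v u : V}, adj v u → ∃ w₁ w₂, w₁ ≠ u ∧ w₂ ≠ u ∧ w₁ ≠ w₂ ∧ adj v w₁ ∧ adj v w₂ ∧
    ∀ w, adj v w → w = u ∨ w = w₁ ∨ w = w₂
  trans : ∀ {v u w : V}, adj v u → adj v w → ∃ g ∈ stabilizer G v, g • u = w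
  move : ∀ {v u : V}, adj v u → ∃ g : G, g • v = v ∧ g • u = u ∧ ∃ w, adj v w ∧ g • w ≠ w
  two : ∀ {v u : V}, adj v u → IsPGroup 2 (T G v u)
  faithful : ∀ {v u : V}, adj v u → ∀ N : Subgroup G, N ≤ T G v u →
    (∀ g ∈ stabilizer G v, ∀ n ∈ N, g * n * g⁻¹ ∈ N) → (∀ g ∈ stabilizer G u, ∀ n ∈ N, g * n * g⁻¹ ∈ N) → N = ⊥
  z_smul : ∀ (g : G) {b : V}, ¬ A b → z (g • b) = g * z b * g⁻¹
  z_ne : ∀ {b : V}, ¬ A b → z b ≠ 1
  z_sq : ∀ {b : V}, ¬ A b → z b * z b = 1
  z_fix : ∀ {a b : V}, A a → adj a b → z b ∈ Q G adj a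
  no_central : ∀ {a b : V}, A a → adj a b → ∀ x ∈ T G a b, (∀ g ∈ stabilizer G a, g * x = x * g) → x * x = 1 →
    x = 1

/-- A walk of a given length. -/
def Wk (adj : V → V → Prop) : ℕ → V → V → Prop
  | 0, u, v => u = v
  | n + 1, u, v => ∃ w, adj u w ∧ Wk adj n w v

/-- A path without immediate return. -/
def Arc (adj : V → V → Prop) (n : ℕ) (p : ℕ → V) : Prop :=
  (∀ i < n, adj (p i) (p (i + 1))) ∧ ∀ i, i + 2 ≤ n → p (i + 2) ≠ p i

theorem card_le_two {H K : Subgroup G} [Finite H] (hK : K ≤ H)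
    (h : ∀ a ∈ H, ∀ b ∈ H, a ∉ K → b ∉ K → a⁻¹ * b ∈ K) : Nat.card H ≤ 2 * Nat.card K := by
  classical
  haveI : Finite K := Finite.of_injective _ (Subgroup.inclusion_injective hK)
  have e : Nat.card (K × Bool) = 2 * Nat.card K := by rw [Nat.card_prod, mul_comm]; simp
  by_cases hH : ∃ a ∈ H, a ∉ K
  · obtain ⟨a, ha, haK⟩ := hH
    rw [← e]
    refine Nat.card_le_card_of_injective
      (fun x : H => if hx : (x : G) ∈ K then ((⟨x, hx⟩ : K), false) else (⟨a⁻¹ * x, h a ha x x.2 haK hx⟩, true)) ?_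
    intro x y hxy
    simp only at hxy
    split_ifs at hxy with hx hy hy <;> simp at hxy
    · exact hxy
    · exact Subtype.ext (by simpa using congrArg Subtype.val hxy)
  · push Not at hH
    have : H = K := le_antisymm hH hK
    subst this
    omega

theorem inv_of_sq {x : G} (h : x * x = 1) : x⁻¹ = x := inv_eq_of_mul_eq_one_right h

theorem conj_eq_self_iff {g x : G} : g * x * g⁻¹ = x ↔ g * x = x * g := mul_inv_eq_iff_eq_mul

namespace Hyp

variable (h : Hyp G adj A z)
include h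

theorem A_smul_iff (g : G) {v : V} : A (g • v) ↔ A v :=
  ⟨fun hv => by simpa using h.A_smul g⁻¹ hv, h.A_smul g⟩

theorem B_smul (g : G) {v : V} (hv : ¬ A v) : ¬ A (g • v) := fun hA => hv ((h.A_smul_iff g).mp hA)

theorem notA {a b : V} (ha : A a) (hab : adj a b) : ¬ A b := (h.bip hab).mp ha

theorem isA {b a : V} (hb : ¬ A b) (hba : adj b a) : A a := by
  by_contra hA
  exact hb ((h.bip hba).mpr hA)

theorem adj_smul_of_fix {g : G} {v u : V} (hg : g • v = v) (hu : adj v u) : adj v (g • u) := by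
  simpa [hg] using h.smul_adj g hu

theorem adj_ne {u v : V} (huv : adj u v) : u ≠ v := by
  rintro rfl
  have := h.bip huv
  tauto

theorem only {v u w x : V} (hu : adj v u) (hw : adj v w) (hx : adj v x) (huw : u ≠ w) (hux : u ≠ x)
    (hwx : w ≠ x) {y : V} (hy : adj v y) : y = u ∨ y = w ∨ y = x := by
  obtain ⟨w₁, w₂, -, -, -, -, -, hall⟩ := h.nbr hu
  rcases hall w hw with rfl | rfl | rfl
  · exact absurd rfl huw
  all_goals
    rcases hall x hx with rfl | rfl | rfl
    all_goals first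
      | exact absurd rfl hux
      | exact absurd rfl hwx
      | (rcases hall y hy with e | e | e <;> simp [e])

theorem other {v u w : V} (hu : adj v u) (hw : adj v w) (huw : u ≠ w) :
    ∃ x, adj v x ∧ x ≠ u ∧ x ≠ w ∧ ∀ y, adj v y → y = u ∨ y = w ∨ y = x := by
  obtain ⟨w₁, w₂, h1, h2, h12, a1, a2, hall⟩ := h.nbr hu
  rcases hall w hw with rfl | rfl | rfl
  · exact absurd rfl huw
  · exact ⟨w₂, a2, h2, h12.symm, fun y hy => h.only hu hw a2 huw h2.symm h12 hy⟩
  · exact ⟨w₁, a1, h1, h12, fun y hy => h.only hu hw a1 huw h1.symm h12.symm hy⟩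

/-- An element of an edge stabilizer moving a neighbour interchanges the two others. -/
theorem swap {g : G} {v u w w' : V} (hgv : g • v = v) (hgu : g • u = u) (hu : adj v u) (hw : adj v w)
    (hw' : adj v w') (huw : u ≠ w) (huw' : u ≠ w') (hww' : w ≠ w') (hg : g • w ≠ w) :
    g • w = w' ∧ g • w' = w := by
  have h1 : g • w = w' := by
    rcases h.only hu hw hw' huw huw' hww' (h.adj_smul_of_fix hgv hw) with e | e | e
    · exact absurd (smul_left_cancel g (e.trans hgu.symm)) huw.symm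
    · exact absurd e hg
    · exact e
  refine ⟨h1, ?_⟩
  rcases h.only hu hw hw' huw huw' hww' (h.adj_smul_of_fix hgv hw') with e | e | e
  · exact absurd (smul_left_cancel g (e.trans hgu.symm)) huw'.symm
  · exact e
  · exact absurd (smul_left_cancel g (h1.trans e.symm)) hww'

theorem fix_two {g : G} {v u w : V} (hgv : g • v = v) (hgu : g • u = u) (hgw : g • w = w) (hu : adj v u)
    (hw : adj v w) (huw : u ≠ w) : g ∈ Q G adj v := by
  refine ⟨hgv, fun y hy => ?_⟩
  obtain ⟨x, hx, hxu, hxw, hall⟩ := h.other hu hw huw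
  rcases hall y hy with rfl | rfl | rfl
  · exact hgu
  · exact hgw
  · by_contra hne
    have := (h.swap hgv hgu hu hx hw hxu.symm huw hxw hne).2
    exact hxw (this.symm.trans hgw)

theorem moves_all {g : G} {v u w : V} (hgv : g • v = v) (hgu : g • u = u) (hu : adj v u) (hw : adj v w)
    (huw : u ≠ w) (hg : g ∉ Q G adj v) : g • w ≠ w := fun e => hg (h.fix_two hgv hgu e hu hw huw)

theorem inv_mul_fix {g k : G} {v u w : V} (hg : g ∈ T G v u) (hk : k ∈ T G v u) (hu : adj v u) (hw : adj v w)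
    (huw : u ≠ w) (hgw : g • w ≠ w) (hkw : k • w ≠ w) : g⁻¹ * k ∈ Q G adj v := by
  obtain ⟨x, hx, hxu, hxw, -⟩ := h.other hu hw huw
  have h1 := h.swap hg.1 hg.2 hu hw hx huw hxu.symm hxw.symm hgw
  have h2 := h.swap hk.1 hk.2 hu hw hx huw hxu.symm hxw.symm hkw
  refine h.fix_two ?_ ?_ ?_ hu hw huw
  · rw [mul_smul, hk.1, inv_smul_eq_iff.mpr hg.1.symm]
  · rw [mul_smul, hk.2, inv_smul_eq_iff.mpr hg.2.symm]
  · rw [mul_smul, h2.1, ← h1.1, inv_smul_smul]

theorem move' {v u w : V} (hu : adj v u) (hw : adj v w) (huw : u ≠ w) :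
    ∃ g ∈ T G v u, g • w ≠ w := by
  obtain ⟨g, hgv, hgu, x, hx, hgx⟩ := h.move hu
  exact ⟨g, ⟨hgv, hgu⟩, fun e => hgx ((h.fix_two hgv hgu e hu hw huw).2 x hx)⟩

theorem Q_conj {g q : G} {v : V} (hq : q ∈ Q G adj v) : g * q * g⁻¹ ∈ Q G adj (g • v) := by
  refine ⟨by rw [mul_smul, mul_smul, inv_smul_smul, hq.1], fun u hu => ?_⟩
  have := hq.2 (g⁻¹ • u) (by simpa using h.smul_adj g⁻¹ hu)
  rw [mul_smul, mul_smul, this, smul_inv_smul]

theorem Q_le_T {v u : V} (hu : adj v u) : Q G adj v ≤ T G v u := fun _ hg => ⟨hg.1, hg.2 u hu⟩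

theorem T_finite {v u : V} : Finite (T G v u) :=
  haveI := h.fin v
  Finite.of_injective _ (Subgroup.inclusion_injective (inf_le_left : T G v u ≤ stabilizer G v))

theorem T_card_le {v u w : V} (hu : adj v u) (hw : adj v w) (huw : u ≠ w) :
    Nat.card (T G v u) ≤ 2 * Nat.card (Q G adj v) := by
  haveI := h.T_finite (v := v) (u := u)
  refine card_le_two (h.Q_le_T hu) fun a ha b hb haQ hbQ => ?_
  exact h.inv_mul_fix ha hb hu hw huw (h.moves_all ha.1 ha.2 hu hw huw haQ)
    (h.moves_all hb.1 hb.2 hu hw huw hbQ)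

/-- Two edge stabilizers at a vertex generate its stabilizer. -/
theorem gen_stab {H : Subgroup G} {v u w : V} (hu : adj v u) (hw : adj v w) (huw : u ≠ w)
    (h1 : T G v u ≤ H) (h2 : T G v w ≤ H) : stabilizer G v ≤ H := by
  obtain ⟨x, hx, hxu, hxw, hall⟩ := h.other hu hw huw
  obtain ⟨t, ht, htw⟩ := h.move' hu hw huw
  obtain ⟨t', ht', htu⟩ := h.move' hw hu huw.symm
  have e1 := h.swap ht.1 ht.2 hu hw hx huw hxu.symm hxw.symm htw
  have e2 := h.swap ht'.1 ht'.2 hw hu hx huw.symm hxw.symm hxu.symm htu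
  intro g hg
  have key : ∀ k ∈ H, k • v = v → k • u = g • u → g ∈ H := by
    intro k hk hkv hku
    have : k⁻¹ * g ∈ H := h1 (mem_T.mpr ⟨by rw [mul_smul, mem_stabilizer_iff.mp hg,
      inv_smul_eq_iff.mpr hkv.symm], by rw [mul_smul, ← hku, inv_smul_smul]⟩)
    simpa using H.mul_mem hk this
  rcases hall (g • u) (h.adj_smul_of_fix hg hu) with e | e | e
  · exact key 1 H.one_mem (one_smul G v) (by rw [one_smul, e])
  · refine key (t * t') (H.mul_mem (h1 ht) (h2 ht')) (by rw [mul_smul, ht'.1, ht.1]) ?_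
    rw [mul_smul, e2.1, e1.2, e]
  · exact key t' (h2 ht') ht'.1 (by rw [e2.1, e])

theorem z_comm {g : G} {b : V} (hb : ¬ A b) (hg : g • b = b) : g * z b = z b * g := by
  have := h.z_smul g hb
  rw [hg] at this
  exact conj_eq_self_iff.mp this.symm

theorem z_fixes_self {b : V} (hb : ¬ A b) : z b • b = b := by
  obtain ⟨a, hba⟩ := h.deg b
  exact (h.z_fix (h.isA hb hba) (h.symm hba)).2 b (h.symm hba)

theorem z_commute {a b c : V} (ha : A a) (hab : adj a b) (hac : adj a c) : z b * z c = z c * z b :=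
  (h.z_comm (h.notA ha hab) ((h.z_fix ha hac).2 b hab)).symm

theorem z_inj {a b c : V} (ha : A a) (hab : adj a b) (hac : adj a c) (e : z b = z c) : b = c := by
  by_contra hne
  refine h.z_ne (h.notA ha hab) (h.no_central ha hab (z b) (h.Q_le_T hab (h.z_fix ha hab)) (fun g hg => ?_)
    (h.z_sq (h.notA ha hab)))
  have hle : stabilizer G a ≤ centralizer ({z b} : Set G) :=
    h.gen_stab hab hac hne
      (fun t ht => mem_centralizer_singleton_iff.mpr (h.z_comm (h.notA ha hab) ht.2))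
      (fun t ht => mem_centralizer_singleton_iff.mpr (e ▸ h.z_comm (h.notA ha hac) ht.2))
  exact mem_centralizer_singleton_iff.mp (hle hg)

theorem z_sum {a b c d : V} (ha : A a) (hb : adj a b) (hc : adj a c) (hd : adj a d) (hbc : b ≠ c) (hbd : b ≠ d)
    (hcd : c ≠ d) : z b * z c = z d := by
  have cbc := h.z_commute ha hb hc
  have cbd := h.z_commute ha hb hd
  have ccd := h.z_commute ha hc hd
  set e := z b * z c * z d with he
  have he2 : e * e = 1 := by
    calc e * e = z b * z c * (z d * z b) * z c * z d := by rw [he]; group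
      _ = z b * z c * z b * (z d * z c) * z d := by rw [← cbd]; group
      _ = z b * (z c * z b) * z c * (z d * z d) := by rw [← ccd]; group
      _ = (z b * z b) * (z c * z c) := by rw [h.z_sq (h.notA ha hd), ← cbc]; group
      _ = 1 := by rw [h.z_sq (h.notA ha hb), h.z_sq (h.notA ha hc), mul_one]
  have key : ∀ g, g • a = a → ∀ u v w, adj a u → adj a v → adj a w → g • u = u → u ≠ v → u ≠ w → v ≠ w →
      (g * z u * g⁻¹ = z u ∧ ((g * z v * g⁻¹ = z v ∧ g * z w * g⁻¹ = z w) ∨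
        (g * z v * g⁻¹ = z w ∧ g * z w * g⁻¹ = z v))) := by
    intro g hga u v w hu hv hw hgu huv huw hvw
    have zz : ∀ x, adj a x → z (g • x) = g * z x * g⁻¹ := fun x hx => h.z_smul g (h.notA ha hx)
    refine ⟨by rw [← zz u hu, hgu], ?_⟩
    by_cases hgv : g • v = v
    · have := (h.fix_two hga hgu hgv hu hv huv).2 w hw
      exact Or.inl ⟨by rw [← zz v hv, hgv], by rw [← zz w hw, this]⟩
    · obtain ⟨e1, e2⟩ := h.swap hga hgu hu hv hw huv huw hvw hgv
      exact Or.inr ⟨by rw [← zz v hv, e1], by rw [← zz w hw, e2]⟩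
  have hconj : ∀ g, g * e * g⁻¹ = g * z b * g⁻¹ * (g * z c * g⁻¹) * (g * z d * g⁻¹) := fun g => by
    rw [he]; group
  have h1 : stabilizer G a ≤ centralizer ({e} : Set G) := by
    refine h.gen_stab hb hc hbc ?_ ?_ <;> intro g hg <;>
      rw [mem_centralizer_singleton_iff, ← conj_eq_self_iff, hconj]
    · obtain ⟨k1, ⟨k2, k3⟩ | ⟨k2, k3⟩⟩ := key g hg.1 b c d hb hc hd hg.2 hbc hbd hcd <;> rw [k1, k2, k3, he]
      rw [mul_assoc, mul_assoc, ccd]
    · obtain ⟨k1, ⟨k2, k3⟩ | ⟨k2, k3⟩⟩ := key g hg.1 c b d hc hb hd hg.2 hbc.symm hcd hbd <;> rw [k1, k2, k3, he]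
      rw [mul_assoc, ← mul_assoc (z d), ← ccd, mul_assoc, ← cbd, ← mul_assoc, ← cbc]
  have hT : e ∈ T G a b :=
    h.Q_le_T hb (mul_mem (mul_mem (h.z_fix ha hb) (h.z_fix ha hc)) (h.z_fix ha hd))
  have e1 := h.no_central ha hb e hT (fun g hg => mem_centralizer_singleton_iff.mp (h1 hg)) he2
  rw [he, mul_eq_one_iff_eq_inv, inv_of_sq (h.z_sq (h.notA ha hd))] at e1
  exact e1

theorem fix_of_comm {g : G} {a b : V} (ha : A a) (hg : g • a = a) (hb : adj a b) (hc : g * z b = z b * g) :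
    g • b = b :=
  h.z_inj ha (h.adj_smul_of_fix hg hb) hb (by rw [h.z_smul g (h.notA ha hb), conj_eq_self_iff.mpr hc])

theorem mem_Q_of_comm {g : G} {a : V} (ha : A a) (hg : g • a = a)
    (hc : ∀ b, adj a b → g * z b = z b * g) : g ∈ Q G adj a :=
  ⟨hg, fun b hb => h.fix_of_comm ha hg hb (hc b hb)⟩

/-- The centre of a vertex of the first kind meets no subgroup normalized by the edge stabilizer. -/
theorem kill {a b : V} (ha : A a) (hab : adj a b) {N : Subgroup G} (hN : N ≤ T G a b)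
    (hn : ∀ t ∈ T G a b, ∀ n ∈ N, t * n * t⁻¹ ∈ N) {y : G} (hya : y • a = a) (hyb : y • b ≠ b)
    (hc : ∀ n ∈ N, y * n = n * y) : N = ⊥ := by
  haveI := h.T_finite (v := a) (u := b)
  haveI : Fact (Nat.Prime 2) := ⟨Nat.prime_two⟩
  haveI : Group.IsNilpotent (T G a b) := (h.two hab).isNilpotent
  by_contra hne
  haveI : (N.subgroupOf (T G a b)).Normal :=
    ⟨fun n hn' t => mem_subgroupOf.mpr (hn t t.2 n (mem_subgroupOf.mp hn'))⟩
  have h0 : N.subgroupOf (T G a b) ⊓ Subgroup.center (T G a b) ≠ ⊥ :=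
    Grp.inf_center_ne_bot _ fun e => hne (by
      rw [subgroupOf_eq_bot] at e
      exact e.eq_bot_of_le hN)
  set K := N.subgroupOf (T G a b) ⊓ Subgroup.center (T G a b)
  haveI : Nontrivial K := (Subgroup.nontrivial_iff_ne_bot K).mpr h0
  have hK : IsPGroup 2 K := (h.two hab).to_subgroup K
  have hd : 2 ∣ Nat.card K := (hK.card_eq_or_dvd).resolve_left Finite.one_lt_card.ne'
  obtain ⟨x, hx⟩ := exists_prime_orderOf_dvd_card' 2 hd
  have hxN : ((x : T G a b) : G) ∈ N := mem_subgroupOf.mp x.2.1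
  have hxT : ((x : T G a b) : G) ∈ T G a b := (x : T G a b).2
  have hx2 : ((x : T G a b) : G) * ((x : T G a b) : G) = 1 := by
    have := pow_orderOf_eq_one x
    rw [hx, pow_two] at this
    exact congrArg (fun y : K => ((y : T G a b) : G)) this
  have h1 := h.no_central ha hab _ hxT (fun g hg => ?_) hx2
  · have : x = 1 := Subtype.ext (Subtype.ext h1)
    rw [this, orderOf_one] at hx
    norm_num at hx
  · have hT : T G a b ≤ centralizer {((x : T G a b) : G)} := fun t ht =>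
      mem_centralizer_singleton_iff.mpr (congrArg Subtype.val (mem_center_iff.mp x.2.2 ⟨t, ht⟩))
    have hy : y ∈ centralizer {((x : T G a b) : G)} := mem_centralizer_singleton_iff.mpr (hc _ hxN)
    refine mem_centralizer_singleton_iff.mp (h.gen_stab (h.adj_smul_of_fix hya hab) hab hyb ?_ hT hg)
    intro t ht
    have ht' : y⁻¹ * t * y ∈ T G a b := mem_T.mpr
      ⟨by rw [mul_smul, mul_smul, hya, ht.1, inv_smul_eq_iff, hya],
       by rw [mul_smul, mul_smul, ht.2, inv_smul_smul]⟩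
    simpa [mul_assoc] using mul_mem (mul_mem hy (hT ht')) (inv_mem hy)

theorem eq_one_of_fix_all {g : G} (hg : ∀ v : V, g • v = v) (v : V) : g = 1 := by
  obtain ⟨u, hu⟩ := h.deg v
  let N : Subgroup G := (MulAction.toPermHom G V).ker
  have hN : N ≤ T G v u := fun x hx => ⟨Equiv.ext_iff.mp hx v, Equiv.ext_iff.mp hx u⟩
  have hn : ∀ k : G, ∀ n ∈ N, k * n * k⁻¹ ∈ N := fun k n hn => (inferInstance : N.Normal).conj_mem n hn k
  have := h.faithful hu N hN (fun k _ => hn k) (fun k _ => hn k)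
  exact (Subgroup.mem_bot).mp (this ▸ (Equiv.ext hg : g ∈ N))

end Hyp

end Cfsg.Agent.Transfer.Goldschmidt
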