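import Cfsg.Agent.Lib.Transfer.Goldschmidt.Arcs

/-!
# Subgroups generated by the centres near a vertex
-/

set_option autoImplicit false

namespace Cfsg.Agent.Transfer.Goldschmidt

open MulAction Subgroup

variable {G V : Type*} [Group G] [MulAction G V] {adj : V → V → Prop} {A : V → Prop} {z : V → G}

/-- The subgroup generated by the centres at a given walking distance. -/
def W (adj : V → V → Prop) (z : V → G) (n : ℕ) (a : V) : Subgroup G := closure (z '' {e | Wk adj n a e})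

/-- The elements fixing all vertices at distance at most two. -/
def K (G : Type*) [Group G] {V : Type*} [MulAction G V] (adj : V → V → Prop) (v : V) : Subgroup G :=
  Q G adj v ⊓ ⨅ u : {u // adj v u}, Q G adj u.1

/-- The elements mapping a subgroup onto itself by conjugation. -/
def Norm (N : Subgroup G) : Subgroup G where
  carrier := {g | ∀ x, g * x * g⁻¹ ∈ N ↔ x ∈ N}
  one_mem' x := by simp
  mul_mem' {a b} ha hb x := by
    rw [show a * b * x * (a * b)⁻¹ = a * (b * x * b⁻¹) * a⁻¹ by group, ha, hb]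
  inv_mem' {a} ha x := by
    have := ha (a⁻¹ * x * a⁻¹⁻¹)
    rw [show a * (a⁻¹ * x * a⁻¹⁻¹) * a⁻¹ = x by group] at this
    exact this.symm

theorem Norm.conj {N : Subgroup G} {g x : G} (hg : g ∈ Norm N) (hx : x ∈ N) : g * x * g⁻¹ ∈ N := (hg x).mpr hx

theorem le_norm {N H : Subgroup G} (hc : ∀ g ∈ H, ∀ x ∈ N, g * x * g⁻¹ ∈ N) : H ≤ Norm N := fun g hg x =>
  ⟨fun hx => by
    have := hc _ (inv_mem hg) _ hx
    rwa [show g⁻¹ * (g * x * g⁻¹) * g⁻¹⁻¹ = x by group] at this, fun hx => hc g hg x hx⟩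

theorem comm_closure {s : Set G} (hs : ∀ x ∈ s, ∀ y ∈ s, x * y = y * x) :
    ∀ x ∈ closure s, ∀ y ∈ closure s, x * y = y * x := by
  have h1 : closure s ≤ centralizer s :=
    (closure_le _).mpr fun x hx => mem_centralizer_iff.mpr fun y hy => (hs x hx y hy).symm
  have h2 : closure s ≤ centralizer (closure s : Set G) :=
    (closure_le _).mpr fun x hx => mem_centralizer_iff.mpr fun y hy => (mem_centralizer_iff.mp (h1 hy) x hx).symm
  exact fun x hx y hy => mem_centralizer_iff.mp (h2 hy) x hx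

theorem sq_closure {s : Set G} (hs : ∀ x ∈ s, ∀ y ∈ s, x * y = y * x) (h1 : ∀ x ∈ s, x * x = 1) :
    ∀ x ∈ closure s, x * x = 1 := by
  intro x hx
  induction hx using closure_induction with
  | mem x hx => exact h1 x hx
  | one => exact one_mul 1
  | mul x y hx hy ex ey =>
    rw [show x * y * (x * y) = x * (y * x) * y by group, ← comm_closure hs x hx y hy,
      show x * (x * y) * y = x * x * (y * y) by group, ex, ey, one_mul]
  | inv x hx ex => rw [← mul_inv_rev, ex, inv_one]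

theorem mem_W {n : ℕ} {a e : V} (he : Wk adj n a e) : z e ∈ W adj z n a := subset_closure ⟨e, he, rfl⟩

theorem W_le {n : ℕ} {a : V} {H : Subgroup G} (hH : ∀ e, Wk adj n a e → z e ∈ H) : W adj z n a ≤ H :=
  (closure_le H).mpr fun _ ⟨e, he, hx⟩ => hx ▸ hH e he

theorem mem_K {g : G} {v : V} : g ∈ K G adj v ↔ g ∈ Q G adj v ∧ ∀ u, adj v u → g ∈ Q G adj u := by
  simp [K, Subgroup.mem_iInf]

namespace Hyp

variable (h : Hyp G adj A z)
include h

theorem A_wk : ∀ {n : ℕ} {u v : V}, Wk adj n u v → (A v ↔ (A u ↔ Even n))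
  | 0, u, v, (e : u = v) => by subst e; simp
  | n + 1, u, v, ⟨x, hx, h1⟩ => by
    have h2 := A_wk h1
    have h3 := h.bip hx
    rw [Nat.even_add_one]
    tauto

theorem notA_wk {n : ℕ} {a e : V} (hn : A a ↔ ¬ Even n) (he : Wk adj n a e) : ¬ A e := by
  have := h.A_wk he
  tauto

theorem W_conj {n : ℕ} {a : V} (hn : A a ↔ ¬ Even n) (g : G) {x : G} (hx : x ∈ W adj z n a) :
    g * x * g⁻¹ ∈ W adj z n (g • a) := by
  have : W adj z n a ≤ (W adj z n (g • a)).comap (MulAut.conj g).toMonoidHom := W_le fun e he => by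
    show g * z e * g⁻¹ ∈ W adj z n (g • a)
    rw [← h.z_smul g (h.notA_wk hn he)]
    exact mem_W (h.wk_smul g he)
  exact this hx

theorem W_norm {n : ℕ} {a : V} (hn : A a ↔ ¬ Even n) : stabilizer G a ≤ Norm (W adj z n a) :=
  le_norm fun g hg x hx => by simpa [mem_stabilizer_iff.mp hg] using h.W_conj hn g hx

theorem faithful' {v u : V} (hvu : adj v u) {N : Subgroup G} (hN : N ≤ T G v u)
    (h1 : stabilizer G v ≤ Norm N) (h2 : stabilizer G u ≤ Norm N) : N = ⊥ :=
  h.faithful hvu N hN (fun _ hg _ hn => Norm.conj (h1 hg) hn) (fun _ hg _ hn => Norm.conj (h2 hg) hn)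

theorem T_conj {g t : G} {v u : V} (hg : g • v = v) (ht : t ∈ T G v (g • u)) : g⁻¹ * t * g ∈ T G v u :=
  mem_T.mpr ⟨by rw [mul_smul, mul_smul, hg, ht.1, inv_smul_eq_iff, hg],
    by rw [mul_smul, mul_smul, ht.2, inv_smul_smul]⟩

/-- A subgroup containing an edge stabilizer and an element moving the edge contains the vertex stabilizer. -/
theorem gen_move {H : Subgroup G} {v u : V} {g : G} (hu : adj v u) (hgv : g • v = v) (hgu : g • u ≠ u)
    (h1 : T G v u ≤ H) (hg : g ∈ H) : stabilizer G v ≤ H := by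
  refine h.gen_stab (h.adj_smul_of_fix hgv hu) hu hgu (fun t ht => ?_) h1
  simpa [mul_assoc] using mul_mem (mul_mem hg (h1 (h.T_conj hgv ht))) (inv_mem hg)

theorem card_inter {H : Subgroup G} {v u : V} (hu : adj v u) (hH : H ≤ T G v u) :
    Nat.card H ≤ 2 * Nat.card (H ⊓ Q G adj v : Subgroup G) := by
  haveI := h.T_finite (v := v) (u := u)
  haveI : Finite H := Finite.of_injective _ (Subgroup.inclusion_injective hH)
  obtain ⟨w, -, hwu, -, -, hw, -, -⟩ := h.nbr hu
  refine card_le_two inf_le_left fun a ha b hb haQ hbQ => mem_inf.mpr ⟨mul_mem (inv_mem ha) hb, ?_⟩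
  exact h.inv_mul_fix (hH ha) (hH hb) hu hw hwu.symm
    (h.moves_all (hH ha).1 (hH ha).2 hu hw hwu.symm fun hc => haQ ⟨ha, hc⟩)
    (h.moves_all (hH hb).1 (hH hb).2 hu hw hwu.symm fun hc => hbQ ⟨hb, hc⟩)

theorem K_conj {g k : G} {v : V} (hk : k ∈ K G adj v) : g * k * g⁻¹ ∈ K G adj (g • v) := by
  rw [mem_K] at hk ⊢
  exact ⟨h.Q_conj hk.1, fun u hu => by
    simpa using h.Q_conj (g := g) (hk.2 (g⁻¹ • u) (by simpa using h.smul_adj g⁻¹ hu))⟩

theorem K_fix {k : G} {v u e : V} (hk : k ∈ K G adj v) (hu : adj v u) (he : adj u e) : k • e = e :=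
  ((mem_K.mp hk).2 u hu).2 e he

theorem mem_W_one {a : V} (ha : A a) {x : G} :
    x ∈ W adj z 1 a ↔ x = 1 ∨ ∃ u, adj a u ∧ z u = x := by
  have gen : ∀ {e : V}, Wk adj 1 a e → adj a e := fun ⟨w, hw, (he : w = _)⟩ => he ▸ hw
  refine ⟨fun hx => ?_, ?_⟩
  · induction hx using closure_induction with
    | mem x hx => obtain ⟨e, he, rfl⟩ := hx; exact Or.inr ⟨e, gen he, rfl⟩
    | one => exact Or.inl rfl
    | mul x y _ _ ex ey =>
      rcases ex with rfl | ⟨u, hu, rfl⟩
      · simpa using ey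
      rcases ey with rfl | ⟨w, hw, rfl⟩
      · exact Or.inr ⟨u, hu, (mul_one _).symm⟩
      rcases eq_or_ne u w with rfl | hne
      · exact Or.inl (h.z_sq (h.notA ha hu))
      · obtain ⟨c, hc, hcu, hcw, -⟩ := h.other hu hw hne
        exact Or.inr ⟨c, hc, (h.z_sum ha hu hw hc hne hcu.symm hcw.symm).symm⟩
    | inv x _ ex =>
      rcases ex with rfl | ⟨u, hu, rfl⟩
      · simp
      · exact Or.inr ⟨u, hu, (inv_of_sq (h.z_sq (h.notA ha hu))).symm⟩
  · rintro (rfl | ⟨u, hu, rfl⟩)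
    exacts [one_mem _, mem_W (wk_one hu)]

theorem W_one_le {a u : V} (ha : A a) (hu : adj a u) : W adj z 1 a ≤ T G a u :=
  W_le fun _ ⟨_, hw, he⟩ => h.Q_le_T hu (he ▸ h.z_fix ha hw)

/-- Two neighbours of a vertex of the second kind have different groups of centres. -/
theorem W_one_ne {β γ γ' : V} (hβ : ¬ A β) (hγ : adj β γ) (hγ' : adj β γ') (hne : γ ≠ γ') :
    W adj z 1 γ ≠ W adj z 1 γ' := by
  intro e
  have hA := h.isA hβ hγ
  have n1 : stabilizer G γ ≤ Norm (W adj z 1 γ) := h.W_norm (by simp [hA])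
  have n2 : stabilizer G γ' ≤ Norm (W adj z 1 γ) := e ▸ h.W_norm (by simp [h.isA hβ hγ'])
  have n3 : stabilizer G β ≤ Norm (W adj z 1 γ) :=
    h.gen_stab hγ hγ' hne (fun t ht => n1 ht.2) (fun t ht => n2 ht.2)
  have hb := h.faithful' (h.symm hγ) (h.W_one_le hA (h.symm hγ)) n1 n3
  exact h.z_ne hβ ((mem_bot).mp (hb ▸ mem_W (wk_one (h.symm hγ))))

/-- Replacing a representative of a neighbour changes the centre at most by the central one. -/
theorem rep_eq {a β e e' : V} (ha : A a) (hβ : adj a β) (he : adj a e) (he' : adj a e') (h1 : e ≠ β)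
    (h2 : e' ≠ β) : z e' = z e ∨ z e' = z e * z β := by
  rcases eq_or_ne e e' with rfl | hne
  · exact Or.inl rfl
  · exact Or.inr (h.z_sum ha he hβ he' h1 hne h2.symm).symm

theorem centre_comm_T {g : G} {β : V} (hβ : ¬ A β) (hg : g • β = β) : z β * g = g * z β :=
  (h.z_comm hβ hg).symm

/-- Commutators in an edge stabilizer fix all neighbours. -/
theorem comm_mem_Q {v u : V} {a b : G} (hu : adj v u) (ha : a ∈ T G v u) (hb : b ∈ T G v u) :
    a * b * a⁻¹ * b⁻¹ ∈ Q G adj v := by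
  obtain ⟨w, w', hwu, hwu', hww, hw, hw', -⟩ := h.nbr hu
  have mem : a * b * a⁻¹ * b⁻¹ ∈ T G v u := mul_mem (mul_mem (mul_mem ha hb) (inv_mem ha)) (inv_mem hb)
  have act : ∀ t ∈ T G v u, (t • w = w ∧ t⁻¹ • w = w ∧ t • w' = w' ∧ t⁻¹ • w' = w') ∨
      (t • w = w' ∧ t⁻¹ • w = w' ∧ t • w' = w ∧ t⁻¹ • w' = w) := fun t ht => by
    by_cases e : t • w = w
    · have e' := (h.fix_two ht.1 ht.2 e hu hw hwu.symm).2 w' hw'
      exact Or.inl ⟨e, inv_smul_eq_iff.mpr e.symm, e', inv_smul_eq_iff.mpr e'.symm⟩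
    · obtain ⟨e1, e2⟩ := h.swap ht.1 ht.2 hu hw hw' hwu.symm hwu'.symm hww e
      exact Or.inr ⟨e1, inv_smul_eq_iff.mpr e2.symm, e2, inv_smul_eq_iff.mpr e1.symm⟩
  refine h.fix_two mem.1 mem.2 ?_ hu hw hwu.symm
  rcases act a ha with ⟨a1, a2, a3, a4⟩ | ⟨a1, a2, a3, a4⟩ <;>
    rcases act b hb with ⟨b1, b2, b3, b4⟩ | ⟨b1, b2, b3, b4⟩ <;>
      simp [mul_smul, a1, a2, a3, a4, b1, b2, b3, b4]

end Hyp

namespace HypB

variable {b : ℕ} (h : HypB G adj A z b)
include h

theorem z_comm_of_wk {a e e' : V} {k : ℕ} (ha : A a) (he : adj a e) (he' : ¬ A e') (hw : Wk adj k a e')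
    (hk : k ≤ b) : z e * z e' = z e' * z e :=
  h.z_comm he' (h.low hk ha he hw)

/-- The centres at distance at most two of a vertex of the second kind commute. -/
theorem comm_two (hb : 3 ≤ b) {β : V} (hβ : ¬ A β) :
    ∀ x ∈ W adj z 2 β, ∀ y ∈ W adj z 2 β, x * y = y * x := by
  refine comm_closure ?_
  rintro _ ⟨e, he, rfl⟩ _ ⟨e', he', rfl⟩
  obtain ⟨a, ha, hae⟩ := Wk.unsnoc he
  obtain ⟨a', ha', (e1 : a' = a)⟩ := ha
  subst e1
  exact h.z_comm_of_wk (h.isA hβ ha') hae (h.notA_wk (by simpa using hβ) he') (k := 1 + 2)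
    ((wk_one (h.symm ha')).trans he') (by omega)

theorem sq_two (hb : 3 ≤ b) {β : V} (hβ : ¬ A β) : ∀ x ∈ W adj z 2 β, x * x = 1 := by
  refine sq_closure (fun x hx y hy => h.comm_two hb hβ x (subset_closure hx) y (subset_closure hy)) ?_
  rintro _ ⟨e, he, rfl⟩
  exact h.z_sq (h.notA_wk (by simpa using hβ) he)

end HypB

end Cfsg.Agent.Transfer.Goldschmidt
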