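import Cfsg.Agent.Lib.Transfer.Goldschmidt.Centres

/-!
# Critical lengths one and two, and the exclusion of larger even lengths
-/

set_option autoImplicit false

namespace Cfsg.Agent.Transfer.Goldschmidt

open MulAction Subgroup

variable {G V : Type*} [Group G] [MulAction G V] {adj : V → V → Prop} {A : V → Prop} {z : V → G}

/-- The elements fixing all vertices at distance at most three. -/
def N3 (G : Type*) [Group G] {V : Type*} [MulAction G V] (adj : V → V → Prop) (a : V) : Subgroup G :=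
  Q G adj a ⊓ ⨅ u : {u // adj a u}, K G adj u.1

theorem mem_N3 {g : G} {a : V} : g ∈ N3 G adj a ↔ g ∈ Q G adj a ∧ ∀ u, adj a u → g ∈ K G adj u := by
  simp [N3, Subgroup.mem_iInf]

namespace Hyp

variable (h : Hyp G adj A z)
include h

theorem N3_norm (a : V) : stabilizer G a ≤ Norm (N3 G adj a) := le_norm fun g hg x hx => by
  rw [mem_N3] at hx ⊢
  refine ⟨by simpa [mem_stabilizer_iff.mp hg] using h.Q_conj (g := g) hx.1, fun u hu => ?_⟩
  simpa using h.K_conj (g := g) (hx.2 (g⁻¹ • u)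
    (by simpa [inv_smul_eq_iff.mpr (mem_stabilizer_iff.mp hg).symm] using h.smul_adj g⁻¹ hu))

theorem N3_le {a u : V} (hu : adj a u) : N3 G adj a ≤ T G a u := fun _ hg => h.Q_le_T hu (mem_N3.mp hg).1

theorem card_T_le_two_mul {a u : V} (hu : adj a u) : Nat.card (T G a u) ≤ 2 * Nat.card (Q G adj a) := by
  obtain ⟨w, -, hwu, -, -, hw, -, -⟩ := h.nbr hu
  exact h.T_card_le hu hw hwu.symm

theorem finite_Q (a : V) : Finite (Q G adj a) :=
  haveI := h.fin a
  Finite.of_injective _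
    (Subgroup.inclusion_injective (show Q G adj a ≤ stabilizer G a from fun _ hg => hg.1))

theorem card_mono {H L : Subgroup G} {a : V} (hL : L ≤ Q G adj a) (hle : H ≤ L) : Nat.card H ≤ Nat.card L := by
  haveI := h.finite_Q a
  haveI : Finite L := Finite.of_injective _ (Subgroup.inclusion_injective hL)
  exact Nat.card_le_card_of_injective _ (Subgroup.inclusion_injective hle)

end Hyp

namespace HypB

variable {b : ℕ} (h : HypB G adj A z b)
include h

theorem card_of_one (hb : b = 1) {α β : V} (hα : A α) (hαβ : adj α β) : Nat.card (T G α β) ≤ 2 ^ 7 := by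
  subst hb
  have hC : AllCrit G adj A z 1 := h.allCrit_of_orbit h.orbit_one
  have hmove : ∀ {x δ β' w : V}, A x → adj x δ → adj x β' → δ ≠ β' → adj β' w → w ≠ x →
      z δ • w ≠ w ∧ z δ • β' = β' := by
    intro x δ β' w hx hδ hβ' hne hw hwx
    have hp : Arc adj 1 (consP x fun _ => β') := arc_one hβ'
    exact ⟨h.crit_move hp hx (hC _ hp hx) hδ hne hw (by simpa using hwx),
      (h.z_fix hx hδ).2 β' hβ'⟩
  have hK : ∀ {β' x y : V}, ¬ A β' → adj β' x → adj β' y → x ≠ y →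
      Q G adj β' ⊓ Q G adj x ⊓ Q G adj y ≤ K G adj β' := by
    intro β' x y hβ' hx hy hxy g hg
    obtain ⟨⟨hgb, hgx⟩, hgy⟩ := hg
    refine mem_K.mpr ⟨hgb, fun w hw => ?_⟩
    obtain ⟨t, ht, htx, hty, hall⟩ := h.other hx hy hxy
    rcases hall w hw with rfl | rfl | rfl
    · exact hgx
    · exact hgy
    have hxA := h.isA hβ' hx
    obtain ⟨δ, -, hδb, -, -, hδ, -, -⟩ := h.nbr (h.symm hx)
    obtain ⟨hm, hfix⟩ := hmove hxA hδ (h.symm hx) hδb hy hxy.symm
    have e1 := (h.swap hfix ((h.z_fix hxA hδ).1) hx hy hw hxy htx.symm hty.symm hm).1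
    refine h.mem_Q_of_comm (h.isA hβ' hw) (hgb.2 w hw) fun e he => ?_
    have hgd : g * z δ = z δ * g := h.z_comm (h.notA hxA hδ) (hgx.2 δ hδ)
    have he' : adj y ((z δ)⁻¹ • e) := by
      have := h.smul_adj (z δ)⁻¹ he
      rwa [← e1, inv_smul_smul] at this
    have hge : g * z ((z δ)⁻¹ • e) = z ((z δ)⁻¹ • e) * g :=
      h.z_comm (h.notA (h.isA hβ' hy) he') (hgy.2 _ he')
    rw [h.z_smul _ (h.notA (h.isA hβ' hw) he), inv_inv] at hge
    have c : Commute g (z δ) := hgd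
    have c2 : Commute g ((z δ)⁻¹ * z e * z δ) := hge
    have c3 := (c.mul_right c2).mul_right c.inv_right
    rwa [show z δ * ((z δ)⁻¹ * z e * z δ) * (z δ)⁻¹ = z e by group] at c3
  have step : ∀ {β' : V}, adj α β' → ∀ H ≤ Q G adj α, Nat.card H ≤ 4 * Nat.card (H ⊓ K G adj β' : Subgroup G) := by
    intro β' hβ' H hH
    have hB := h.notA hα hβ'
    obtain ⟨y, -, hya, -, -, hy, -, -⟩ := h.nbr (h.symm hβ')
    have h1 := h.card_inter (v := β') (u := α) (h.symm hβ') (H := H) fun g hg => ⟨(hH hg).2 β' hβ', (hH hg).1⟩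
    have h2 := h.card_inter (v := y) (u := β') (h.symm hy) (H := H ⊓ Q G adj β')
      fun g hg => ⟨hg.2.2 y hy, hg.2.1⟩
    have h3 : Nat.card (H ⊓ Q G adj β' ⊓ Q G adj y : Subgroup G) ≤ Nat.card (H ⊓ K G adj β' : Subgroup G) :=
      h.card_mono (inf_le_left.trans hH) fun g hg =>
        ⟨hg.1.1, hK hB (h.symm hβ') hy hya.symm ⟨⟨hg.1.2, hH hg.1.1⟩, hg.2⟩⟩
    omega
  have hN : N3 G adj α = ⊥ := by
    obtain ⟨y, -, hya, -, -, hy, -, -⟩ := h.nbr (h.symm hαβ)
    have hyA := h.isA (h.notA hα hαβ) hy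
    obtain ⟨δ, -, hδb, -, -, hδ, -, -⟩ := h.nbr (h.symm hy)
    obtain ⟨hm, hfix⟩ := hmove hyA hδ (h.symm hy) hδb (h.symm hαβ) hya.symm
    refine h.faithful' hαβ (h.N3_le hαβ) (h.N3_norm α)
      (h.gen_move (h.symm hαβ) hfix hm (fun t ht => h.N3_norm α ht.2) ?_)
    have hc : ∀ n ∈ N3 G adj α, z δ * n = n * z δ := fun n hn => (h.z_comm (h.notA hyA hδ)
      (((mem_K.mp ((mem_N3.mp hn).2 β hαβ)).2 y hy).2 δ hδ)).symm
    intro x
    constructor
    · intro hx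
      have := hc _ hx
      simp only [mul_assoc, inv_mul_cancel, mul_one] at this
      rwa [mul_assoc, mul_left_cancel this] at hx
    · intro hx
      rwa [hc x hx, mul_inv_cancel_right]
  obtain ⟨β₂, β₃, h2, h3, h23, a2, a3, hall⟩ := h.nbr hαβ
  have l1 := h.card_T_le_two_mul hαβ
  have s1 := step hαβ _ le_rfl
  have s2 := step a2 (Q G adj α ⊓ K G adj β) inf_le_left
  have s3 := step a3 (Q G adj α ⊓ K G adj β ⊓ K G adj β₂) (inf_le_left.trans inf_le_left)
  have hle : Q G adj α ⊓ K G adj β ⊓ K G adj β₂ ⊓ K G adj β₃ ≤ N3 G adj α := fun g hg => by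
    refine mem_N3.mpr ⟨hg.1.1.1, fun u hu => ?_⟩
    rcases hall u hu with rfl | rfl | rfl
    exacts [hg.1.1.2, hg.1.2, hg.2]
  rw [hN, le_bot_iff] at hle
  rw [hle, card_bot] at s3
  omega

theorem card_of_two (hb : b = 2) {α β₁ : V} (hα : A α) (h1 : adj α β₁) : Nat.card (T G α β₁) ≤ 2 ^ 7 := by
  subst hb
  have hC : AllCrit G adj A z 2 := h.allCrit_of_orbit h.orbit_two
  obtain ⟨β₂, β₃, h21, h31, h23, h2, h3, hall⟩ := h.nbr h1
  obtain ⟨a, a', haα, ha'α, haa, ha, ha', halla⟩ := h.nbr (h.symm h1)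
  obtain ⟨c, c', hcα, hc'α, hcc, hc, hc', hallc⟩ := h.nbr (h.symm h2)
  have hB1 := h.notA hα h1
  have hB2 := h.notA hα h2
  obtain ⟨δ, -, hδ, -, -, haδ, -, -⟩ := h.nbr (h.symm ha)
  obtain ⟨δ', -, hδ', -, -, ha'δ, -, -⟩ := h.nbr (h.symm ha')
  have fix : ∀ {x e : V}, adj β₁ x → adj x e → z e • α = α ∧ z e • β₁ = β₁ := fun hx he =>
    ⟨h.low (k := 2) le_rfl (h.isA hB1 hx) he ⟨β₁, h.symm hx, α, h.symm h1, rfl⟩,
      h.low (k := 1) (by omega) (h.isA hB1 hx) he (wk_one (h.symm hx))⟩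
  have mv : ∀ {x e : V}, adj β₁ x → x ≠ α → adj x e → e ≠ β₁ → z e • β₂ = β₃ := by
    intro x e hx hxα he hne
    have hp : Arc adj 2 (consP x (consP β₁ fun _ => α)) := arc_two (h.symm hx) (h.symm h1) hxα.symm
    exact (h.swap (fix hx he).1 (fix hx he).2 h1 h2 h3 h21.symm h31.symm h23
      (h.crit_move hp (h.isA hB1 hx) (hC _ hp (h.isA hB1 hx)) he hne h2 (by simpa using h21))).1
  have img : ∀ {g : G} {w : V}, g • β₂ = β₃ → adj β₂ w → adj β₃ (g • w) := fun hg hw => hg ▸ h.smul_adj _ hw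
  have hy := mv ha haα haδ hδ
  have hy' := mv ha' ha'α ha'δ hδ'
  have hc3 := img hy hc
  have hc3' := img hy hc'
  have hallβ₃ : ∀ w, adj β₃ w → w = α ∨ w = z δ • c ∨ w = z δ • c' :=
    fun w hw => h.only (h.symm h3) hc3 hc3'
      (fun e => hcα (smul_left_cancel (z δ) (e.symm.trans (fix ha haδ).1.symm)))
      (fun e => hc'α (smul_left_cancel (z δ) (e.symm.trans (fix ha haδ).1.symm)))
      (fun e => hcc (smul_left_cancel (z δ) e)) hw
  set E := Q G adj α ⊓ Q G adj β₁ ⊓ Q G adj β₂ ⊓ Q G adj β₃ with hE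
  have hEQ : E ≤ Q G adj α := fun g hg => hg.1.1.1
  have tog : ∀ {g : G} {x e w : V}, adj β₁ x → adj x e → g ∈ Q G adj x → g ∈ Q G adj w →
      g ∈ Q G adj (z e • w) := by
    intro g x e w hx he hgx hgw
    have hgz : g * z e = z e * g := h.z_comm (h.notA (h.isA hB1 hx) he) (hgx.2 e he)
    have := h.Q_conj (g := z e) hgw
    rwa [← hgz, mul_inv_cancel_right] at this
  have key : ∀ g ∈ E, g ∈ Q G adj a → g ∈ Q G adj a' → g ∈ Q G adj c → g ∈ Q G adj c' → g ∈ N3 G adj α := by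
    intro g hg g1 g2 g3 g4
    refine mem_N3.mpr ⟨hEQ hg, fun u hu => mem_K.mpr ⟨?_, fun w hw => ?_⟩⟩ <;>
      rcases hall u hu with rfl | rfl | rfl
    · exact hg.1.1.2
    · exact hg.1.2
    · exact hg.2
    · rcases halla w hw with rfl | rfl | rfl
      exacts [hEQ hg, g1, g2]
    · rcases hallc w hw with rfl | rfl | rfl
      exacts [hEQ hg, g3, g4]
    · rcases hallβ₃ w hw with rfl | rfl | rfl
      exacts [hEQ hg, tog ha haδ g1 g3, tog ha haδ g1 g4]
  have hN : N3 G adj α = ⊥ := by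
    refine h.kill hα h2 (h.N3_le h2) (fun t ht n hn => Norm.conj (h.N3_norm α ht.1) hn) (y := z δ)
      (fix ha haδ).1 (fun e => h23 (e.symm.trans hy)) fun n hn => ?_
    exact (h.z_comm (h.notA (h.isA hB1 ha) haδ) (((mem_K.mp ((mem_N3.mp hn).2 β₁ h1)).2 a ha).2 δ haδ)).symm
  have hTle : ∀ {x β' : V} (H : Subgroup G), adj β' x → H ≤ E → (∀ g ∈ E, g ∈ Q G adj β') →
      Nat.card H ≤ 2 * Nat.card (H ⊓ Q G adj x : Subgroup G) :=
    fun H hx hH hQ => h.card_inter (h.symm hx) fun g hg => ⟨(hQ g (hH hg)).2 _ hx, (hQ g (hH hg)).1⟩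
  have q1 : ∀ g ∈ E, g ∈ Q G adj β₁ := fun g hg => hg.1.1.2
  have q2 : ∀ g ∈ E, g ∈ Q G adj β₂ := fun g hg => hg.1.2
  have l0 := h.card_T_le_two_mul h1
  have l1 := h.card_inter (v := β₁) (u := α) (h.symm h1) (H := Q G adj α) fun g hg => ⟨hg.2 _ h1, hg.1⟩
  have l2 := h.card_inter (v := β₂) (u := α) (h.symm h2) (H := Q G adj α ⊓ Q G adj β₁)
    fun g hg => ⟨hg.1.2 _ h2, hg.1.1⟩
  have l3 := h.card_inter (v := β₃) (u := α) (h.symm h3) (H := Q G adj α ⊓ Q G adj β₁ ⊓ Q G adj β₂)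
    fun g hg => ⟨hg.1.1.2 _ h3, hg.1.1.1⟩
  rw [← hE] at l3
  have l4 := hTle E ha le_rfl q1
  by_cases hcase : z δ' • c = z δ • c
  · have l5 := hTle (E ⊓ Q G adj a) hc inf_le_left q2
    have l6 := hTle (E ⊓ Q G adj a ⊓ Q G adj c) hc' (inf_le_left.trans inf_le_left) q2
    have hle : E ⊓ Q G adj a ⊓ Q G adj c ⊓ Q G adj c' ≤ N3 G adj α := by
      rintro g ⟨⟨⟨hg, g1⟩, g3⟩, g4⟩
      refine key g hg g1 ?_ g3 g4
      by_contra g2
      have hA' := h.isA hB1 ha'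
      have hga' : g • a' = a' := (q1 g hg).2 a' ha'
      have hgb : g • β₁ = β₁ := (q1 g hg).1
      have hmove : g • δ' ≠ δ' := h.moves_all hga' hgb (h.symm ha') ha'δ hδ'.symm g2
      obtain ⟨ε, hε, hεb, hεd, -⟩ := h.other (h.symm ha') ha'δ hδ'.symm
      have e1 := (h.swap hga' hgb (h.symm ha') ha'δ hε hδ'.symm hεb.symm hεd.symm hmove).1
      have e2 : g * z δ' * g⁻¹ = z δ' * z β₁ := by
        rw [← h.z_smul g (h.notA hA' ha'δ), e1,
          h.z_sum hA' ha'δ (h.symm ha') hε hδ' hεd.symm hεb.symm]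
      have g5 := h.Q_conj (g := (z δ')⁻¹) (tog ha haδ g1 g3)
      rw [← hcase, inv_smul_smul, inv_inv, inv_of_sq (h.z_sq (h.notA hA' ha'δ)), mul_assoc] at g5
      rw [mul_inv_eq_iff_eq_mul] at e2
      rw [e2, ← mul_assoc, ← mul_assoc, h.z_sq (h.notA hA' ha'δ), one_mul] at g5
      have hp : Arc adj 2 (consP α (consP β₂ fun _ => c)) := arc_two h2 hc hcα
      refine h.crit_z hp hα (hC _ hp hα) h1 h21.symm ?_
      have := mul_mem g5 (inv_mem g3)
      rwa [mul_inv_cancel_right] at this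
    rw [hN, le_bot_iff] at hle
    rw [hle, card_bot] at l6
    omega
  · have l5 := hTle (E ⊓ Q G adj a) ha' inf_le_left q1
    have l6 := hTle (E ⊓ Q G adj a ⊓ Q G adj a') hc (inf_le_left.trans inf_le_left) q2
    have hle : E ⊓ Q G adj a ⊓ Q G adj a' ⊓ Q G adj c ≤ N3 G adj α := by
      rintro g ⟨⟨⟨hg, g1⟩, g2⟩, g3⟩
      refine key g hg g1 g2 g3 ?_
      have g5 : g ∈ Q G adj (z δ • c') := by
        have := tog ha' ha'δ g2 g3
        rcases hallβ₃ _ (img hy' hc) with e | e | e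
        · exact absurd (smul_left_cancel _ (e.trans (fix ha' ha'δ).1.symm)) hcα
        · exact absurd e hcase
        · rwa [e] at this
      have := tog ha haδ g1 g5
      rwa [← mul_smul, h.z_sq (h.notA (h.isA hB1 ha) haδ), one_smul] at this
    rw [hN, le_bot_iff] at hle
    rw [hle, card_bot] at l6
    omega

/-- The critical length is not an even number greater than two. -/
theorem not_even (hb : 4 ≤ b) : ¬ Even b := by
  intro he
  obtain ⟨p, hp, hA, hc⟩ := h.crit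
  obtain ⟨j, rfl⟩ : ∃ j, b = j + 4 := ⟨b - 4, by omega⟩
  have hje : Even j := by simpa [Nat.even_add, (by decide : Even 4)] using he
  have hAi : ∀ {i}, i ≤ j + 4 → (A (p i) ↔ Even i) := fun hi => by
    have := h.A_arc hp hi
    tauto
  have hAb : A (p (j + 4)) := (hAi le_rfl).mpr he
  have hB1 : ¬ A (p 1) := by rw [hAi (by omega)]; decide
  have hB3 : ¬ A (p (j + 3)) := by rw [hAi (by omega)]; simp [Nat.even_add, hje, (by decide : ¬ Even 3)]
  have hA2 : A (p (j + 2)) := (hAi (by omega)).mpr (by simp [Nat.even_add, hje])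
  have hlast : adj (p (j + 4)) (p (j + 3)) := h.symm (hp.1 (j + 3) (by omega))
  obtain ⟨δ, δs, hδ1, hδs1, hδδ, hδ, hδs, hall0⟩ := h.nbr (hp.1 0 (by omega))
  obtain ⟨ε, εs, hε1, hεs1, hεε, hε, hεs, -⟩ := h.nbr hlast
  have hzfix : ∀ {d : V} {i : ℕ}, adj (p 0) d → i ≤ j + 4 → z d • p i = p i := fun hd hi =>
    h.low hi hA hd (by simpa using hp.wk (Nat.zero_le _) hi)
  have hεfix : ∀ {i : ℕ}, i ≤ j + 4 → z ε • p i = p i := fun hi =>
    h.low (k := j + 4 - _) (Nat.sub_le _ _) hAb hε (h.wk_symm (hp.wk hi le_rfl))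
  have sq : z ε * z ε = 1 := h.z_sq (h.notA hAb hε)
  have inv : (z ε)⁻¹ = z ε := inv_of_sq sq
  -- conjugation of the far involution
  have hrel : ∀ {g : G}, g • p (j + 4) = p (j + 4) → g • p (j + 3) = p (j + 3) → g • ε ≠ ε →
      g * z ε * g⁻¹ = z ε * z (p (j + 3)) := fun h0 h1 hne => by
    have e1 := (h.swap h0 h1 hlast hε hεs hε1.symm hεs1.symm hεε hne).1
    rw [← h.z_smul _ (h.notA hAb hε), e1, h.z_sum hAb hε hlast hεs hε1 hεε hεs1.symm]
  have hδm : ∀ {d}, adj (p 0) d → d ≠ p 1 → z d • ε ≠ ε := fun hd hd1 =>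
    h.crit_move hp hA hc hd hd1 hε hε1
  have hεd : ∀ {d}, adj (p 0) d → d ≠ p 1 → z ε • d ≠ d := fun hd hd1 e => hδm hd hd1
    (h.fix_of_comm hAb (hzfix hd le_rfl) hε (h.z_comm (h.notA hA hd) e).symm)
  have hc0 : z (p 1) = z (p (j + 3)) := by
    have e1 := hrel (hzfix hδ le_rfl) (hzfix hδ (by omega)) (hδm hδ hδ1)
    have e2 := (h.swap (hεfix (by omega : 0 ≤ j + 4)) (hεfix (by omega : 1 ≤ j + 4)) (hp.1 0 (by omega)) hδ hδs
      hδ1.symm hδs1.symm hδδ (hεd hδ hδ1)).1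
    have e3 : z ε * z δ * (z ε)⁻¹ = z δ * z (p 1) := by
      rw [← h.z_smul _ (h.notA hA hδ), e2, h.z_sum hA hδ (hp.1 0 (by omega)) hδs hδ1 hδδ hδs1.symm]
    rw [inv_of_sq (h.z_sq (h.notA hA hδ))] at e1
    rw [inv] at e3
    calc z (p 1) = z δ * z δ * z (p 1) := by rw [h.z_sq (h.notA hA hδ), one_mul]
      _ = z δ * (z ε * z δ * z ε) := by rw [e3, mul_assoc]
      _ = z δ * z ε * z δ * z ε := by group
      _ = z ε * z (p (j + 3)) * z ε := by rw [e1]
      _ = z (p (j + 3)) * (z ε * z ε) := by rw [h.z_commute hAb hε hlast, mul_assoc]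
      _ = z (p (j + 3)) := by rw [sq, mul_one]
  rcases h.dichotomy with ho | ⟨k, hko, hk3, hkb, hF⟩
  · have hy : Arc adj (j + 2) fun i => p (1 + i) := hp.shift 1 (by omega)
    refine h.centre_ne (h.allCrit_of_orbit ho) hy hB1 ?_ (by omega) (by omega) ?_
    · simpa [show 1 + (j + 2) = j + 3 by omega] using hB3
    · simpa [show 1 + (j + 2) = j + 3 by omega] using hc0
  have step : ∀ {d}, adj (p 0) d → W adj z 2 d ≤ (W adj z 2 d).comap (MulAut.conj (z ε)).toMonoidHom := by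
    intro d hd
    refine W_le fun e he => ?_
    show z ε * z e * (z ε)⁻¹ ∈ W adj z 2 d
    obtain ⟨x, hx, hxe⟩ := he
    obtain ⟨e', hxe', (rfl : e' = e)⟩ := hxe
    have hxA : A x := h.isA (h.notA hA hd) hx
    have w0 : Wk adj 2 x (p 0) := ⟨d, h.symm hx, p 0, h.symm hd, rfl⟩
    have fi : ∀ {i}, i ≤ j + 2 → z e' • p i = p i := fun hi =>
      h.low (by omega) hxA hxe' (w0.trans (hp.wk (Nat.zero_le _) (by omega)))
    have f1 : z e' * z (p 1) = z (p 1) * z e' := h.z_comm hB1 (fi (by omega))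
    have f3 : z e' • p (j + 3) = p (j + 3) :=
      h.fix_of_comm hA2 (fi le_rfl) (hp.1 (j + 2) (by omega)) (hc0 ▸ f1)
    have f4 : z e' • p (j + 4) = p (j + 4) :=
      hF (j + 3) p (by omega) hp (iff_of_false hB3 (by simpa using he)) (z e') fun i hi =>
        (Nat.lt_or_eq_of_le hi).elim (fun hlt => fi (by omega)) fun e => e ▸ f3
    have hmem : z e' ∈ W adj z 2 d := mem_W ⟨x, hx, e', hxe', rfl⟩
    by_cases hfix : z e' • ε = ε
    · rwa [← h.z_comm (h.notA hAb hε) hfix, mul_inv_cancel_right]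
    · have e1 := hrel f4 f3 hfix
      rw [← hc0, mul_inv_eq_iff_eq_mul] at e1
      have e2 : z ε * z e' * (z ε)⁻¹ = z e' * z (p 1) := by
        calc z ε * z e' * (z ε)⁻¹ = z e' * ((z e')⁻¹ * (z ε * z e')) * (z ε)⁻¹ := by group
          _ = z e' * ((z e')⁻¹ * (z ε * z (p 1) * z e') * z (p 1)) * (z ε)⁻¹ := by
            rw [mul_assoc (z ε) (z (p 1)), ← f1]
            simp [mul_assoc, h.z_sq hB1]
          _ = z e' * (z ε * z (p 1)) * (z ε)⁻¹ := by
            rw [← e1]; simp [mul_assoc]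
          _ = z e' * z (p 1) := by
            rw [show z ε * z (p 1) = z (p 1) * z ε from (h.z_comm hB1 (hεfix (by omega))), ← mul_assoc,
              mul_inv_cancel_right]
      rw [e2]
      exact mul_mem hmem (mem_W ⟨p 0, h.symm hd, p 1, hp.1 0 (by omega), rfl⟩)
  have n2 : ∀ {d : V}, adj (p 0) d → (A d ↔ ¬ Even 2) := fun hd => iff_of_false (h.notA hA hd) (by decide)
  have flip : z ε • δ = δs := (h.swap (hεfix (by omega : 0 ≤ j + 4)) (hεfix (by omega : 1 ≤ j + 4))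
    (hp.1 0 (by omega)) hδ hδs hδ1.symm hδs1.symm hδδ (hεd hδ hδ1)).1
  have flip' : z ε • δs = δ := by rw [← flip, ← mul_smul, sq, one_smul]
  have heq : W adj z 2 δ = W adj z 2 δs := by
    refine le_antisymm (fun x hx => ?_) (fun x hx => ?_)
    · have := h.W_conj (n2 hδ) (z ε) (step hδ hx)
      rw [flip] at this
      simpa [mul_assoc, inv, sq, ← mul_assoc (z ε) (z ε)] using this
    · have := h.W_conj (n2 hδs) (z ε) (step hδs hx)
      rw [flip'] at this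
      simpa [mul_assoc, inv, sq, ← mul_assoc (z ε) (z ε)] using this
  have hall : ∀ {u w}, adj (p 0) u → adj (p 0) w → ∀ x ∈ W adj z 2 u, x ∈ W adj z 2 w := by
    intro u w hu hw x hx
    rcases eq_or_ne u w with rfl | hne
    · exact hx
    obtain ⟨t, ht, htu, htw, -⟩ := h.other hu hw hne
    obtain ⟨g, hg, hgt⟩ := h.trans (hp.1 0 (by omega)) ht
    have hgi : g⁻¹ • p 0 = p 0 := inv_smul_eq_iff.mpr (mem_stabilizer_iff.mp hg).symm
    have pre : ∀ {y}, adj (p 0) y → y ≠ t → g⁻¹ • y = δ ∨ g⁻¹ • y = δs := fun hy hyt =>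
      (hall0 _ (hgi ▸ h.smul_adj g⁻¹ hy)).resolve_left fun e =>
        hyt (by rw [inv_smul_eq_iff] at e; exact e.trans hgt)
    have hxu := h.W_conj (n2 hu) g⁻¹ hx
    have hxw : g⁻¹ * x * g⁻¹⁻¹ ∈ W adj z 2 (g⁻¹ • w) := by
      rcases pre hu htu.symm with e1 | e1 <;> rcases pre hw htw.symm with e2 | e2 <;>
        rw [e1] at hxu <;> rw [e2] <;> first | exact hxu | exact heq ▸ hxu | exact heq.symm ▸ hxu
    have := h.W_conj (n2 (hgi ▸ h.smul_adj g⁻¹ hw)) g hxw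
    simpa [mul_assoc] using this
  have hT : W adj z 2 δ ≤ T G δ (p 0) := W_le fun e he => by
    obtain ⟨x, hx, hxe⟩ := he
    obtain ⟨e', hxe', (rfl : e' = e)⟩ := hxe
    have hxA : A x := h.isA (h.notA hA hδ) hx
    exact ⟨h.low (k := 1) (by omega) hxA hxe' (wk_one (h.symm hx)),
      h.low (k := 2) (by omega) hxA hxe' ⟨δ, h.symm hx, p 0, h.symm hδ, rfl⟩⟩
  have n0 : stabilizer G (p 0) ≤ Norm (W adj z 2 δ) := le_norm fun g hg x hx => by
    have hgd : adj (p 0) (g • δ) := h.adj_smul_of_fix hg hδ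
    exact hall hgd hδ _ (h.W_conj (n2 hδ) g hx)
  have hbot := h.faithful' (h.symm hδ) hT (h.W_norm (n2 hδ)) n0
  exact h.z_ne hB1 (mem_bot.mp (hbot ▸ mem_W (n := 2) ⟨p 0, h.symm hδ, p 1, hp.1 0 (by omega), rfl⟩))

end HypB

end Cfsg.Agent.Transfer.Goldschmidt
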