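import Cfsg.Agent.Lib.Transfer.Goldschmidt.Centres

/-!
# Odd critical length: every arc from a vertex of the first kind is critical
-/

set_option autoImplicit false

namespace Cfsg.Agent.Transfer.Goldschmidt

open MulAction Subgroup

variable {G V : Type*} [Group G] [MulAction G V] {adj : V → V → Prop} {A : V → Prop} {z : V → G}

namespace HypB

variable {b : ℕ} (h : HypB G adj A z b)
include h

/-- With a failing length, criticality passes to every shift of an arc by two steps backwards. -/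
theorem shift_crit (hodd : ¬ Even b) (hb : 5 ≤ b) {k : ℕ} (hk : k ≤ b - 2) (hF : Fail G adj A b k) {p : ℕ → V}
    (hp : Arc adj b p) (hA : A (p 0)) (hc : ∃ δ, adj (p 0) δ ∧ z δ ∉ Q G adj (p b)) {y x : V}
    (hy : adj (p 0) y) (hyp : y ≠ p 1) (hx : adj y x) (hxp : x ≠ p 0) :
    ∃ u, adj x u ∧ z u ∉ Q G adj (p (b - 2)) := by
  obtain ⟨j, rfl⟩ : ∃ j, b = j + 5 := ⟨b - 5, by omega⟩
  rw [show j + 5 - 2 = j + 3 by omega]
  have hje : Even j := by
    by_contra hje
    exact hodd (Nat.even_add.mpr (iff_of_false hje (by decide)))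
  have hAi : ∀ {i}, i ≤ j + 5 → (A (p i) ↔ Even i) := fun hi => by
    have := h.A_arc hp hi
    tauto
  have hAb1 : A (p (j + 4)) := (hAi (by omega)).mpr (Nat.even_add.mpr (iff_of_true hje (by decide)))
  have hBb : ¬ A (p (j + 5)) := fun e => hodd ((hAi le_rfl).mp e)
  have hB1 : ¬ A (p 1) := by rw [hAi (by omega)]; decide
  have hlast : adj (p (j + 5)) (p (j + 4)) := h.symm (hp.1 (j + 4) (by omega))
  obtain ⟨δ, -, hδ1, -, -, hδ, -, -⟩ := h.nbr (hp.1 0 (by omega))
  obtain ⟨γ, γs, hγ1, hγs1, hγγ, hγ, hγs, -⟩ := h.nbr hlast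
  have hγA := h.isA hBb hγ
  have hzfix : ∀ {i}, i ≤ j + 5 → z δ • p i = p i := fun hi =>
    h.low hi hA hδ (by simpa using hp.wk (Nat.zero_le _) hi)
  have hzγ : z δ • γ ≠ γ := h.crit_move hp hA hc hδ hδ1 hγ hγ1
  obtain ⟨hz1, hz2⟩ := h.swap (hzfix le_rfl) (hzfix (by omega)) hlast hγ hγs hγ1.symm hγs1.symm hγγ hzγ
  obtain ⟨ε, hε, hεc⟩ : ∃ ε, adj γ ε ∧ z δ * z ε ≠ z ε * z δ := by
    by_contra hno
    push Not at hno
    have n1 : ∀ {v}, adj (p (j + 5)) v → (A v ↔ ¬ Even 1) := fun hv => iff_of_true (h.isA hBb hv) (by decide)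
    have hle : W adj z 1 γ ≤ centralizer {z δ} := W_le fun e ⟨w, hw, (he : w = e)⟩ =>
      mem_centralizer_singleton_iff.mpr (he ▸ (hno w hw).symm)
    refine h.W_one_ne hBb hγ hγs hγγ (le_antisymm (fun x hx => ?_) fun x hx => ?_)
    · have := h.W_conj (n1 hγ) (z δ) hx
      rwa [hz1, ← mem_centralizer_singleton_iff.mp (hle hx), mul_inv_cancel_right] at this
    · have := h.W_conj (n1 hγs) (z δ) hx
      rw [hz2] at this
      have e2 := mem_centralizer_singleton_iff.mp (hle this)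
      simp only [mul_assoc, inv_mul_cancel, mul_one] at e2
      rw [mul_assoc] at this
      rwa [mul_left_cancel e2.symm] at this
  have hεb : ε ≠ p (j + 5) := fun e => hεc (e ▸ h.z_comm hBb (hzfix le_rfl))
  have sq : z ε * z ε = 1 := h.z_sq (h.notA hγA hε)
  have inv : (z ε)⁻¹ = z ε := inv_of_sq sq
  have hεfix : ∀ {i}, 1 ≤ i → i ≤ j + 5 → z ε • p i = p i := fun h1 hi =>
    h.low (k := 1 + (j + 5 - _)) (by omega) hγA hε
      ((wk_one (h.symm hγ)).trans (h.wk_symm (hp.wk hi le_rfl)))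
  have hε0 : z ε • p 0 ≠ p 0 := fun e => by
    have hr := (h.arc_rev hp).snoc (u := δ) (by simpa using hδ)
      (fun _ => by simpa [show j + 5 - (j + 5 - 1) = 1 by omega] using hδ1)
    have := hF (j + 5) _ (by omega) hr
      (by rw [snocP_le _ _ le_rfl, Nat.sub_self]; exact iff_of_true hA hodd) (z ε) fun i hi => by
        rw [snocP_le _ _ hi]
        rcases Nat.eq_zero_or_pos (j + 5 - i) with h0 | h0
        · rw [h0]; exact e
        · exact hεfix h0 (Nat.sub_le _ _)
    rw [snocP_last] at this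
    exact hεc (h.z_comm (h.notA hA hδ) this).symm
  set α' := z ε • p 0 with hα'
  have hα'adj : adj (p 1) α' := h.adj_smul_of_fix (hεfix le_rfl (by omega)) (h.symm (hp.1 0 (by omega)))
  have hα'2 : α' ≠ p 2 := fun e => hp.ne_pred (i := 0) (by omega)
    (smul_left_cancel (z ε) (e.trans (hεfix (by omega) (by omega)).symm))
  have n3 : A (p 0) ↔ ¬ Even 3 := iff_of_true hA (by decide)
  have n3' : A α' ↔ ¬ Even 3 := iff_of_true (h.A_smul _ hA) (by decide)
  have hWfix : ∀ {w}, w ∈ W adj z 3 (p 0) → ∀ i ≤ j + 3, w • p i = p i := by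
    intro w hw i hi
    refine (W_le (H := stabilizer G (p i)) fun e he => ?_) hw
    obtain ⟨g, hg, hge⟩ := Wk.unsnoc he
    exact mem_stabilizer_iff.mpr (h.low (k := 2 + i) (by omega)
      ((h.A_wk hg).mpr (iff_of_true hA (by decide))) hge
      ((h.wk_symm hg).trans (by simpa using hp.wk (Nat.zero_le i) (by omega))))
  have hzW : z δ ∈ W adj z 3 (p 0) := mem_W ⟨δ, hδ, p 0, h.symm hδ, δ, hδ, rfl⟩
  set W0 := W adj z 3 (p 0) ⊓ stabilizer G (p (j + 4)) with hW0
  have hzW0 : z δ ∈ W0 := mem_inf.mpr ⟨hzW, hzfix (by omega)⟩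
  have hzz : z ε * z δ * z ε ∈ W0 := by
    refine mem_inf.mpr ⟨?_, mem_stabilizer_iff.mpr ?_⟩
    · have e1 := h.z_smul (z ε) (h.notA hA hδ)
      rw [inv] at e1
      rw [← e1]
      exact mem_W ⟨p 1, hp.1 0 (by omega), α', hα'adj, z ε • δ, h.smul_adj _ hδ, rfl⟩
    · rw [mul_smul, mul_smul, hεfix (by omega) (by omega), hzfix (by omega), hεfix (by omega) (by omega)]
  have hflip : ∀ {v}, v ∈ W0 → z ε * v * z ε ∈ W0 := by
    intro v hv
    have hfix : ∀ {v}, v ∈ W0 → ∀ i ≤ j + 5, v • p i = p i := fun {v} hv => by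
      have hlt : ∀ i ≤ j + 4, v • p i = p i := fun i hi =>
        (Nat.lt_or_eq_of_le hi).elim (fun hlt => hWfix hv.1 i (by omega)) fun e => e ▸ hv.2
      intro i hi
      rcases Nat.lt_or_eq_of_le hi with hlt' | rfl
      · exact hlt i (by omega)
      · exact hF (j + 4) p (by omega) hp (iff_of_true hAb1 hodd) v hlt
    have key : ∀ {v}, v ∈ W0 → v • γ = γ → z ε * v * z ε = v := by
      intro v hv hvγ
      have hr : Arc adj (j + 5 + 1 + 1) (snocP (j + 5 + 1) (snocP (j + 5) p γ) ε) := by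
        refine (hp.snoc hγ fun _ => by simpa using hγ1).snoc (by rwa [snocP_last]) fun _ => ?_
        rw [Nat.add_sub_cancel, snocP_le _ _ le_rfl]
        exact hεb
      have := hF (j + 5 + 1) _ (by omega) hr
        (by rw [snocP_le _ _ le_rfl, snocP_last]; exact iff_of_true hγA hodd) v fun i hi => by
          rw [snocP_le _ _ hi]
          rcases Nat.lt_or_eq_of_le hi with hlt | rfl
          · rw [snocP_le _ _ (by omega)]; exact hfix hv i (by omega)
          · rw [snocP_last]; exact hvγ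
      rw [snocP_last] at this
      rw [← h.z_comm (h.notA hγA hε) this, mul_assoc, sq, mul_one]
    by_cases hvγ : v • γ = γ
    · rwa [key hv hvγ]
    · have e1 := (h.swap (hfix hv _ le_rfl) (hfix hv _ (by omega)) hlast hγ hγs hγ1.symm hγs1.symm hγγ hvγ).2
      have hvz : v * z δ ∈ W0 := mul_mem hv hzW0
      have e2 := key hvz (by rw [mul_smul, hz1, e1])
      have zinv : z δ * z δ = 1 := h.z_sq (h.notA hA hδ)
      have : z ε * v * z ε = v * z δ * (z ε * z δ * z ε) := by
        calc z ε * v * z ε = z ε * (v * z δ) * (z ε * z ε) * z δ * z ε := by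
              rw [sq, mul_one, show z ε * (v * z δ) * z δ = z ε * v * (z δ * z δ) by group, zinv, mul_one]
          _ = z ε * (v * z δ) * z ε * (z ε * z δ * z ε) := by group
          _ = v * z δ * (z ε * z δ * z ε) := by rw [e2]
      rw [this]
      exact mul_mem hvz hzz
  have hnot : ¬ ∀ w ∈ W adj z 3 (p 0), z ε * w * z ε ∈ W adj z 3 (p 0) := by
    intro hall
    have hg : z ε ∈ Norm (W adj z 3 (p 0)) := fun w => ⟨fun hw => by
      have := hall _ hw
      rw [inv] at this
      rwa [show z ε * (z ε * w * z ε) * z ε = z ε * z ε * w * (z ε * z ε) by group, sq, one_mul, mul_one] at this,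
      fun hw => by rw [inv]; exact hall w hw⟩
    have hbot := h.faithful' (hp.1 0 (by omega))
      (N := W adj z 3 (p 0)) (fun w hw => ⟨hWfix hw 0 (by omega), hWfix hw 1 (by omega)⟩) (h.W_norm n3)
      (h.gen_move (h.symm (hp.1 0 (by omega))) (hεfix le_rfl (by omega)) hε0
        (fun t ht => h.W_norm n3 ht.2) hg)
    exact h.z_ne (h.notA hA hδ) (mem_bot.mp (hbot ▸ hzW))
  have hWstar : ∀ {w}, z ε * w * z ε ∈ W adj z 3 (p 0) → w ∈ W adj z 3 α' := fun {w} hw => by
    have := h.W_conj n3 (z ε) hw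
    rwa [inv, show z ε * (z ε * w * z ε) * z ε = z ε * z ε * w * (z ε * z ε) by group, sq, one_mul, mul_one] at this
  have hinter : ∀ {w}, w ∈ W adj z 3 (p 0) → w ∈ W adj z 3 α' → w • p (j + 4) = p (j + 4) := by
    intro w hw hw'
    by_contra hne
    have hsub : ∀ w₁ ∈ W adj z 3 (p 0), w₁ ∈ W adj z 3 α' := by
      intro w₁ h₁
      by_cases hf : w₁ • p (j + 4) = p (j + 4)
      · exact hWstar (hflip (mem_inf.mpr ⟨h₁, hf⟩)).1
      · have hQ := h.inv_mul_fix (g := w) (k := w₁) ⟨hWfix hw _ le_rfl, hWfix hw _ (by omega)⟩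
          ⟨hWfix h₁ _ le_rfl, hWfix h₁ _ (by omega)⟩ (h.symm (hp.1 (j + 2) (by omega))) (hp.1 (j + 3) (by omega))
          (hp.ne_pred (by omega)) hne hf
        have hm : w⁻¹ * w₁ ∈ W0 := mem_inf.mpr ⟨mul_mem (inv_mem hw) h₁, hQ.2 _ (hp.1 (j + 3) (by omega))⟩
        simpa using mul_mem hw' (hWstar (hflip hm).1)
    refine hnot fun w₁ h₁ => ?_
    have := h.W_conj n3' (z ε) (hsub w₁ h₁)
    rwa [inv, hα', ← mul_smul, sq, one_smul] at this
  -- transport along elements fixing the two images of the start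
  let Good : V → Prop := fun v => ∀ u, adj v u → z u • p (j + 4) = p (j + 4)
  have trans2 : ∀ {g : G} {v : V}, g • p 0 = p 0 → g • α' = α' → Wk adj 2 (p 0) v → Good v → Good (g • v) := by
    intro g v g0 g' hv hgood u hu
    have hu' : adj v (g⁻¹ • u) := by simpa using h.smul_adj g⁻¹ hu
    have hW : z (g⁻¹ • u) ∈ W adj z 3 (p 0) := mem_W (hv.snoc hu')
    have hW' := hWstar (hflip (mem_inf.mpr ⟨hW, hgood _ hu'⟩)).1
    have e1 := h.z_smul g (h.notA_wk n3 (hv.snoc hu'))
    rw [smul_inv_smul] at e1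
    rw [e1]
    exact hinter (by simpa [g0] using h.W_conj n3 g hW) (by simpa [g'] using h.W_conj n3' g hW')
  by_contra hno
  push Not at hno
  have hGx : Good x := fun u hu => (hno u hu).2 _ (hp.1 (j + 3) (by omega))
  have h21 : adj (p 2) (p 1) := h.symm (hp.1 1 (by omega))
  have h10 : adj (p 1) (p 0) := h.symm (hp.1 0 (by omega))
  have hGall : ∀ {y' x'}, adj (p 0) y' → y' ≠ p 1 → adj y' x' → x' ≠ p 0 → Good x' := by
    intro y' x' hy' hy'p hx' hx'p
    obtain ⟨g, g0, g', hgy⟩ : ∃ g : G, g • p 0 = p 0 ∧ g • α' = α' ∧ g • y = y' := by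
      rcases eq_or_ne y y' with rfl | hne
      · exact ⟨1, one_smul G _, one_smul G _, one_smul G _⟩
      have ha : Arc adj 3 (consP (p 2) (consP (p 1) (consP (p 0) fun _ => y))) :=
        (arc_two h10 hy hyp).cons h21 fun _ => hp.ne_pred (by omega)
      obtain ⟨g, hg, hgy⟩ := h.mov_two (by omega) _ ha
      have g0 : g • p 0 = p 0 := hg 2 le_rfl
      have g1 : g • p 1 = p 1 := hg 1 (by omega)
      have g2 : g • p 2 = p 2 := hg 0 (by omega)
      exact ⟨g, g0, (h.fix_two g1 g0 g2 h10 (hp.1 1 (by omega)) (hp.ne_pred (by omega))).2 _ hα'adj,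
        (h.swap g0 g1 (hp.1 0 (by omega)) hy hy' hyp.symm hy'p.symm hne hgy).1⟩
    have hgx : adj y' (g • x) := hgy ▸ h.smul_adj g hx
    have hG1 : Good (g • x) := trans2 g0 g' ⟨y, hy, x, hx, rfl⟩ hGx
    rcases eq_or_ne (g • x) x' with e | hne
    · exact e ▸ hG1
    have hgx0 : g • x ≠ p 0 := fun e => hxp (smul_left_cancel g (e.trans g0.symm))
    have ha : Arc adj 4 (consP (p 2) (consP (p 1) (consP (p 0) (consP y' fun _ => g • x)))) :=
      ((arc_two hy' hgx hgx0).cons h10 fun _ => hy'p).cons h21 fun _ => hp.ne_pred (by omega)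
    obtain ⟨t, ht, htx⟩ := h.mov_end (k := 3) (by omega) (by omega) (h.orbit_three (by omega)) ha
      (iff_of_false (h.notA hA hy') hodd)
    have t3 : t • y' = y' := ht 3 le_rfl
    have t2 : t • p 0 = p 0 := ht 2 (by omega)
    have t1 : t • p 1 = p 1 := ht 1 (by omega)
    have t0 : t • p 2 = p 2 := ht 0 (by omega)
    have t' := (h.fix_two t1 t2 t0 h10 (hp.1 1 (by omega)) (hp.ne_pred (by omega))).2 _ hα'adj
    rw [← (h.swap t3 t2 (h.symm hy') hgx hx' hgx0.symm hx'p.symm hne htx).1]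
    exact trans2 t2 t' ⟨y', hy', g • x, hgx, rfl⟩ hG1
  refine hnot fun w hw => (hflip (mem_inf.mpr ⟨hw, (W_le (H := stabilizer G (p (j + 4))) fun e he => ?_) hw⟩)).1
  obtain ⟨v, hv, hve⟩ := Wk.unsnoc he
  refine mem_stabilizer_iff.mpr ?_
  have hG0 : Good (p 0) := fun u hu => h.low (k := j + 4) (by omega) hA hu (by simpa using hp.wk (Nat.zero_le (j + 4)) (by omega))
  have hv' := hv
  obtain ⟨v1, hv1, v2, hv2, (rfl : v2 = v)⟩ := hv
  rcases eq_or_ne v2 (p 0) with rfl | hv20
  · exact hG0 e hve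
  rcases eq_or_ne v1 (p 1) with rfl | hv11
  · rcases h.only h10 (hp.1 1 (by omega)) hα'adj (hp.ne_pred (by omega)) (Ne.symm hε0) hα'2.symm hv2 with
      rfl | rfl | rfl
    · exact hG0 e hve
    · exact h.low (k := j + 4 - 2) (by omega) ((hAi (by omega)).mpr (by decide)) hve (hp.wk (by omega) (by omega))
    · refine h.low (k := j + 4) (by omega) (h.A_smul _ hA) hve ?_
      have := h.wk_smul (z ε) (hp.wk (Nat.zero_le (j + 4)) (by omega))
      rwa [hεfix (i := j + 4) (by omega) (by omega), Nat.sub_zero] at this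
  · exact hGall hv1 hv11 hv2 hv20 e hve

theorem allCrit_odd (hodd : ¬ Even b) : AllCrit G adj A z b := by
  rcases h.dichotomy with ho | ⟨k, hko, hk3, hkb, hF⟩
  · exact h.allCrit_of_orbit ho
  have hk : k ≤ b - 2 := by
    by_contra hlt
    obtain rfl : b = k + 1 := by omega
    rw [Nat.even_add_one, Classical.not_not] at hodd
    exact hko hodd
  intro q hq hqA
  obtain ⟨p, hp, hA, hc⟩ := h.crit
  obtain ⟨n, hn⟩ : ∃ n, b = 2 * n + 1 := Nat.not_even_iff_odd.mp hodd
  have hev : ∀ i, A (q (2 * i)) ∨ b < 2 * i := fun i => by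
    rcases le_or_gt (2 * i) b with hi | hi
    · exact Or.inl (by have := h.A_arc hq hi; simp at this; tauto)
    · exact Or.inr hi
  obtain ⟨g, hg⟩ := h.orbit_one p (fun i => q (b - 1 + i)) (hp.mono h.pos) (hq.shift _ (by omega)) (by
    refine iff_of_true hA ?_
    show A (q (b - 1 + 0))
    have := (hev n).resolve_right (by omega)
    rwa [show b - 1 + 0 = 2 * n by omega])
  have key : ∀ j ≤ n, ∃ r, Arc adj b r ∧ A (r 0) ∧ (∃ δ, adj (r 0) δ ∧ z δ ∉ Q G adj (r b)) ∧
      ∀ i ≤ 2 * j + 1, r i = q (2 * (n - j) + i) := by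
    intro j
    induction j with
    | zero =>
      intro _
      obtain ⟨δ, hδ, hδQ⟩ := hc
      refine ⟨fun i => g • p i, h.arc_smul g hp, h.A_smul g hA, ⟨g • δ, h.smul_adj g hδ, fun hQ => hδQ ?_⟩,
        fun i hi => by rw [show 2 * (n - 0) + i = b - 1 + i by omega]; exact hg i (by omega)⟩
      have := h.Q_conj (g := g⁻¹) hQ
      rwa [h.z_smul g (h.notA hA hδ), inv_inv, ← mul_assoc, ← mul_assoc, inv_mul_cancel, one_mul,
        inv_mul_cancel_right, inv_smul_smul] at this
    | succ j ih =>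
      intro hj
      obtain ⟨r, hr, hrA, hrc, hrq⟩ := ih (by omega)
      obtain ⟨m, hm⟩ : ∃ m, n - j = m + 1 := ⟨n - j - 1, by omega⟩
      have hr0 : r 0 = q (2 * m + 2) := by
        rw [hrq 0 (by omega)]
        exact congrArg q (by omega)
      have hr1 : r 1 = q (2 * m + 3) := by
        rw [hrq 1 (by omega)]
        exact congrArg q (by omega)
      have hy : adj (r 0) (q (2 * m + 1)) := hr0 ▸ h.symm (hq.1 (2 * m + 1) (by omega))
      have hyr : q (2 * m + 1) ≠ r 1 := hr1 ▸ hq.ne_pred (by omega)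
      have hx : adj (q (2 * m + 1)) (q (2 * m)) := h.symm (hq.1 (2 * m) (by omega))
      have hxr : q (2 * m) ≠ r 0 := hr0 ▸ hq.ne_pred (by omega)
      obtain ⟨u, hu, huQ⟩ := h.shift_crit hodd (by omega) hk hF hr hrA hrc hy hyr hx hxr
      refine ⟨consP (q (2 * m)) (consP (q (2 * m + 1)) r),
        (((hr.cons (h.symm hy) fun _ => hyr.symm)).cons (h.symm hx) fun _ => hxr.symm).mono (by omega),
        (hev m).resolve_right (by omega), ⟨u, hu, ?_⟩, fun i hi => ?_⟩
      · rw [show b = b - 2 + 1 + 1 by omega, consP_succ, consP_succ]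
        exact huQ
      · rw [show n - (j + 1) = m by omega]
        rcases i with - | - | i
        · rfl
        · rfl
        · rw [consP_succ, consP_succ, hrq i (by omega)]
          exact congrArg q (by omega)
  obtain ⟨r, -, -, ⟨δ, hδ, hδQ⟩, hrq⟩ := key n le_rfl
  refine ⟨δ, ?_, ?_⟩
  · simpa [hrq 0 (by omega)] using hδ
  · simpa [hrq b (by omega)] using hδQ

end HypB

end Cfsg.Agent.Transfer.Goldschmidt
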