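import Cfsg.Agent.Lib.Transfer.Goldschmidt.Three

/-!
# Critical length three: at most sixteen elements in `K x`
-/

set_option autoImplicit false

namespace Cfsg.Agent.Transfer.Goldschmidt

open MulAction Subgroup

variable {G V : Type*} [Group G] [MulAction G V] {adj : V → V → Prop} {A : V → Prop} {z : V → G}

namespace HypB

variable (h : HypB G adj A z 3) (hC : AllCrit G adj A z 3) (hD : D2 adj A z)
include h hC hD

/-- An element of `K x` fixing the neighbours of `y` and commuting with a centre beyond `y` lies in `K y`. -/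
theorem mem_K_of_comm {x μ y a δ : V} (hx : ¬ A x) (hμ : adj x μ) (hy : adj μ y) (ha : adj y a) (haμ : a ≠ μ)
    (hδ : adj a δ) (hδy : δ ≠ y) {p : G} (hp : p ∈ K G adj x) (hpy : p ∈ Q G adj y)
    (hc : p * z δ = z δ * p) : p ∈ K G adj y := by
  have hyB := h.notA (h.isA hx hμ) hy
  have haA := h.isA hyB ha
  have hpa : p • a = a := hpy.2 a ha
  exact h.K_of_two hD hyB ha (h.symm hy) haμ hpy
    (h.fix_two hpa hpy.1 (h.fix_of_comm haA hpa hδ hc) (h.symm ha) hδ hδy.symm) ((mem_K.mp hp).2 μ hμ)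

/-- The element obtained from a fixed point with nonzero bit does not exist. -/
theorem no_big {μ x y : V} (hμ : A μ) (hx : adj μ x) (hy : adj μ y) (hyx : y ≠ x) {ρ : G} (hρ : ρ • x = x)
    (hρ3 : ρ ^ 3 = 1) (hρne : ∀ u, adj x u → ρ • u ≠ u) {k r : G} (hk : k ∈ J0 G adj x) (hky : k ∉ Q G adj y)
    (hr : r ∈ K G adj x) (hrρ : ρ * r = r * ρ) (hr0 : r ∉ J0 G adj x) : False := by
  have hxB := h.notA hμ hx
  have hyB := h.notA hμ hy
  have hxμ := h.symm hx
  obtain ⟨d, hd, hdy, hdx, -⟩ := h.other hy hx hyx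
  have hdB := h.notA hμ hd
  have hK : ∀ {g}, g ∈ K G adj x → g ∈ T G y μ := fun hg => mem_T.mpr ⟨h.K_fix hg hxμ hy, (mem_K.mp hg).1.2 μ hxμ⟩
  have hkρ : ρ * k = k * ρ := J0_comm hk (subset_closure ⟨hρ, hρ3⟩)
  -- a fixed point with nonzero bit inside `Q y`
  obtain ⟨p₀, hp₀, hp₀y, hp₀ρ, hp₀0⟩ :
      ∃ p ∈ K G adj x, p ∈ Q G adj y ∧ ρ * p = p * ρ ∧ p ∉ J0 G adj x := by
    by_cases hry : r ∈ Q G adj y
    · exact ⟨r, hr, hry, hrρ, hr0⟩
    · refine ⟨r * k, mul_mem hr (J0_le_K hk), h.mul_mem_Q (h.symm hy) (hK hr) (hK (J0_le_K hk)) hry hky,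
        (Commute.mul_right (a := ρ) hrρ hkρ).eq, fun e => hr0 ?_⟩
      simpa using mul_mem e (inv_mem hk)
  obtain ⟨a, -, haμ, -, -, ha, -, -⟩ := h.nbr (h.symm hy)
  have haA := h.isA hyB ha
  obtain ⟨δ, -, hδy, -, -, hδ, -, -⟩ := h.nbr (h.symm ha)
  have hδB := h.notA haA hδ
  obtain ⟨a', -, ha'μ, -, -, ha', -, -⟩ := h.nbr hxμ
  obtain ⟨e, -, hex, -, -, he, -, -⟩ := h.nbr (h.symm ha')
  have heB := h.notA (h.isA hxB ha') he
  have heV : z e ∈ W adj z 2 x := mem_W (n := 2) ⟨a', ha', e, he, rfl⟩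
  have hzy : ∀ {g}, g ∈ Q G adj y → g * z δ * g⁻¹ = z δ ∨ g * z δ * g⁻¹ = z δ * z y := by
    intro g hg
    rw [← h.z_smul g hδB]
    exact h.rep_eq haA (h.symm ha) hδ (h.adj_smul_of_fix (hg.2 a ha) hδ) hδy
      fun e' => hδy (smul_left_cancel g (e'.trans hg.1.symm))
  have hzx : z δ • x = x := h.low le_rfl haA hδ ⟨y, h.symm ha, μ, h.symm hy, x, hx, rfl⟩
  have hsq := h.z_sq hδB
  have h3 : z δ * z e * z δ * z e = z d := h.third hC hD hyB ha (h.symm hy) hx ha' haμ hyx.symm ha'μ hδ hδy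
    he hex hd hdy hdx
  -- the correcting element
  obtain ⟨q, hq, hqy, hqz, v, hv, j, hj, rfl⟩ : ∃ q, q ∈ K G adj x ∧ q ∈ Q G adj y ∧
      q * z δ * q⁻¹ = z δ * z y ∧ ∃ v ∈ W adj z 2 x, ∃ j ∈ J0 G adj x, q = j * v := by
    have hke : k * z e ∈ Q G adj y := h.mul_mem_Q (h.symm hy) (hK (J0_le_K hk)) (hK (h.W_two_le_K hxB heV)) hky
      (h.rep_notQ hC ha' hxμ hy hxB ha'μ hyx he hex)
    refine ⟨_, mul_mem (J0_le_K hk) (h.W_two_le_K hxB heV), hke, ?_, z e, heV, k, hk, rfl⟩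
    refine (hzy hke).resolve_left fun hfix => ?_
    have hw : k * z δ * k⁻¹ * z δ ∈ J0 G adj x := by
      rw [show k * z δ * k⁻¹ * z δ = k * (z δ * k⁻¹ * z δ) by group]
      refine mul_mem hk ?_
      have := h.J0_conj (g := z δ) (inv_mem hk)
      rwa [hzx, inv_of_sq hsq] at this
    have hkd : k * z d = z d * k := h.z_comm hdB (h.K_fix (J0_le_K hk) hxμ hd)
    have hzd : z δ * z d = z d * z δ :=
      h.z_comm hdB (h.low le_rfl haA hδ ⟨y, h.symm ha, μ, h.symm hy, d, hd, rfl⟩)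
    have e1 : z e * z δ * (z e)⁻¹ = z δ * z d := by
      rw [← h3, inv_of_sq (h.z_sq heB), ← mul_assoc, ← mul_assoc, ← mul_assoc, hsq, one_mul]
    have e2 : k * z δ * k⁻¹ * z d = z δ := by
      calc k * z δ * k⁻¹ * z d = k * (z δ * z d) * k⁻¹ := by
            rw [show k * (z δ * z d) * k⁻¹ = k * z δ * (z d * k⁻¹) by group,
              show z d * k⁻¹ = k⁻¹ * z d from ((Commute.inv_left (hkd : Commute k (z d))).eq).symm]
            group
        _ = k * (z e * z δ * (z e)⁻¹) * k⁻¹ := by rw [e1]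
        _ = k * z e * z δ * (k * z e)⁻¹ := by group
        _ = z δ := hfix
    refine h.z_two_notJ0 hC hxB hxμ hd hdx ?_
    rw [show k * z δ * k⁻¹ = z δ * z d by
      rw [← mul_one (k * z δ * k⁻¹), ← h.z_sq hdB, ← mul_assoc, e2], hzd, mul_assoc, hsq, mul_one] at hw
    exact hw
  -- an element of `K x` and `K y` outside the centres
  obtain ⟨p, hpx, hpy, hpn⟩ : ∃ p ∈ K G adj x, p ∈ K G adj y ∧ p ∉ W adj z 1 μ := by
    have hout : ∀ v ∈ W adj z 2 x, ∀ j ∈ J0 G adj x, p₀ ≠ j * v := by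
      intro v hv j hj e'
      refine hp₀0 ?_
      rcases (h.mem_W_two hD hxB).mp hv with rfl | ⟨f, ⟨c, hc, f', hf, rfl⟩, rfl⟩
      · simpa [e'] using hj
      rcases eq_or_ne f' x with rfl | hfx
      · rw [e']; exact mul_mem hj (mem_J.mp (h.z_mem_J hxB)).1
      exfalso
      have hρj := J0_comm hj (subset_closure ⟨hρ, hρ3⟩)
      rw [e', ← mul_assoc, hρj, mul_assoc, mul_assoc] at hp₀ρ
      have hcomm := mul_left_cancel hp₀ρ
      refine h.dist_four hC hxB (h.adj_smul_of_fix hρ hc) hc (hρne c hc) (h.smul_adj ρ hf) hf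
        (fun k' => hfx (smul_left_cancel ρ (k'.trans hρ.symm))) hfx ?_
      rw [h.z_smul ρ (h.notA (h.isA hxB hc) hf), hcomm, mul_inv_cancel_right]
    rcases hzy hp₀y with e' | e'
    · refine ⟨p₀, hp₀, h.mem_K_of_comm hC hD hxB hxμ hy ha haμ hδ hδy hp₀ hp₀y (conj_eq_self_iff.mp e'),
        fun hm => hout p₀ (h.W_one_le_two hxμ hm) 1 (one_mem _) (one_mul _).symm⟩
    · have hp : p₀ * (j * v) ∈ K G adj x := mul_mem hp₀ hq
      have hpQ : p₀ * (j * v) ∈ Q G adj y := mul_mem hp₀y hqy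
      refine ⟨_, hp, h.mem_K_of_comm hC hD hxB hxμ hy ha haμ hδ hδy hp hpQ (conj_eq_self_iff.mp ?_),
        fun hm => ?_⟩
      · rw [show p₀ * (j * v) * z δ * (p₀ * (j * v))⁻¹ = p₀ * (j * v * z δ * (j * v)⁻¹) * p₀⁻¹ by group, hqz,
          show p₀ * (z δ * z y) * p₀⁻¹ = p₀ * z δ * p₀⁻¹ * (p₀ * z y * p₀⁻¹) by group, e',
          conj_eq_self_iff.mpr (h.z_comm hyB hp₀y.1), mul_assoc, h.z_sq hyB, mul_one]
      · set m := p₀ * (j * v) with hm_def
        refine hout (m * v⁻¹) (mul_mem (h.W_one_le_two hxμ hm) (inv_mem hv)) j⁻¹ (inv_mem hj) ?_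
        have c1 : Commute j⁻¹ (m * v⁻¹) := h.K_comm hxB (inv_mem (J0_le_K hj))
          (mul_mem (h.W_one_le_two hxμ hm) (inv_mem hv))
        rw [c1.eq, hm_def]
        group
  have hyμ := h.symm hy
  have hdμ := h.symm hd
  have hWd : ∀ {g}, g ∈ W adj z 1 μ → g ∈ K G adj d := fun hg => h.W_two_le_K hdB (h.W_one_le_two hdμ hg)
  have hpd : p ∉ K G adj d := fun hd' => hpn (h.M_le hC hD hμ (mem_M.mpr fun w hw => by
    rcases h.only hy hx hd hyx hdy.symm hdx.symm hw with rfl | rfl | rfl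
    exacts [hpy, hpx, hd']))
  -- the elements fixing `μ` and one of the two vertices, moving the other onto `d`
  have shift : ∀ {s t}, adj μ s → adj μ t → s ≠ t → s ≠ d → t ≠ d → p ∈ K G adj s → p ∈ K G adj t →
      ∃ c e, adj s c ∧ c ≠ μ ∧ adj c e ∧ e ≠ s ∧ z e * p ∈ K G adj d := by
    intro s t hs ht hst hsd htd hps hpt
    have hsB := h.notA hμ hs
    obtain ⟨u, hu, hus, huμ, huμ'⟩ := h.exists_swap hC hD hsB (h.symm hs)
    have e1 := (h.swap huμ' hus.1 hs ht hd hst hsd htd (h.moves_all huμ' hus.1 hs ht hst huμ)).1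
    set w := u * p * u⁻¹ * p⁻¹ with hw_def
    have hw : w ∈ W adj z 2 s := by
      have h0 := h.L_comm hC hD hsB hu (inv_mem (inv_mem hps))
      rw [inv_inv] at h0
      have h1 := inv_mem h0
      rwa [show (p * u * p⁻¹ * u⁻¹)⁻¹ = w by rw [hw_def]; group] at h1
    have hwd : w * p ∈ K G adj d := by
      rw [hw_def, inv_mul_cancel_right, ← e1]
      exact h.K_conj hpt
    rcases (h.mem_W_two hD hsB).mp hw with e' | ⟨e, ⟨c, hc, e₀, hce, rfl⟩, e'⟩
    · exact absurd (by simpa [e'] using hwd) hpd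
    have hbad : z e₀ ∈ W adj z 1 μ → False := fun hm => hpd (by
      simpa [← e'] using mul_mem (inv_mem (hWd hm)) hwd)
    exact ⟨c, e₀, hc, fun k => hbad (mem_W (wk_one (k ▸ hce))), hce,
      fun k => hbad (k ▸ mem_W (wk_one hs)), e' ▸ hwd⟩
  obtain ⟨c, f, hc, hcμ, hf, hfy, h1⟩ := shift hy hx hyx hdy.symm hdx.symm hpy hpx
  obtain ⟨c', f', hc', hc'μ, hf', hf'x, h2⟩ := shift hx hy hyx.symm hdx.symm hdy.symm hpx hpy
  obtain ⟨a'', -, ha''μ, -, -, ha'', -, -⟩ := h.nbr hdμ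
  obtain ⟨η, -, hηd, -, -, hη, -, -⟩ := h.nbr (h.symm ha'')
  have hηB := h.notA (h.isA hdB ha'') hη
  have hfB := h.notA (h.isA hyB hc) hf
  have hf'B := h.notA (h.isA hxB hc') hf'
  have t1 : z f * z η * z f * z η = z x := h.third hC hD hyB hc hyμ hd ha'' hcμ hdy ha''μ hf hfy hη hηd
    hx hyx.symm hdx.symm
  have t2 : z f' * z η * z f' * z η = z y := h.third hC hD hxB hc' hxμ hd ha'' hc'μ hdx ha''μ hf' hf'x hη hηd
    hy hyx hdy.symm
  have hff : z f * z f' ∈ K G adj d := by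
    have := mul_mem h1 (inv_mem h2)
    rwa [show z f * p * (z f' * p)⁻¹ = z f * (z f')⁻¹ by group, inv_of_sq (h.z_sq hf'B)] at this
  have hcm : Commute (z f * z f') (z η) := h.z_comm hηB (h.K_fix hff ha'' hη)
  have fsq := h.z_sq hfB
  have f'sq := h.z_sq hf'B
  have ηsq := h.z_sq hηB
  have a2 : z f' * z η * z f' = z y * z η := by rw [← t2, mul_assoc (z f' * z η * z f'), ηsq, mul_one]
  have a1 : z f * z η * z f = z x * z η := by rw [← t1, mul_assoc (z f * z η * z f), ηsq, mul_one]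
  have c1 : z f * z y = z y * z f :=
    h.z_comm hyB (h.low (k := 1) (by omega) (h.isA hyB hc) hf (wk_one (h.symm hc)))
  have key : z y * z x * z η = z η := by
    calc z y * z x * z η = z y * (z f * z η * z f) := by rw [a1, mul_assoc]
      _ = z f * (z y * z η) * z f := by
          rw [← mul_assoc, ← mul_assoc, ← c1]
          group
      _ = z f * z f' * z η * (z f' * z f) := by rw [← a2]; group
      _ = z η * (z f * z f') * (z f' * z f) := by rw [hcm.eq]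
      _ = z η := by
          rw [show z η * (z f * z f') * (z f' * z f) = z η * (z f * (z f' * z f') * z f) by group, f'sq, mul_one,
            fsq, mul_one]
  rw [mul_eq_right, mul_eq_one_iff_eq_inv, inv_of_sq (h.z_sq hxB)] at key
  exact hyx (h.z_inj hμ hy hx key)

/-- The bound for `K x`. -/
theorem card_K_le {μ x : V} (hμ : A μ) (hx : adj μ x) : Nat.card (K G adj x) ≤ 16 := by
  classical
  have hxB := h.notA hμ hx
  have hxμ := h.symm hx
  haveI := h.fin x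
  haveI : Finite (K G adj x) := Finite.of_injective _
    (Subgroup.inclusion_injective (show K G adj x ≤ stabilizer G x from fun g hg => (mem_K.mp hg).1.1))
  obtain ⟨ρ, hρ, hρ3, hρne⟩ := h.exists_three hxμ
  obtain ⟨b1, b2, n1, n2, n3, -⟩ := h.cycle hρ hρ3 hρne hxμ
  set R := K G adj x ⊓ centralizer {ρ} with hR
  haveI : Finite R := Finite.of_injective _ (Subgroup.inclusion_injective (inf_le_left : R ≤ K G adj x))
  obtain ⟨e₁, -, he₁, -, -, ha₁, -, -⟩ := h.nbr (h.symm hxμ)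
  obtain ⟨e₂, -, he₂, -, -, ha₂, -, -⟩ := h.nbr (h.symm b1)
  obtain ⟨e₃, -, he₃, -, -, ha₃, -, -⟩ := h.nbr (h.symm b2)
  have zR : z x ∈ R := mem_inf.mpr ⟨h.W_two_le_K hxB (mem_W (n := 2) ⟨μ, hxμ, x, hx, rfl⟩),
    mem_centralizer_singleton_iff.mpr (h.z_comm hxB hρ).symm⟩
  let t : Fin 4 → G := ![1, z e₁, z e₂, z e₃]
  have cover : ∀ k : K G adj x, ∃ p : R × Fin 4, (k : G) = (p.1 : G) * t p.2 := by
    rintro ⟨k, hk⟩
    obtain ⟨r, hr, hc, v, hv, rfl⟩ := h.decomp hC hD hxB hρ hρ3 hk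
    have hrR : r ∈ R := mem_inf.mpr ⟨hr, mem_centralizer_singleton_iff.mpr hc.symm⟩
    rcases (h.mem_W_two hD hxB).mp hv with rfl | ⟨e, ⟨a, ha, e₀, he, rfl⟩, rfl⟩
    · exact ⟨(⟨r, hrR⟩, 0), rfl⟩
    rcases eq_or_ne e₀ x with rfl | hex
    · exact ⟨(⟨r * z e₀, mul_mem hrR zR⟩, 0), (mul_one _).symm⟩
    have aux : ∀ {a e'}, adj x a → adj a e' → e' ≠ x → adj a e₀ →
        z e₀ = z e' ∨ z e₀ = z x * z e' := by
      intro a e' ha he' he'x he
      rcases h.rep_eq (h.isA hxB ha) (h.symm ha) he' he he'x hex with k | k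
      · exact Or.inl k
      · exact Or.inr (k.trans (h.z_commute (h.isA hxB ha) he' (h.symm ha)))
    rcases h.only hxμ b1 b2 n1 n2 n3 ha with rfl | rfl | rfl
    · rcases aux ha ha₁ he₁ he with k | k
      · exact ⟨(⟨r, hrR⟩, 1), congrArg (r * ·) k⟩
      · exact ⟨(⟨r * z x, mul_mem hrR zR⟩, 1), by
          show r * z e₀ = r * z x * z e₁
          rw [k, mul_assoc]⟩
    · rcases aux ha ha₂ he₂ he with k | k
      · exact ⟨(⟨r, hrR⟩, 2), congrArg (r * ·) k⟩
      · exact ⟨(⟨r * z x, mul_mem hrR zR⟩, 2), by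
          show r * z e₀ = r * z x * z e₂
          rw [k, mul_assoc]⟩
    · rcases aux ha ha₃ he₃ he with k | k
      · exact ⟨(⟨r, hrR⟩, 3), congrArg (r * ·) k⟩
      · exact ⟨(⟨r * z x, mul_mem hrR zR⟩, 3), by
          show r * z e₀ = r * z x * z e₃
          rw [k, mul_assoc]⟩
  choose f hf using cover
  have c0 : Nat.card (K G adj x) ≤ Nat.card (R × Fin 4) :=
    Nat.card_le_card_of_injective f fun a b e => Subtype.ext (by rw [hf a, hf b, e])
  rw [Nat.card_prod, Nat.card_fin] at c0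
  -- the kernel
  have hJR : J0 G adj x ≤ R := fun j hj => mem_inf.mpr
    ⟨J0_le_K hj, mem_centralizer_singleton_iff.mpr (J0_comm hj (subset_closure ⟨hρ, hρ3⟩)).symm⟩
  obtain ⟨y, -, hyx, -, -, hy, -, -⟩ := h.nbr hx
  have cR : Nat.card R ≤ 2 * Nat.card (J0 G adj x) := by
    refine card_le_two hJR fun a ha b hb haJ hbJ => ?_
    have rho : ∀ {g}, g ∈ R → ρ * g = g * ρ := fun hg => (mem_centralizer_singleton_iff.mp hg.2).symm
    refine h.kernel hC hD hxB hxμ hρ hρ3 hρne (mul_mem (inv_mem ha.1) hb.1) (rho (mul_mem (inv_mem ha) hb)) ?_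
    intro u huL hux huμ huw
    have bit : ∀ {g}, g ∈ R → g ∉ J0 G adj x → ∃ m, adj μ m ∧ m ≠ x ∧ g * u * g⁻¹ * u⁻¹ = z m := by
      intro g hg hgJ
      have hgμ := (mem_K.mp hg.1).2 μ hxμ
      have hc : g * u * g⁻¹ * u⁻¹ ∈ W adj z 1 μ := h.inter_Q hC hD hxB hxμ hy hyx (h.L_comm hC hD hxB huL hg.1)
        (h.comm_mem_Q (h.symm hy) (mem_T.mpr ⟨hgμ.2 y hy, hgμ.1⟩) (mem_T.mpr ⟨huμ.2 y hy, huμ.1⟩))
      have hnot : ¬ (g * u * g⁻¹ * u⁻¹ = 1 ∨ g * u * g⁻¹ * u⁻¹ = z x) := by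
        intro hcase
        refine hgJ (h.kernel hC hD hxB hxμ hρ hρ3 hρne hg.1 (rho hg) fun u' hu'L hu'x hu'μ hu'w => ?_)
        -- any two such elements differ by an element of `K x`
        have hb1 : u ∉ Q G adj (ρ • μ) := huw _ b1 n1.symm
        have hp : u⁻¹ * u' ∈ K G adj x := h.K_of_two hD hxB hxμ b1 n1 (mul_mem (inv_mem hux) hu'x)
          (mul_mem (inv_mem huμ) hu'μ) (h.mul_mem_Q (h.symm b1) (mem_T.mpr ⟨(inv_mem hux).2 _ b1, (inv_mem hux).1⟩)
            (mem_T.mpr ⟨hu'x.2 _ b1, hu'x.1⟩) (fun e => hb1 (inv_mem_iff.mp e)) (hu'w _ b1 n1.symm))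
        have hL' : u⁻¹ * u' ∈ L G x := mul_mem (inv_mem huL) hu'L
        obtain ⟨k, hk, -, w, hw, hkw⟩ := h.decomp hC hD hxB hρ hρ3 hp
        have hcz : ∀ {c}, c = 1 ∨ c = z x → u * c * u⁻¹ = c := by
          rintro c (rfl | rfl)
          · group
          · rw [h.z_comm hxB hux.1, mul_inv_cancel_right]
        have hcg : g * (u⁻¹ * u') * g⁻¹ * (u⁻¹ * u')⁻¹ = 1 ∨
            g * (u⁻¹ * u') * g⁻¹ * (u⁻¹ * u')⁻¹ = z x := by
          have hm : g * (u⁻¹ * u') * g⁻¹ * (u⁻¹ * u')⁻¹ ∈ J0 G adj x := h.comm_J0 hC hD hxB hg.1 hp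
          have hm' : g * (u⁻¹ * u') * g⁻¹ * (u⁻¹ * u')⁻¹ ∈ W adj z 2 x := h.L_comm hC hD hxB hL' hg.1
          rcases (h.mem_W_two hD hxB).mp hm' with k' | ⟨e, ⟨c, hc', e', he', rfl⟩, k'⟩
          · exact Or.inl k'
          rcases eq_or_ne e' x with rfl | hne
          · exact Or.inr k'.symm
          · exact absurd (k' ▸ hm) (h.z_two_notJ0 hC hxB hc' he' hne)
        have e1 : g * u' * g⁻¹ * u'⁻¹ =
            g * u * g⁻¹ * u⁻¹ * (u * (g * (u⁻¹ * u') * g⁻¹ * (u⁻¹ * u')⁻¹) * u⁻¹) := by group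
        rw [e1, hcz hcg]
        rcases hcase with k' | k' <;> rcases hcg with k'' | k'' <;> rw [k', k''] <;> simp [h.z_sq hxB]
      rcases (h.mem_W_one hμ).mp hc with k | ⟨m, hm, k⟩
      · exact absurd (Or.inl k) hnot
      · exact ⟨m, hm, fun e => hnot (Or.inr (by rw [← k, e])), k.symm⟩
    obtain ⟨m, hm, hmx, ea⟩ := bit ha haJ
    obtain ⟨m', hm', hm'x, eb⟩ := bit hb hbJ
    have hcomm : a⁻¹ * b * u * (a⁻¹ * b)⁻¹ * u⁻¹ = z m * z m' := by
      have hmB := h.notA hμ hm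
      have hm'B := h.notA hμ hm'
      have am : Commute a (z m) := h.z_comm hmB (((mem_K.mp ha.1).2 μ hxμ).2 m hm)
      have am' : Commute a (z m') := h.z_comm hm'B (((mem_K.mp ha.1).2 μ hxμ).2 m' hm')
      rw [mul_inv_eq_iff_eq_mul, mul_inv_eq_iff_eq_mul] at ea eb
      calc a⁻¹ * b * u * (a⁻¹ * b)⁻¹ * u⁻¹ = a⁻¹ * (b * u * b⁻¹) * a * u⁻¹ := by group
        _ = a⁻¹ * (z m' * u) * a * u⁻¹ := by rw [eb, mul_inv_cancel_right]
        _ = a⁻¹ * z m' * (z m * (z m * u * a)) * u⁻¹ := by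
            rw [show z m * (z m * u * a) = z m * z m * u * a by group, h.z_sq hmB]; group
        _ = a⁻¹ * (z m' * z m * a) * u * u⁻¹ := by rw [← ea]; group
        _ = z m * z m' := by
            rw [h.z_commute hμ hm' hm, show z m * z m' * a = a * (z m * z m') from (am.mul_right am').eq.symm]
            group
    rw [hcomm]
    rcases eq_or_ne m m' with rfl | hne
    · exact Or.inl (h.z_sq (h.notA hμ hm))
    · exact Or.inr (h.z_sum hμ hm hm' hx hne hmx hm'x)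
  have cJ : Nat.card (J G adj x) ≤ 2 := by
    haveI : Finite (J G adj x) := Finite.of_injective _
      (Subgroup.inclusion_injective (show J G adj x ≤ K G adj x from fun g hg => J0_le_K (mem_J.mp hg).1))
    let g : J G adj x → Bool := fun j => decide ((j : G) = 1)
    refine le_trans (Nat.card_le_card_of_injective g fun a b e => ?_) (by simp)
    simp only [g, decide_eq_decide] at e
    rcases h.J_small hC hD hxB a.2 with ka | ka <;> rcases h.J_small hC hD hxB b.2 with kb | kb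
    · exact Subtype.ext (ka.trans kb.symm)
    · exact absurd ((kb.symm.trans (e.mp ka))) (h.z_ne hxB)
    · exact absurd ((ka.symm.trans (e.mpr kb))) (h.z_ne hxB)
    · exact Subtype.ext (ka.trans kb.symm)
  haveI : Finite (J0 G adj x) := Finite.of_injective _ (Subgroup.inclusion_injective (J0_le_K : _ ≤ K G adj x))
  haveI : Finite (J G adj x) := Finite.of_injective _
    (Subgroup.inclusion_injective (show J G adj x ≤ K G adj x from fun g hg => J0_le_K (mem_J.mp hg).1))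
  have cJ0 : Nat.card (J0 G adj x) ≤ 4 := by
    have h1 := h.card_inter (h.symm hy) (H := J0 G adj x)
      fun g hg => mem_T.mpr ⟨h.K_fix (J0_le_K hg) hxμ hy, (mem_K.mp (J0_le_K hg)).1.2 μ hxμ⟩
    have h2 : Nat.card (J0 G adj x ⊓ Q G adj y : Subgroup G) ≤ Nat.card (J G adj x) :=
      Nat.card_le_card_of_injective _ (Subgroup.inclusion_injective
        (fun g hg => h.J0_inter hC hD hxB hxμ hy hyx hg.1 hg.2 : J0 G adj x ⊓ Q G adj y ≤ J G adj x))
    omega
  by_cases hk : ∀ k ∈ J0 G adj x, k ∈ Q G adj y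
  · have h2 : Nat.card (J0 G adj x) ≤ Nat.card (J G adj x) :=
      Nat.card_le_card_of_injective _ (Subgroup.inclusion_injective
        (fun g hg => h.J0_inter hC hD hxB hxμ hy hyx hg (hk g hg) : J0 G adj x ≤ J G adj x))
    omega
  push Not at hk
  obtain ⟨k, hk0, hky⟩ := hk
  by_cases hr : ∀ r ∈ R, r ∈ J0 G adj x
  · have h2 : Nat.card R ≤ Nat.card (J0 G adj x) :=
      Nat.card_le_card_of_injective _ (Subgroup.inclusion_injective (hr : R ≤ J0 G adj x))
    omega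
  push Not at hr
  obtain ⟨r, hrR, hr0⟩ := hr
  exact (h.no_big hC hD hμ hx hy hyx hρ hρ3 hρne hk0 hky hrR.1
    (mem_centralizer_singleton_iff.mp hrR.2).symm hr0).elim

theorem card_of_three {μ x : V} (hμ : A μ) (hx : adj μ x) : Nat.card (T G μ x) ≤ 2 ^ 7 := by
  have hxB := h.notA hμ hx
  have hxμ := h.symm hx
  obtain ⟨c, -, hcμ, -, -, hc, -, -⟩ := h.nbr hxμ
  rw [show T G μ x = T G x μ from inf_comm _ _]
  have l0 := h.T_card_le hxμ hc hcμ.symm
  haveI := h.fin x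
  have l1 := h.card_inter (v := μ) (u := x) (h.symm hxμ) (H := Q G adj x) fun g hg => mem_T.mpr ⟨hg.2 μ hxμ, hg.1⟩
  have l2 := h.card_inter (v := c) (u := x) (h.symm hc) (H := Q G adj x ⊓ Q G adj μ)
    fun g hg => mem_T.mpr ⟨hg.1.2 c hc, hg.1.1⟩
  haveI : Finite (K G adj x) := Finite.of_injective _
    (Subgroup.inclusion_injective (show K G adj x ≤ stabilizer G x from fun g hg => (mem_K.mp hg).1.1))
  have l3 : Nat.card (Q G adj x ⊓ Q G adj μ ⊓ Q G adj c : Subgroup G) ≤ Nat.card (K G adj x) :=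
    Nat.card_le_card_of_injective _ (Subgroup.inclusion_injective
      (fun g hg => h.K_of_two hD hxB hxμ hc hcμ.symm hg.1.1 hg.1.2 hg.2 :
        Q G adj x ⊓ Q G adj μ ⊓ Q G adj c ≤ K G adj x))
  have l4 := h.card_K_le hC hD hμ hx
  omega

end HypB

end Cfsg.Agent.Transfer.Goldschmidt
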