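import Cfsg.Agent.Lib.Transfer.Goldschmidt.EvenCase
import Cfsg.Agent.Lib.Transfer.Goldschmidt.OddShift
import Cfsg.Agent.Lib.Transfer.Goldschmidt.ThreeBound
import Cfsg.Agent.Lib.Invol.S4AmalgamPair

/-!
# The coset graph of a pair with one centre central
-/

set_option autoImplicit false

namespace Cfsg.Agent.Transfer.Goldschmidt

open MulAction Subgroup

/-- The bound in every critical length. -/
theorem Hyp.card_T_le {G V : Type*} [Group G] [MulAction G V] {adj : V → V → Prop} {A : V → Prop} {z : V → G}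
    (h : Hyp G adj A z) {μ x : V} (hμ : A μ) (hx : adj μ x) : Nat.card (T G μ x) ≤ 2 ^ 7 := by
  obtain ⟨b, hb⟩ := h.exists_b μ
  have hpos := hb.pos
  rcases (by omega : b = 1 ∨ b = 2 ∨ 3 ≤ b) with e | e | hb3
  · exact hb.card_of_one e hμ hx
  · exact hb.card_of_two e hμ hx
  have hodd : ¬ Even b := fun he => by
    rcases (by omega : b = 3 ∨ 4 ≤ b) with rfl | h4
    · exact absurd he (by decide)
    · exact hb.not_even h4 he
  have hC := hb.allCrit_odd hodd
  obtain rfl : b = 3 := le_antisymm (hb.le_three hC hodd) hb3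
  exact hb.card_of_three hC (hb.d2 hC hodd le_rfl) hμ hx

variable {G : Type*} [Group G]

/-- A pair of groups, one of which centralizes the distinguished involution. -/
theorem pair_bound (P₁ P₂ : Subgroup G) [Finite ↥P₁] [Finite ↥P₂] (hgen : P₁ ⊔ P₂ = ⊤)
    (hr1 : (P₁ ⊓ P₂).relIndex P₁ = 3) (hr2 : (P₁ ⊓ P₂).relIndex P₂ = 3)
    (hnn1 : ¬ ((P₁ ⊓ P₂).subgroupOf P₁).Normal) (hnn2 : ¬ ((P₁ ⊓ P₂).subgroupOf P₂).Normal)
    (hp : IsPGroup 2 ↥(P₁ ⊓ P₂)) (hfaith : ∀ N : Subgroup G, N ≤ P₁ ⊓ P₂ → N.Normal → N = ⊥) {z₀ : G}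
    (hz1 : z₀ ≠ 1) (hz2 : z₀ * z₀ = 1) (hzc : ∀ g ∈ P₂, g * z₀ = z₀ * g)
    (hzf : ∀ g ∈ P₁, g * z₀ * g⁻¹ ∈ P₁ ⊓ P₂)
    (hnc : ∀ x ∈ P₁ ⊓ P₂, (∀ g ∈ P₁, g * x = x * g) → x * x = 1 → x = 1) :
    Nat.card ↥(P₁ ⊓ P₂) ≤ 2 ^ 7 := by
  classical
  have hA : Cfsg.IsAmalgamPair P₁ P₂ := by
    refine ⟨hgen, fun e => ?_, fun e => ?_, fun N hN hNn => hfaith N hN hNn⟩
    · rw [e, top_inf_eq, Subgroup.relIndex_self] at hr2; omega
    · rw [e, inf_top_eq, Subgroup.relIndex_self] at hr1; omega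
  set a : Cfsg.CosetVertex P₁ P₂ := Sum.inl ((1 : G) : G ⧸ P₁) with ha
  set b : Cfsg.CosetVertex P₁ P₂ := Sum.inr ((1 : G) : G ⧸ P₂) with hb
  have hsa : stabilizer G a = P₁ := by rw [ha, Invol.stabilizer_inl, Invol.map_conj_one]
  have hsb : stabilizer G b = P₂ := by rw [hb, Invol.stabilizer_inr, Invol.map_conj_one]
  set adj : Cfsg.CosetVertex P₁ P₂ → Cfsg.CosetVertex P₁ P₂ → Prop := (Cfsg.cosetGraph P₁ P₂).Adj with hadjdef
  have hab : adj a b := Invol.adj_one
  have hadj' : ∀ (g : G) {u v}, adj u v → adj (g • u) (g • v) := fun g _ _ h => Invol.adj_smul g h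
  have hedge : ∀ u v, adj u v → ∃ g : G, (g • a = u ∧ g • b = v) ∨ (g • b = u ∧ g • a = v) := by
    intro u v huv
    obtain ⟨x, ⟨rfl, rfl⟩ | ⟨rfl, rfl⟩⟩ := Invol.adj_iff.mp huv
    · exact ⟨x, Or.inl ⟨Invol.smul_inl_one x, Invol.smul_inr_one x⟩⟩
    · exact ⟨x, Or.inr ⟨Invol.smul_inr_one x, Invol.smul_inl_one x⟩⟩
  have hvert : ∀ v : Cfsg.CosetVertex P₁ P₂, ∃ g : G, g • a = v ∨ g • b = v := by
    rintro (q | q) <;> induction q using QuotientGroup.induction_on with | _ x => ?_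
    · exact ⟨x, Or.inl (Invol.smul_inl_one x)⟩
    · exact ⟨x, Or.inr (Invol.smul_inr_one x)⟩
  have trans : ∀ {v u w}, adj v u → adj v w → ∃ g ∈ stabilizer G v, g • u = w := fun hu hw =>
    Invol.Amal.exists_smul_neighbour hu hw
  have horb : ∀ {c d}, adj c d → ∀ w, adj c w ↔ w ∈ orbit (↥(stabilizer G c)) d := by
    intro c d hcd w
    refine ⟨fun hw => ?_, ?_⟩
    · obtain ⟨g, hg, e⟩ := trans hcd hw
      exact ⟨⟨g, hg⟩, e⟩
    · rintro ⟨g, rfl⟩
      have := hadj' (g : G) hcd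
      rwa [mem_stabilizer_iff.mp g.2] at this
  have hcard : ∀ v, Nat.card {u // adj v u} = 3 := by
    have basea : Nat.card {u // adj a u} = 3 := by
      rw [Nat.card_congr (Equiv.subtypeEquivRight (horb hab))]
      exact Invol.S4Am.finite_nbr (P := P₁) (R := P₂) hr1 hsa hsb
    have baseb : Nat.card {u // adj b u} = 3 := by
      rw [Nat.card_congr (Equiv.subtypeEquivRight (horb hab.symm))]
      exact Invol.S4Am.finite_nbr (P := P₂) (R := P₁) (by rw [inf_comm]; exact hr2) hsb hsa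
    intro v
    obtain ⟨g, hg⟩ := hvert v
    have key : ∀ c, g • c = v → Nat.card {u // adj c u} = Nat.card {u // adj v u} := by
      rintro c rfl
      exact Nat.card_congr ((MulAction.toPerm g).subtypeEquiv fun u =>
        ⟨fun hu => hadj' g hu, fun hu => by simpa using hadj' g⁻¹ hu⟩)
    rcases hg with e | e
    · rw [← key a e]; exact basea
    · rw [← key b e]; exact baseb
  have hnbr : ∀ {v u}, adj v u → ∃ w₁ w₂, w₁ ≠ u ∧ w₂ ≠ u ∧ w₁ ≠ w₂ ∧ adj v w₁ ∧ adj v w₂ ∧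
      ∀ w, adj v w → w = u ∨ w = w₁ ∨ w = w₂ := by
    intro v u hvu
    haveI : Finite {x // adj v x} := Nat.finite_of_card_ne_zero (by rw [hcard v]; norm_num)
    haveI := Fintype.ofFinite {x // adj v x}
    have h3 : (Finset.univ : Finset {x // adj v x}).card = 3 := by
      rw [Finset.card_univ, ← Nat.card_eq_fintype_card, hcard v]
    obtain ⟨w₁, w₂, hne, he⟩ := Finset.card_eq_two.mp (show (Finset.univ.erase (⟨u, hvu⟩ : {x // adj v x})).card = 2 by
      rw [Finset.card_erase_of_mem (Finset.mem_univ _), h3])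
    have m1 : w₁ ∈ Finset.univ.erase (⟨u, hvu⟩ : {x // adj v x}) := by rw [he]; simp
    have m2 : w₂ ∈ Finset.univ.erase (⟨u, hvu⟩ : {x // adj v x}) := by rw [he]; simp
    refine ⟨w₁, w₂, fun e => Finset.ne_of_mem_erase m1 (Subtype.ext e),
      fun e => Finset.ne_of_mem_erase m2 (Subtype.ext e), fun e => hne (Subtype.ext e), w₁.2, w₂.2, fun w hw => ?_⟩
    by_cases hwu : w = u
    · exact Or.inl hwu
    have hm : (⟨w, hw⟩ : {x // adj v x}) ∈ Finset.univ.erase (⟨u, hvu⟩ : {x // adj v x}) :=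
      Finset.mem_erase.mpr ⟨fun e => hwu (congrArg Subtype.val e), Finset.mem_univ _⟩
    rw [he, Finset.mem_insert, Finset.mem_singleton] at hm
    rcases hm with e | e
    · exact Or.inr (Or.inl (congrArg Subtype.val e))
    · exact Or.inr (Or.inr (congrArg Subtype.val e))
  have hmove : ∀ {v u}, adj v u → ∃ g : G, g • v = v ∧ g • u = u ∧ ∃ w, adj v w ∧ g • w ≠ w := by
    have base : ∀ {c d} (P : Subgroup G), adj c d → stabilizer G c = P →
        stabilizer G c ⊓ stabilizer G d = P₁ ⊓ P₂ → ¬ ((P₁ ⊓ P₂).subgroupOf P).Normal →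
        ∃ g : G, g • c = c ∧ g • d = d ∧ ∃ w, adj c w ∧ g • w ≠ w := by
      intro c d P hcd hc hT hnn
      by_contra hno
      push Not at hno
      refine hnn ⟨fun x hx g => mem_subgroupOf.mpr ?_⟩
      have hx' := hT.ge (mem_subgroupOf.mp hx)
      have hgc : (g : G) • c = c := mem_stabilizer_iff.mp (hc.ge g.2)
      have hgi : (g : G)⁻¹ • c = c := inv_smul_eq_iff.mpr hgc.symm
      refine hT.le ⟨mem_stabilizer_iff.mpr ?_, mem_stabilizer_iff.mpr ?_⟩
      · show ((g : G) * x * (g : G)⁻¹) • c = c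
        rw [mul_smul, mul_smul, hgi, mem_stabilizer_iff.mp hx'.1, hgc]
      · show ((g : G) * x * (g : G)⁻¹) • d = d
        have hd : adj c ((g : G)⁻¹ • d) := by simpa [hgi] using hadj' (g : G)⁻¹ hcd
        rw [mul_smul, mul_smul, hno _ (mem_stabilizer_iff.mp hx'.1) (mem_stabilizer_iff.mp hx'.2) _ hd,
          smul_inv_smul]
    have conj : ∀ (g : G) {c d : Cfsg.CosetVertex P₁ P₂}, (∃ t : G, t • c = c ∧ t • d = d ∧ ∃ w, adj c w ∧ t • w ≠ w) →
        ∃ t : G, t • g • c = g • c ∧ t • g • d = g • d ∧ ∃ w, adj (g • c) w ∧ t • w ≠ w := by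
      rintro g c d ⟨t, t1, t2, w, hw, t3⟩
      exact ⟨g * t * g⁻¹, by simp [mul_smul, t1], by simp [mul_smul, t2], g • w, hadj' g hw,
        fun e => t3 (by simpa [mul_smul] using e)⟩
    intro v u hvu
    obtain ⟨g, ⟨rfl, rfl⟩ | ⟨rfl, rfl⟩⟩ := hedge v u hvu
    · exact conj g (base P₁ hab hsa (by rw [hsa, hsb]) hnn1)
    · exact conj g (base P₂ hab.symm hsb (by rw [hsa, hsb, inf_comm]) hnn2)
  have htwo : ∀ {v u}, adj v u → IsPGroup 2 (T G v u) := by
    intro v u hvu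
    have key : ∀ (g : G) (t : G), t • g • a = g • a → t • g • b = g • b → ∃ k, t ^ 2 ^ k = 1 := by
      intro g t t1 t2
      have ht : g⁻¹ * t * g ∈ P₁ ⊓ P₂ :=
        ⟨hsa.le (mem_stabilizer_iff.mpr (by rw [mul_smul, mul_smul, t1, inv_smul_smul])),
          hsb.le (mem_stabilizer_iff.mpr (by rw [mul_smul, mul_smul, t2, inv_smul_smul]))⟩
      obtain ⟨k, hk⟩ := hp ⟨_, ht⟩
      refine ⟨k, ?_⟩
      have e : (g⁻¹ * t * g) ^ 2 ^ k = 1 := congrArg Subtype.val hk
      rwa [show g⁻¹ * t * g = g⁻¹ * t * g⁻¹⁻¹ by rw [inv_inv], conj_pow, mul_inv_eq_one, mul_eq_left] at e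
    obtain ⟨g, hg⟩ := hedge v u hvu
    intro t
    obtain ⟨k, hk⟩ : ∃ k, (t : G) ^ 2 ^ k = 1 := by
      rcases hg with ⟨e1, e2⟩ | ⟨e1, e2⟩
      · exact key g t (by rw [e1]; exact t.2.1) (by rw [e2]; exact t.2.2)
      · exact key g t (by rw [e2]; exact t.2.2) (by rw [e1]; exact t.2.1)
    exact ⟨k, Subtype.ext hk⟩
  let z : Cfsg.CosetVertex P₁ P₂ → G := Sum.elim (fun _ => 1) (fun q => q.out * z₀ * q.out⁻¹)
  have hzwell : ∀ x : G, z (x • b) = x * z₀ * x⁻¹ := by
    intro x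
    rw [hb, Invol.smul_inr_one]
    show (Quotient.out (x : G ⧸ P₂)) * z₀ * (Quotient.out (x : G ⧸ P₂))⁻¹ = _
    obtain ⟨p, hp'⟩ := QuotientGroup.mk_out_eq_mul P₂ x
    rw [hp', show x * (p : G) * z₀ * (x * (p : G))⁻¹ = x * ((p : G) * z₀) * (p : G)⁻¹ * x⁻¹ by group, hzc p p.2]
    group
  let A : Cfsg.CosetVertex P₁ P₂ → Prop := fun v => v.isLeft
  have hAb : ∀ {v}, ¬ A v → ∃ g : G, g • b = v := by
    intro v hv
    obtain ⟨g, e | e⟩ := hvert v
    · rw [← e, ha, Invol.smul_inl_one] at hv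
      exact absurd rfl hv
    · exact ⟨g, e⟩
  have hAa : ∀ {v}, A v → ∃ g : G, g • a = v := by
    intro v hv
    obtain ⟨g, e | e⟩ := hvert v
    · exact ⟨g, e⟩
    · rw [← e, hb, Invol.smul_inr_one] at hv
      exact absurd hv (by simp [A])
  have hyp : Hyp G adj A z :=
    { symm := fun h => h.symm
      smul_adj := hadj'
      A_smul := fun g v hv => by
        obtain ⟨x, rfl⟩ := hAa hv
        rw [← mul_smul, ha, Invol.smul_inl_one]
        rfl
      bip := fun {u v} huv => by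
        obtain ⟨x, ⟨rfl, rfl⟩ | ⟨rfl, rfl⟩⟩ := Invol.adj_iff.mp huv <;> simp [A]
      conn := fun u v =>
        (SimpleGraph.reachable_iff_reflTransGen u v).mp ((Invol.cosetGraph_connected hgen).preconnected u v)
      fin := by
        intro v
        obtain ⟨g, rfl | rfl⟩ := hvert v
        · rw [Invol.Amal.stab_smul, hsa]; exact Invol.Amal.finite_cj g P₁
        · rw [Invol.Amal.stab_smul, hsb]; exact Invol.Amal.finite_cj g P₂
      deg := fun v => by
        obtain ⟨g, rfl | rfl⟩ := hvert v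
        exacts [⟨_, hadj' g hab⟩, ⟨_, hadj' g hab.symm⟩]
      nbr := hnbr
      trans := trans
      move := hmove
      two := htwo
      faithful := fun {v u} huv N hN h1 h2 => Invol.Amal.eq_bot_of_normalized hA huv hN
        (fun g hg => Subgroup.mem_normalizer_iff.mpr fun x => ⟨h1 g hg x, fun hx => by
          simpa [mul_assoc] using h1 g⁻¹ (inv_mem hg) _ hx⟩)
        (fun g hg => Subgroup.mem_normalizer_iff.mpr fun x => ⟨h2 g hg x, fun hx => by
          simpa [mul_assoc] using h2 g⁻¹ (inv_mem hg) _ hx⟩)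
      z_smul := fun g v hv => by
        obtain ⟨x, rfl⟩ := hAb hv
        rw [← mul_smul, hzwell, hzwell]
        group
      z_ne := fun {v} hv e => hz1 (by
        obtain ⟨x, rfl⟩ := hAb hv
        rwa [hzwell, conj_eq_one_iff] at e)
      z_sq := fun {v} hv => by
        obtain ⟨x, rfl⟩ := hAb hv
        rw [hzwell, show x * z₀ * x⁻¹ * (x * z₀ * x⁻¹) = x * (z₀ * z₀) * x⁻¹ by group, hz2]
        group
      z_fix := fun {v w} hv hvw => by
        obtain ⟨g, ⟨rfl, rfl⟩ | ⟨rfl, rfl⟩⟩ := hedge v w hvw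
        · rw [hzwell]
          have h0 : ∀ u, adj a u → z₀ • u = u := fun u hu => by
            obtain ⟨k, hk, rfl⟩ := trans hab hu
            have h1 := hzf k⁻¹ (inv_mem (hsa.le hk))
            rw [inv_inv] at h1
            have h2 : k⁻¹ * z₀ * k ∈ stabilizer G b := hsb.ge h1.2
            rw [mem_stabilizer_iff, mul_smul, mul_smul, inv_smul_eq_iff] at h2
            exact h2
          have h00 : z₀ • a = a := mem_stabilizer_iff.mp
            (hsa.ge (by simpa using (hzf 1 (one_mem _)).1))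
          refine ⟨by simp [mul_smul, h00], fun u hu => ?_⟩
          have := h0 (g⁻¹ • u) (by simpa using hadj' g⁻¹ hu)
          rw [mul_smul, mul_smul, this, smul_inv_smul]
        · rw [hb, Invol.smul_inr_one] at hv
          exact absurd hv (by simp [A])
      no_central := fun {v w} hv hvw x hx hc hsq => by
        obtain ⟨g, ⟨rfl, rfl⟩ | ⟨rfl, rfl⟩⟩ := hedge v w hvw
        · have h1 : g⁻¹ * x * g ∈ P₁ ⊓ P₂ :=
            ⟨hsa.le (mem_stabilizer_iff.mpr (by rw [mul_smul, mul_smul, hx.1, inv_smul_smul])),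
              hsb.le (mem_stabilizer_iff.mpr (by rw [mul_smul, mul_smul, hx.2, inv_smul_smul]))⟩
          have := hnc _ h1 (fun k hk => by
            have hk' : g * k * g⁻¹ ∈ stabilizer G (g • a) := mem_stabilizer_iff.mpr (by
              rw [mul_smul, mul_smul, inv_smul_smul, mem_stabilizer_iff.mp (hsa.ge hk)])
            calc k * (g⁻¹ * x * g) = g⁻¹ * ((g * k * g⁻¹) * x) * g := by group
              _ = g⁻¹ * x * g * k := by rw [hc _ hk']; group)
            (by rw [show g⁻¹ * x * g * (g⁻¹ * x * g) = g⁻¹ * (x * x) * g by group, hsq]; group)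
          calc x = g * (g⁻¹ * x * g) * g⁻¹ := by group
            _ = 1 := by rw [this]; group
        · rw [hb, Invol.smul_inr_one] at hv
          exact absurd hv (by simp [A]) }
  have h7 := hyp.card_T_le (μ := a) (x := b) rfl hab
  rwa [T, hsa, hsb] at h7

end Cfsg.Agent.Transfer.Goldschmidt
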