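import Cfsg.Agent.Lib.Transfer.Goldschmidt.Graph
import Cfsg.Agent.Lib.Invol.Transport

/-!
# Edge groups of amalgams with both residues `S₃`
-/

set_option autoImplicit false

namespace Cfsg.Agent.Transfer.Goldschmidt

open MulAction Subgroup

variable {G : Type*} [Group G]

/-- The data of one side with the index of the core. -/
theorem side_data {P T : Subgroup G} [Finite ↥P] (hTP : T ≤ P)
    (hsyl : ∃ S : Sylow 2 ↥P, (S : Subgroup ↥P) = T.subgroupOf P)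
    (hq : Nonempty (↥P ⧸ Cfsg.pCore 2 ↥P ≃* Equiv.Perm (Fin 3))) :
    T.relIndex P = 3 ∧ Cfsg.pCoreOf 2 P ≤ T ∧ ¬ (T.subgroupOf P).Normal ∧
      (∀ g ∈ P, ∀ x ∈ Cfsg.pCoreOf 2 P, g * x * g⁻¹ ∈ Cfsg.pCoreOf 2 P) ∧
      Nat.card ↥T = 2 * Nat.card ↥(Cfsg.pCoreOf 2 P) ∧ IsPGroup 2 ↥T := by
  obtain ⟨hr, hQT, hnn, hcj⟩ := Invol.S4Am.side hTP hsyl hq
  obtain ⟨e⟩ := hq
  obtain ⟨S, hS⟩ := hsyl
  refine ⟨hr, hQT, hnn, hcj, ?_, ?_⟩
  · have h6 : (Cfsg.pCore 2 ↥P).index = 6 := by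
      rw [Subgroup.index_eq_card, Nat.card_congr e.toEquiv, Nat.card_perm, Nat.card_fin]; rfl
    have h1 := (T.subgroupOf P).card_mul_index
    have h2 := (Cfsg.pCore 2 ↥P).card_mul_index
    rw [Nat.card_congr (Subgroup.subgroupOfEquivOfLe hTP).toEquiv, ← Subgroup.relIndex, hr] at h1
    rw [h6] at h2
    have h3 : Nat.card ↥(Cfsg.pCoreOf 2 P) = Nat.card ↥(Cfsg.pCore 2 ↥P) :=
      (Nat.card_congr ((Cfsg.pCore 2 ↥P).equivMapOfInjective _ P.subtype_injective).toEquiv).symm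
    omega
  · exact (hS ▸ S.isPGroup' : IsPGroup 2 ↥(T.subgroupOf P)).of_equiv (Subgroup.subgroupOfEquivOfLe hTP)

/-- A group generated by two subgroups normalizing `N`. -/
theorem normal_of_gen {P₁ P₂ N : Subgroup G} (hgen : P₁ ⊔ P₂ = ⊤)
    (h1 : ∀ g ∈ P₁, ∀ n ∈ N, g * n * g⁻¹ ∈ N) (h2 : ∀ g ∈ P₂, ∀ n ∈ N, g * n * g⁻¹ ∈ N) : N.Normal := by
  have h := sup_le (le_norm h1) (le_norm h2)
  rw [hgen] at h
  exact ⟨fun n hn g => Norm.conj (h (mem_top g)) hn⟩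

/-- A factor containing more centralizer of its core bounds the other core. -/
theorem small_of_not_char {P P' : Subgroup G} [Finite ↥P] [Finite ↥P'] (hgen : P ⊔ P' = ⊤)
    (hsyl : ∃ S : Sylow 2 ↥P, (S : Subgroup ↥P) = (P ⊓ P').subgroupOf P)
    (hq : Nonempty (↥P ⧸ Cfsg.pCore 2 ↥P ≃* Equiv.Perm (Fin 3)))
    (hsyl' : ∃ S : Sylow 2 ↥P', (S : Subgroup ↥P') = (P ⊓ P').subgroupOf P')
    (hq' : Nonempty (↥P' ⧸ Cfsg.pCore 2 ↥P' ≃* Equiv.Perm (Fin 3)))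
    (hfaith : ∀ N : Subgroup G, N ≤ P ⊓ P' → N.Normal → N = ⊥)
    (hnc : ¬ P ⊓ centralizer (Cfsg.pCoreOf 2 P : Set G) ≤ Cfsg.pCoreOf 2 P) :
    Nat.card ↥(P ⊓ P') ≤ 2 ^ 7 := by
  classical
  haveI : Fact (Nat.Prime 2) := ⟨Nat.prime_two⟩
  obtain ⟨hr, hQT, -, hcj, hT2, hTp⟩ := side_data (inf_le_left : P ⊓ P' ≤ P) hsyl hq
  obtain ⟨hr', hQT', -, hcj', hT2', -⟩ := side_data (inf_le_right : P ⊓ P' ≤ P') hsyl' hq'
  set T := P ⊓ P' with hTdef
  set Q := Cfsg.pCoreOf 2 P with hQdef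
  set Q' := Cfsg.pCoreOf 2 P' with hQdef'
  haveI : Finite ↥T := Finite.of_injective _ (Subgroup.inclusion_injective (inf_le_left : T ≤ P))
  haveI : Finite ↥Q := Finite.of_injective _ (Subgroup.inclusion_injective hQT)
  haveI : Finite ↥Q' := Finite.of_injective _ (Subgroup.inclusion_injective hQT')
  -- an element outside `T` centralizing the core
  obtain ⟨c, hcP, hcC, hcT⟩ : ∃ c ∈ P, c ∈ centralizer (Q : Set G) ∧ c ∉ T := by
    by_contra hno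
    push Not at hno
    refine hnc fun x hx => ?_
    have hn : ((P ⊓ centralizer (Q : Set G)).subgroupOf P).Normal := ⟨fun n hn g => mem_subgroupOf.mpr <|
      mem_inf.mpr ⟨mul_mem (mul_mem g.2 (mem_subgroupOf.mp hn).1) (inv_mem g.2), mem_centralizer_iff.mpr fun q hq0 => by
        have h1 := mem_centralizer_iff.mp (mem_subgroupOf.mp hn).2 _ (by simpa using hcj _ (inv_mem g.2) q hq0)
        show q * ((g : G) * n * (g : G)⁻¹) = (g : G) * n * (g : G)⁻¹ * q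
        calc q * ((g : G) * n * (g : G)⁻¹) = (g : G) * ((g : G)⁻¹ * q * (g : G) * n) * (g : G)⁻¹ := by group
          _ = (g : G) * n * (g : G)⁻¹ * q := by rw [h1]; group⟩⟩
    have hpg : IsPGroup 2 ↥((P ⊓ centralizer (Q : Set G)).subgroupOf P) := by
      have hle : P ⊓ centralizer (Q : Set G) ≤ T := fun y hy => hno y hy.1 hy.2
      exact (hTp.to_le hle).of_equiv (Subgroup.subgroupOfEquivOfLe inf_le_left).symm
    rw [hQdef]
    exact mem_map.mpr ⟨⟨x, hx.1⟩,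
      (show (P ⊓ centralizer (Q : Set G)).subgroupOf P ≤ Cfsg.pCore 2 ↥P from le_sSup ⟨hn, hpg⟩)
        (mem_subgroupOf.mpr hx), rfl⟩
  -- subgroups of the core normalized by `T` are normalized by `P`
  have hnorm : ∀ N ≤ Q, (∀ t ∈ T, ∀ n ∈ N, t * n * t⁻¹ ∈ N) → P ≤ Norm N := by
    intro N hN hTn g hg
    have hc : c ∈ Norm N := by
      intro x
      have hfix : ∀ y ∈ N, c * y * c⁻¹ = y := fun y hy => by
        rw [← mem_centralizer_iff.mp hcC y (hN hy), mul_inv_cancel_right]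
      refine ⟨fun hx => ?_, fun hx => by rwa [hfix x hx]⟩
      have h1 := hfix _ hx
      have h2 : c * x * c⁻¹ = x := mul_left_cancel (mul_right_cancel h1)
      rwa [h2] at hx
    have hidx : ((Norm N ⊓ P).subgroupOf P).index ∣ 3 := by
      rw [← hr, Subgroup.relIndex]
      refine Subgroup.index_dvd_of_le fun x hx => mem_subgroupOf.mpr ⟨?_, x.2⟩
      exact le_norm hTn (mem_subgroupOf.mp hx)
    rcases (Nat.dvd_prime Nat.prime_three).mp hidx with e | e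
    · have htop := Subgroup.index_eq_one.mp e
      exact (mem_subgroupOf.mp (htop ▸ mem_top (⟨g, hg⟩ : P) : (⟨g, hg⟩ : P) ∈ (Norm N ⊓ P).subgroupOf P)).1
    · exfalso
      have hle : T.subgroupOf P ≤ (Norm N ⊓ P).subgroupOf P := fun x hx =>
        mem_subgroupOf.mpr ⟨le_norm hTn (mem_subgroupOf.mp hx), x.2⟩
      have hmul := Subgroup.relIndex_mul_index hle
      rw [e, show (T.subgroupOf P).index = 3 from hr] at hmul
      have h1 := Subgroup.relIndex_eq_one.mp (by omega : (T.subgroupOf P).relIndex ((Norm N ⊓ P).subgroupOf P) = 1)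
      exact hcT (mem_subgroupOf.mp (h1 (show (⟨c, hcP⟩ : P) ∈ (Norm N ⊓ P).subgroupOf P from
        mem_subgroupOf.mpr ⟨hc, hcP⟩)))
  -- the part of `Q'` whose conjugates all lie in `Q`
  let N : Subgroup G :=
    { carrier := {n | n ∈ Q' ∧ ∀ g ∈ P', g * n * g⁻¹ ∈ Q}
      one_mem' := ⟨one_mem _, fun g _ => by simp⟩
      mul_mem' := fun {x y} hx hy => ⟨mul_mem hx.1 hy.1, fun g hg => by
        rw [show g * (x * y) * g⁻¹ = g * x * g⁻¹ * (g * y * g⁻¹) by group]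
        exact mul_mem (hx.2 g hg) (hy.2 g hg)⟩
      inv_mem' := fun {x} hx => ⟨inv_mem hx.1, fun g hg => by
        rw [show g * x⁻¹ * g⁻¹ = (g * x * g⁻¹)⁻¹ by group]
        exact inv_mem (hx.2 g hg)⟩ }
  have hNQ : N ≤ Q := fun n hn => by simpa using hn.2 1 (one_mem _)
  have hNP' : ∀ g ∈ P', ∀ n ∈ N, g * n * g⁻¹ ∈ N := fun g hg n hn => ⟨hcj' g hg n hn.1, fun k hk => by
    rw [show k * (g * n * g⁻¹) * k⁻¹ = k * g * n * (k * g)⁻¹ by group]
    exact hn.2 _ (mul_mem hk hg)⟩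
  have hNP := hnorm N hNQ fun t ht => hNP' t ht.2
  have hNbot : N = ⊥ := hfaith N (hNQ.trans hQT)
    (normal_of_gen hgen (fun g hg n hn => Norm.conj (hNP hg) hn) hNP')
  -- three conjugates suffice
  haveI : Finite (↥P' ⧸ T.subgroupOf P') := inferInstance
  haveI := Fintype.ofFinite (↥P' ⧸ T.subgroupOf P')
  have hidx : Fintype.card (↥P' ⧸ T.subgroupOf P') = 3 := by
    rw [← Nat.card_eq_fintype_card, ← Subgroup.index_eq_card]
    exact hr'
  have two : ∀ a ∈ T, ∀ b ∈ T, a ∉ Q → b ∉ Q → a⁻¹ * b ∈ Q := by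
    intro a ha b hb haQ hbQ
    have h2 : (Q.subgroupOf T).index = 2 := by
      have h1 := (Q.subgroupOf T).card_mul_index
      rw [Nat.card_congr (Subgroup.subgroupOfEquivOfLe hQT).toEquiv, hT2, mul_comm 2] at h1
      exact Nat.eq_of_mul_eq_mul_left Nat.card_pos h1
    have := Subgroup.mul_mem_iff_of_index_two h2 (a := (⟨a, ha⟩⁻¹ : T)) (b := ⟨b, hb⟩)
    exact mem_subgroupOf.mp (this.mpr (iff_of_false
      (fun e => haQ (inv_mem_iff.mp (mem_subgroupOf.mp e))) fun e => hbQ (mem_subgroupOf.mp e)))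
  have key : ∀ s : Finset (↥P' ⧸ T.subgroupOf P'), ∃ H : Subgroup G, H ≤ Q' ∧
      Nat.card ↥Q' ≤ 2 ^ s.card * Nat.card ↥H ∧ ∀ r ∈ s, ∀ n ∈ H, (r.out : G)⁻¹ * n * (r.out : G) ∈ Q := by
    intro s
    induction s using Finset.induction_on with
    | empty => exact ⟨Q', le_rfl, by simp, fun r hr => absurd hr (Finset.notMem_empty r)⟩
    | @insert r s hrs ih =>
      obtain ⟨H, hH, hcard, hmem⟩ := ih
      let D : Subgroup G := H ⊓ Q.comap (MulAut.conj (r.out : G)⁻¹).toMonoidHom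
      have memD : ∀ {n}, n ∈ D ↔ n ∈ H ∧ (r.out : G)⁻¹ * n * (r.out : G) ∈ Q := by
        intro n; simp [D, MulAut.conj_apply]
      haveI : Finite ↥H := Finite.of_injective _ (Subgroup.inclusion_injective hH)
      have hT' : ∀ n ∈ H, (r.out : G)⁻¹ * n * (r.out : G) ∈ T := fun n hn => hQT' (by
        simpa using hcj' _ (inv_mem r.out.2) n (hH hn))
      have h2 : Nat.card ↥H ≤ 2 * Nat.card ↥D := card_le_two inf_le_left fun a ha b hb haD hbD =>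
        memD.mpr ⟨mul_mem (inv_mem ha) hb, by
          have := two _ (hT' a ha) _ (hT' b hb) (fun e => haD (memD.mpr ⟨ha, e⟩)) (fun e => hbD (memD.mpr ⟨hb, e⟩))
          simpa [mul_assoc] using this⟩
      refine ⟨D, inf_le_left.trans hH, ?_, fun q hq n hn => ?_⟩
      · rw [Finset.card_insert_of_notMem hrs, pow_succ]
        calc Nat.card ↥Q' ≤ 2 ^ s.card * Nat.card ↥H := hcard
          _ ≤ 2 ^ s.card * (2 * Nat.card ↥D) := Nat.mul_le_mul_left _ h2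
          _ = 2 ^ s.card * 2 * Nat.card ↥D := (mul_assoc _ _ _).symm
      · rcases Finset.mem_insert.mp hq with rfl | hq
        exacts [(memD.mp hn).2, hmem q hq n (memD.mp hn).1]
  obtain ⟨H, hH, hcard, hmem⟩ := key Finset.univ
  have hHN : H ≤ N := fun n hn => ⟨hH hn, fun g hg => by
    set r : ↥P' ⧸ T.subgroupOf P' := QuotientGroup.mk ((⟨g, hg⟩ : P')⁻¹) with hr0
    obtain ⟨t, ht⟩ := QuotientGroup.mk_out_eq_mul (T.subgroupOf P') ((⟨g, hg⟩ : P')⁻¹)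
    have h1 := hmem r (Finset.mem_univ r) n hn
    rw [hr0, ht] at h1
    have htT : ((t : P') : G) ∈ T := mem_subgroupOf.mp t.2
    have h2 := hcj _ htT.1 _ h1
    simpa [mul_assoc] using h2⟩
  rw [hNbot, le_bot_iff] at hHN
  rw [hHN, card_bot, Finset.card_univ, hidx] at hcard
  omega

/-- The bound for a generated pair. -/
theorem bound_gen (P₁ P₂ : Subgroup G) [Finite ↥P₁] [Finite ↥P₂] (hgen : P₁ ⊔ P₂ = ⊤)
    (ha₁ : ∃ S : Sylow 2 ↥P₁, (S : Subgroup ↥P₁) = (P₁ ⊓ P₂).subgroupOf P₁)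
    (ha₂ : ∃ S : Sylow 2 ↥P₂, (S : Subgroup ↥P₂) = (P₁ ⊓ P₂).subgroupOf P₂)
    (hb₁ : Nonempty (↥P₁ ⧸ Cfsg.pCore 2 ↥P₁ ≃* Equiv.Perm (Fin 3)))
    (hb₂ : Nonempty (↥P₂ ⧸ Cfsg.pCore 2 ↥P₂ ≃* Equiv.Perm (Fin 3)))
    (hfaith : ∀ N : Subgroup G, N ≤ P₁ ⊓ P₂ → N.Normal → N = ⊥) :
    Nat.card ↥(P₁ ⊓ P₂) ≤ 2 ^ 7 := by
  classical
  haveI : Fact (Nat.Prime 2) := ⟨Nat.prime_two⟩
  obtain ⟨hr1, hQ1, hnn1, hcj1, -, hTp⟩ := side_data (inf_le_left : P₁ ⊓ P₂ ≤ P₁) ha₁ hb₁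
  obtain ⟨hr2, hQ2, hnn2, hcj2, -, -⟩ := side_data (inf_le_right : P₁ ⊓ P₂ ≤ P₂) ha₂ hb₂
  by_cases hc1 : P₁ ⊓ centralizer (Cfsg.pCoreOf 2 P₁ : Set G) ≤ Cfsg.pCoreOf 2 P₁
  swap
  · exact small_of_not_char hgen ha₁ hb₁ ha₂ hb₂ hfaith hc1
  by_cases hc2 : P₂ ⊓ centralizer (Cfsg.pCoreOf 2 P₂ : Set G) ≤ Cfsg.pCoreOf 2 P₂
  swap
  · rw [inf_comm P₁ P₂] at ha₁ ha₂ hfaith ⊢
    exact small_of_not_char (by rw [sup_comm]; exact hgen) ha₂ hb₂ ha₁ hb₁ hfaith hc2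
  rcases eq_or_ne (P₁ ⊓ P₂) ⊥ with hbot | hne
  · rw [hbot, card_bot]; norm_num
  set T := P₁ ⊓ P₂ with hTdef
  set E := Cfsg.omegaOne 2 (T ⊓ centralizer (T : Set G)) with hE
  haveI : Finite ↥T := Finite.of_injective _ (Subgroup.inclusion_injective (inf_le_left : T ≤ P₁))
  have hET : E ≤ T ⊓ centralizer (T : Set G) := (closure_le _).mpr fun x hx => hx.1
  -- an involution in the centre of `T`
  obtain ⟨z₀, hzE, hz1, hz2⟩ : ∃ z₀ ∈ E, z₀ ≠ 1 ∧ z₀ * z₀ = 1 := by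
    haveI : Nontrivial ↥T := (Subgroup.nontrivial_iff_ne_bot T).mpr hne
    haveI := hTp.center_nontrivial
    have hd : 2 ∣ Nat.card (center ↥T) :=
      ((hTp.to_subgroup (center ↥T)).card_eq_or_dvd).resolve_left Finite.one_lt_card.ne'
    obtain ⟨x, hx⟩ := exists_prime_orderOf_dvd_card' 2 hd
    have hx2 : ((x : T) : G) * ((x : T) : G) = 1 := by
      have := pow_orderOf_eq_one x
      rw [hx, pow_two] at this
      exact congrArg (fun y : center ↥T => ((y : T) : G)) this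
    refine ⟨_, subset_closure ⟨⟨(x : T).2, mem_centralizer_iff.mpr fun t ht =>
      congrArg Subtype.val (mem_center_iff.mp x.2 ⟨t, ht⟩)⟩, by rw [pow_two]; exact hx2⟩, fun e => ?_, hx2⟩
    have : x = 1 := Subtype.ext (Subtype.ext e)
    rw [this, orderOf_one] at hx
    norm_num at hx
  have memE : ∀ x ∈ T, (∀ t ∈ T, t * x = x * t) → x * x = 1 → x ∈ E := fun x hx hc h2 =>
    subset_closure ⟨⟨hx, mem_centralizer_iff.mpr hc⟩, by rw [pow_two]; exact h2⟩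
  have centred : ∀ {P P' : Subgroup G}, P ⊔ P' = ⊤ → P ⊓ P' = T →
      P' ≤ centralizer (E : Set G) → ∀ x ∈ T, (∀ g ∈ P, g * x = x * g) → x * x = 1 → x = 1 := by
    intro P P' hg hTe hP' x hx hc h2
    have hxE := memE x hx (fun t ht => hc t (hTe.ge ht).1) h2
    have hzp : ∀ k ∈ zpowers x, ∀ g, g * x = x * g → g * k * g⁻¹ = k := by
      rintro _ ⟨n, rfl⟩ g hgx
      rw [(Commute.zpow_right hgx n).eq, mul_inv_cancel_right]
    have hn := normal_of_gen hg (N := zpowers x)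
      (fun g hg' k hk => by rw [hzp k hk g (hc g hg')]; exact hk)
      (fun g hg' k hk => by rw [hzp k hk g (mem_centralizer_iff.mp (hP' hg') x hxE).symm]; exact hk)
    have := hfaith _ (zpowers_le.mpr hx) hn
    rwa [zpowers_eq_bot] at this
  have zfix : ∀ {P : Subgroup G}, T ≤ P → Cfsg.pCoreOf 2 P ≤ T →
      (∀ g ∈ P, ∀ x ∈ Cfsg.pCoreOf 2 P, g * x * g⁻¹ ∈ Cfsg.pCoreOf 2 P) →
      P ⊓ centralizer (Cfsg.pCoreOf 2 P : Set G) ≤ Cfsg.pCoreOf 2 P → ∀ g ∈ P, g * z₀ * g⁻¹ ∈ T := by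
    intro P hTP hQT hcj hc g hg
    refine hQT (hcj g hg _ (hc ⟨hTP (hET hzE).1, mem_centralizer_iff.mpr fun q hq => ?_⟩))
    exact mem_centralizer_iff.mp (hET hzE).2 q (hQT hq)
  by_cases h2c : P₂ ≤ centralizer (E : Set G)
  · exact pair_bound P₁ P₂ hgen hr1 hr2 hnn1 hnn2 hTp hfaith hz1 hz2
      (fun g hg => (mem_centralizer_iff.mp (h2c hg) z₀ hzE).symm) (zfix inf_le_left hQ1 hcj1 hc1)
      (centred hgen rfl h2c)
  by_cases h1c : P₁ ≤ centralizer (E : Set G)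
  · have hT' : P₂ ⊓ P₁ = T := inf_comm _ _
    have hzf := zfix (P := P₂) inf_le_right hQ2 hcj2 hc2
    have hnc := centred (by rw [sup_comm]; exact hgen) hT' h1c
    rw [← hT'] at hzf hnc hr1 hr2 hnn1 hnn2 hTp hfaith ⊢
    exact pair_bound P₂ P₁ (by rw [sup_comm]; exact hgen) hr2 hr1 hnn2 hnn1 hTp hfaith hz1 hz2
      (fun g hg => (mem_centralizer_iff.mp (h1c hg) z₀ hzE).symm) hzf hnc
  -- both centres moved
  have hpair := Invol.S4Am.pair P₁ P₂ hgen T rfl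
    (by rintro P (rfl | rfl); exacts [hc1, hc2]) (by rintro P (rfl | rfl); exacts [ha₁, ha₂])
    (fun N hN hle => hfaith N hle hN) (by rintro P (rfl | rfl); exacts [hb₁, hb₂])
    (by rintro P (rfl | rfl); exacts [h1c, h2c])
  have h48 : Nat.card ↥P₁ ≤ 48 := by
    rcases hpair with ⟨⟨e⟩, -⟩ | ⟨⟨e⟩, -⟩ <;> rw [Nat.card_congr e.toEquiv]
    · rw [Nat.card_perm, Nat.card_fin]; decide
    · rw [Nat.card_prod, Nat.card_congr Multiplicative.toAdd, Nat.card_zmod, Nat.card_perm, Nat.card_fin]; decide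
  have h3 := (T.subgroupOf P₁).card_mul_index
  rw [Nat.card_congr (Subgroup.subgroupOfEquivOfLe (inf_le_left : T ≤ P₁)).toEquiv, ← Subgroup.relIndex, hr1] at h3
  have e : Nat.card ↥(P₁ ⊓ P₂) = Nat.card ↥T := rfl
  omega

/-- Transport of the residue along an isomorphism. -/
theorem quot_transport {A B : Type*} [Group A] [Group B] [Finite A] (e : A ≃* B)
    (h : Nonempty (A ⧸ Cfsg.pCore 2 A ≃* Equiv.Perm (Fin 3))) :
    Nonempty (B ⧸ Cfsg.pCore 2 B ≃* Equiv.Perm (Fin 3)) := by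
  haveI : Fact (Nat.Prime 2) := ⟨Nat.prime_two⟩
  haveI := Grp.pCore_isNormal (G := A) (p := 2)
  haveI := Grp.pCore_isNormal (G := B) (p := 2)
  exact ⟨(QuotientGroup.congr _ _ e (Invol.map_pCore_equiv e)).symm.trans h.some⟩

theorem bound (M₁ M₂ : Subgroup G) [Finite ↥M₁] [Finite ↥M₂]
    (ha₁ : ∃ P : Sylow 2 M₁, (P : Subgroup M₁) = (M₁ ⊓ M₂).subgroupOf M₁)
    (ha₂ : ∃ P : Sylow 2 M₂, (P : Subgroup M₂) = (M₁ ⊓ M₂).subgroupOf M₂)
    (hb₁ : Nonempty (M₁ ⧸ Cfsg.pCore 2 M₁ ≃* Equiv.Perm (Fin 3)))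
    (hb₂ : Nonempty (M₂ ⧸ Cfsg.pCore 2 M₂ ≃* Equiv.Perm (Fin 3)))
    (hc : ∀ N : Subgroup G, N ≤ M₁ ⊓ M₂ → (N.subgroupOf M₁).Normal → (N.subgroupOf M₂).Normal → N = ⊥) :
    Nat.card ↥(M₁ ⊓ M₂) ≤ 2 ^ 7 := by
  haveI : Fact (Nat.Prime 2) := ⟨Nat.prime_two⟩
  set H := M₁ ⊔ M₂ with hH
  have h1 : M₁ ≤ H := le_sup_left
  have h2 : M₂ ≤ H := le_sup_right
  haveI : Finite ↥(M₁.subgroupOf H) := Finite.of_equiv _ (Subgroup.subgroupOfEquivOfLe h1).symm.toEquiv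
  haveI : Finite ↥(M₂.subgroupOf H) := Finite.of_equiv _ (Subgroup.subgroupOfEquivOfLe h2).symm.toEquiv
  have hgen : M₁.subgroupOf H ⊔ M₂.subgroupOf H = ⊤ := by
    rw [← Subgroup.subgroupOf_sup h1 h2, ← hH, Subgroup.subgroupOf_self]
  have hinf : M₁.subgroupOf H ⊓ M₂.subgroupOf H = (M₁ ⊓ M₂).subgroupOf H :=
    (Subgroup.comap_inf M₁ M₂ H.subtype).symm
  have syl : ∀ (M : Subgroup G) (hM : M ≤ H) [Finite ↥M], M₁ ⊓ M₂ ≤ M →
      (∃ P : Sylow 2 M, (P : Subgroup M) = (M₁ ⊓ M₂).subgroupOf M) →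
      ∃ S : Sylow 2 ↥(M.subgroupOf H),
        (S : Subgroup ↥(M.subgroupOf H)) = ((M₁ ⊓ M₂).subgroupOf H).subgroupOf (M.subgroupOf H) := by
    intro M hM _ _ ⟨P, hP⟩
    let e := Subgroup.subgroupOfEquivOfLe hM
    refine ⟨P.comapOfInjective e.toMonoidHom e.injective (by simp), ?_⟩
    show (P : Subgroup M).comap e.toMonoidHom = _
    rw [hP]
    rfl
  have hbH := bound_gen (M₁.subgroupOf H) (M₂.subgroupOf H) hgen
    (by rw [hinf]; exact syl M₁ h1 inf_le_left ha₁) (by rw [hinf]; exact syl M₂ h2 inf_le_right ha₂)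
    (quot_transport (Subgroup.subgroupOfEquivOfLe h1).symm hb₁)
    (quot_transport (Subgroup.subgroupOfEquivOfLe h2).symm hb₂) (fun N hN hNn => by
      have hle : N.map H.subtype ≤ M₁ ⊓ M₂ := by
        rintro _ ⟨n, hn, rfl⟩
        rw [hinf] at hN
        exact mem_subgroupOf.mp (hN hn)
      have norm : ∀ M : Subgroup G, M ≤ H → ((N.map H.subtype).subgroupOf M).Normal := fun M hM => ⟨by
        intro x hx g
        obtain ⟨n, hn, hnx⟩ := mem_subgroupOf.mp hx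
        refine mem_subgroupOf.mpr ⟨_, hNn.conj_mem n hn ⟨(g : G), hM g.2⟩, ?_⟩
        simp [← hnx]⟩
      have := hc _ hle (norm M₁ h1) (norm M₂ h2)
      rwa [Subgroup.map_eq_bot_iff_of_injective _ H.subtype_injective] at this)
  rwa [hinf, Nat.card_congr (Subgroup.subgroupOfEquivOfLe (inf_le_left.trans h1)).toEquiv] at hbH

end Cfsg.Agent.Transfer.Goldschmidt
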