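import Cfsg.Agent.Lib.Transfer.Goldschmidt.Centres

/-!
# Odd critical length: the product of the three centres around a vertex of the second kind

If that product is not central there is a contradiction; otherwise the critical length is three.
-/

set_option autoImplicit false

namespace Cfsg.Agent.Transfer.Goldschmidt

open MulAction Subgroup

variable {G V : Type*} [Group G] [MulAction G V] {adj : V → V → Prop} {A : V → Prop} {z : V → G}

/-- A product of centres taken beyond each of the three neighbours. -/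
def IsF (adj : V → V → Prop) (z : V → G) (β : V) (f : G) : Prop :=
  ∃ a₁ a₂ a₃ e₁ e₂ e₃, adj β a₁ ∧ adj β a₂ ∧ adj β a₃ ∧ a₁ ≠ a₂ ∧ a₁ ≠ a₃ ∧ a₂ ≠ a₃ ∧
    adj a₁ e₁ ∧ adj a₂ e₂ ∧ adj a₃ e₃ ∧ e₁ ≠ β ∧ e₂ ≠ β ∧ e₃ ≠ β ∧ f = z e₁ * z e₂ * z e₃

/-- The products of the three centres are central. -/
def D2 (adj : V → V → Prop) (A : V → Prop) (z : V → G) : Prop :=
  ∀ β f, ¬ A β → IsF adj z β f → f = 1 ∨ f = z β

namespace Hyp

variable (h : Hyp G adj A z)
include h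

theorem exists_F (β : V) : ∃ f, IsF adj z β f := by
  obtain ⟨a, ha⟩ := h.deg β
  obtain ⟨a₂, a₃, h2, h3, h23, b2, b3, -⟩ := h.nbr ha
  obtain ⟨e₁, -, c1, -, -, d1, -, -⟩ := h.nbr (h.symm ha)
  obtain ⟨e₂, -, c2, -, -, d2, -, -⟩ := h.nbr (h.symm b2)
  obtain ⟨e₃, -, c3, -, -, d3, -, -⟩ := h.nbr (h.symm b3)
  exact ⟨_, a, a₂, a₃, e₁, e₂, e₃, ha, b2, b3, h2.symm, h3.symm, h23, d1, d2, d3, c1, c2, c3, rfl⟩

theorem F_conj (g : G) {β : V} (hβ : ¬ A β) {f : G} (hf : IsF adj z β f) :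
    IsF adj z (g • β) (g * f * g⁻¹) := by
  obtain ⟨a₁, a₂, a₃, e₁, e₂, e₃, b1, b2, b3, n12, n13, n23, d1, d2, d3, c1, c2, c3, rfl⟩ := hf
  refine ⟨g • a₁, g • a₂, g • a₃, g • e₁, g • e₂, g • e₃, h.smul_adj g b1, h.smul_adj g b2, h.smul_adj g b3,
    fun e => n12 (smul_left_cancel g e), fun e => n13 (smul_left_cancel g e), fun e => n23 (smul_left_cancel g e),
    h.smul_adj g d1, h.smul_adj g d2, h.smul_adj g d3,
    fun e => c1 (smul_left_cancel g e), fun e => c2 (smul_left_cancel g e), fun e => c3 (smul_left_cancel g e), ?_⟩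
  rw [h.z_smul g (h.notA (h.isA hβ b1) d1), h.z_smul g (h.notA (h.isA hβ b2) d2),
    h.z_smul g (h.notA (h.isA hβ b3) d3)]
  group

theorem F_mem {β : V} {f : G} (hf : IsF adj z β f) : f ∈ W adj z 2 β := by
  obtain ⟨a₁, a₂, a₃, e₁, e₂, e₃, b1, b2, b3, -, -, -, d1, d2, d3, -, -, -, rfl⟩ := hf
  exact mul_mem (mul_mem (mem_W (n := 2) ⟨a₁, b1, e₁, d1, rfl⟩) (mem_W (n := 2) ⟨a₂, b2, e₂, d2, rfl⟩))
    (mem_W (n := 2) ⟨a₃, b3, e₃, d3, rfl⟩)

theorem W_one_le_two {β μ : V} (hμ : adj β μ) : W adj z 1 μ ≤ W adj z 2 β :=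
  W_le fun e he => mem_W (n := 2) ⟨μ, hμ, he⟩

/-- Representatives beyond two neighbours are independent modulo the central element. -/
theorem two_reps {β a a' e e' : V} (hβ : ¬ A β) (ha : adj β a) (ha' : adj β a') (hne : a ≠ a') (he : adj a e)
    (he' : adj a' e') (h1 : e ≠ β) (h2 : e' ≠ β) : z e * z e' ≠ 1 ∧ z e * z e' ≠ z β := by
  have hA := h.isA hβ ha
  have hA' := h.isA hβ ha'
  have sub : ∀ {a a' e e' : V}, A a → A a' → adj β a → adj β a' → adj a e → adj a' e' → e ≠ β → e' ≠ β →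
      z e' ∈ W adj z 1 a → W adj z 1 a' ≤ W adj z 1 a := by
    intro a a' e e' hA hA' ha ha' he he' h1 h2 hmem
    refine W_le fun u ⟨w, hw, (hwu : w = u)⟩ => ?_
    subst hwu
    rcases eq_or_ne w β with rfl | hwβ
    · exact mem_W (wk_one (h.symm ha))
    · rcases h.rep_eq hA' (h.symm ha') he' hw h2 hwβ with e1 | e1 <;> rw [e1]
      exacts [hmem, mul_mem hmem (mem_W (wk_one (h.symm ha)))]
  have key : z e * z e' ∈ W adj z 1 a → z e * z e' ∈ W adj z 1 a' → False := fun k1 k2 => by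
    refine h.W_one_ne hβ ha ha' hne (le_antisymm ?_ ?_)
    · refine sub hA' hA ha' ha he' he h2 h1 ?_
      have := mul_mem k2 (inv_mem (mem_W (wk_one he')))
      rwa [mul_inv_cancel_right] at this
    · refine sub hA hA' ha ha' he he' h1 h2 ?_
      have := mul_mem (inv_mem (mem_W (wk_one he))) k1
      rwa [inv_mul_cancel_left] at this
  exact ⟨fun e1 => key (e1 ▸ one_mem _) (e1 ▸ one_mem _),
    fun e1 => key (e1 ▸ mem_W (wk_one (h.symm ha))) (e1 ▸ mem_W (wk_one (h.symm ha')))⟩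

end Hyp

namespace HypB

variable {b : ℕ} (h : HypB G adj A z b)
include h

theorem W_two_le_T (hb : 3 ≤ b) {β μ : V} (hβ : ¬ A β) (hμ : adj β μ) : W adj z 2 β ≤ T G μ β :=
  W_le fun e he => by
    obtain ⟨a, ha, w, hw, (hwe : w = e)⟩ := he
    subst hwe
    exact mem_T.mpr ⟨h.low (k := 2) (by omega) (h.isA hβ ha) hw ⟨β, h.symm ha, μ, hμ, rfl⟩,
      h.low (k := 1) (by omega) (h.isA hβ ha) hw (wk_one (h.symm ha))⟩

theorem F_unique (hb : 3 ≤ b) {β : V} (hβ : ¬ A β) {f f' : G} (hf : IsF adj z β f) (hf' : IsF adj z β f') :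
    f' = f ∨ f' = f * z β := by
  let S : G → G → Prop := fun x y => y = x ∨ y = x * z β
  have zβW : z β ∈ W adj z 2 β := by
    obtain ⟨a, ha⟩ := h.deg β
    exact mem_W (n := 2) ⟨a, ha, β, h.symm ha, rfl⟩
  have cm := h.comm_two hb hβ
  have Smul : ∀ {x x' y y' : G}, y ∈ W adj z 2 β → S x x' → S y y' → S (x * y) (x' * y') := by
    intro x x' y y' hy h1 h2
    have c := cm _ zβW _ hy
    rcases h1 with e1 | e1 <;> rcases h2 with e2 | e2 <;> rw [e1, e2]
    · exact Or.inl rfl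
    · exact Or.inr (mul_assoc _ _ _).symm
    · exact Or.inr (by rw [mul_assoc, c, mul_assoc])
    · refine Or.inl ?_
      rw [mul_assoc, ← mul_assoc (z β), c, mul_assoc y, h.z_sq hβ, mul_one]
  obtain ⟨a₁, a₂, a₃, e₁, e₂, e₃, b1, b2, b3, n12, n13, n23, d1, d2, d3, c1, c2, c3, rfl⟩ := hf
  obtain ⟨a₁', a₂', a₃', e₁', e₂', e₃', b1', b2', b3', m12, m13, m23, d1', d2', d3', c1', c2', c3', rfl⟩ := hf'
  have S3 : ∀ {x y w : V} {ex ey ew fx fy fw : V}, adj β x → adj β y → adj β w → adj x ex → adj y ey → adj w ew →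
      adj x fx → adj y fy → adj w fw → ex ≠ β → ey ≠ β → ew ≠ β → fx ≠ β → fy ≠ β → fw ≠ β →
      S (z ex * z ey * z ew) (z fx * z fy * z fw) := by
    intro x y w ex ey ew fx fy fw hx hy hw hex hey hew hfx hfy hfw nex ney new nfx nfy nfw
    exact Smul (mem_W (n := 2) ⟨w, hw, ew, hew, rfl⟩)
      (Smul (mem_W (n := 2) ⟨y, hy, ey, hey, rfl⟩)
        (h.rep_eq (h.isA hβ hx) (h.symm hx) hex hfx nex nfx)
        (h.rep_eq (h.isA hβ hy) (h.symm hy) hey hfy ney nfy))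
      (h.rep_eq (h.isA hβ hw) (h.symm hw) hew hfw new nfw)
  set u := z e₁'
  set v := z e₂'
  set w := z e₃'
  have uW : u ∈ W adj z 2 β := mem_W (n := 2) ⟨a₁', b1', e₁', d1', rfl⟩
  have vW : v ∈ W adj z 2 β := mem_W (n := 2) ⟨a₂', b2', e₂', d2', rfl⟩
  have wW : w ∈ W adj z 2 β := mem_W (n := 2) ⟨a₃', b3', e₃', d3', rfl⟩
  have uv := cm _ uW _ vW
  have uw := cm _ uW _ wW
  have vw := cm _ vW _ wW
  rcases h.only b1 b2 b3 n12 n13 n23 b1' with rfl | rfl | rfl <;>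
    rcases h.only b1 b2 b3 n12 n13 n23 b2' with rfl | rfl | rfl <;>
    rcases h.only b1 b2 b3 n12 n13 n23 b3' with rfl | rfl | rfl <;>
    first
      | exact absurd rfl m12
      | exact absurd rfl m13
      | exact absurd rfl m23
      | exact S3 b1 b2 b3 d1 d2 d3 d1' d2' d3' c1 c2 c3 c1' c2' c3'
      | (have := S3 b1 b2 b3 d1 d2 d3 d1' d3' d2' c1 c2 c3 c1' c3' c2'
         rwa [mul_assoc u v, vw, ← mul_assoc])
      | (have := S3 b1 b2 b3 d1 d2 d3 d2' d1' d3' c1 c2 c3 c2' c1' c3'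
         rwa [uv])
      | (have := S3 b1 b2 b3 d1 d2 d3 d2' d3' d1' c1 c2 c3 c2' c3' c1'
         rwa [mul_assoc u v, cm _ uW _ (mul_mem vW wW)])
      | (have := S3 b1 b2 b3 d1 d2 d3 d3' d1' d2' c1 c2 c3 c3' c1' c2'
         rwa [cm _ (mul_mem uW vW) _ wW, ← mul_assoc])
      | (have := S3 b1 b2 b3 d1 d2 d3 d3' d2' d1' c1 c2 c3 c3' c2' c1'
         rwa [uv, cm _ (mul_mem vW uW) _ wW, ← mul_assoc])

theorem F_toggle (hb : 3 ≤ b) {β : V} (hβ : ¬ A β) {f : G} (hf : IsF adj z β f) : IsF adj z β (f * z β) := by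
  obtain ⟨a₁, a₂, a₃, e₁, e₂, e₃, b1, b2, b3, n12, n13, n23, d1, d2, d3, c1, c2, c3, rfl⟩ := hf
  obtain ⟨t, ht, htβ, hte, -⟩ := h.other (h.symm b3) d3 c3.symm
  refine ⟨a₁, a₂, a₃, e₁, e₂, t, b1, b2, b3, n12, n13, n23, d1, d2, ht, c1, c2, htβ, ?_⟩
  rw [← h.z_sum (h.isA hβ b3) d3 (h.symm b3) ht c3 hte.symm htβ.symm, mul_assoc, mul_assoc]

theorem F_dichotomy (hb : 3 ≤ b) : D2 adj A z ∨ ∀ β f, ¬ A β → IsF adj z β f → f ≠ 1 ∧ f ≠ z β := by
  by_cases hex : ∃ β f, ¬ A β ∧ IsF adj z β f ∧ (f = 1 ∨ f = z β)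
  · obtain ⟨β₀, f₀, h₀, hF₀, ht⟩ := hex
    refine Or.inl fun β f hβ hf => ?_
    obtain ⟨g, rfl⟩ := (h.same_type β₀ β).1 (iff_of_false h₀ hβ)
    rcases h.F_unique hb hβ (h.F_conj g h₀ hF₀) hf with e | e <;> rw [e, h.z_smul g h₀] <;>
      rcases ht with rfl | rfl <;> simp [mul_assoc, h.z_sq h₀, ← mul_assoc (z β₀) (z β₀)]
  · push Not at hex
    exact Or.inr fun β f hβ hf => hex β f hβ hf

theorem F_not_mem (hb : 3 ≤ b) (hn : ∀ β f, ¬ A β → IsF adj z β f → f ≠ 1 ∧ f ≠ z β) {β μ : V} (hβ : ¬ A β)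
    (hμ : adj β μ) {f : G} (hf : IsF adj z β f) : f ∉ W adj z 1 μ := by
  intro hmem
  obtain ⟨a₂, a₃, h2, h3, h23, b2, b3, -⟩ := h.nbr hμ
  obtain ⟨e₁, -, c1, -, -, d1, -, -⟩ := h.nbr (h.symm hμ)
  obtain ⟨e₂, -, c2, -, -, d2, -, -⟩ := h.nbr (h.symm b2)
  obtain ⟨e₃, -, c3, -, -, d3, -, -⟩ := h.nbr (h.symm b3)
  have hA := h.isA hβ hμ
  have hF0 : IsF adj z β (z e₁ * z e₂ * z e₃) :=
    ⟨μ, a₂, a₃, e₁, e₂, e₃, hμ, b2, b3, h2.symm, h3.symm, h23, d1, d2, d3, c1, c2, c3, rfl⟩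
  have m0 : z e₁ * z e₂ * z e₃ ∈ W adj z 1 μ := by
    rcases h.F_unique hb hβ hF0 hf with e | e <;> rw [e] at hmem
    · exact hmem
    · have := mul_mem hmem (inv_mem (mem_W (wk_one (h.symm hμ))))
      rwa [mul_inv_cancel_right] at this
  have m1 := mul_mem (inv_mem (mem_W (z := z) (wk_one d1))) m0
  rw [mul_assoc, inv_mul_cancel_left] at m1
  obtain ⟨ne1, neβ⟩ := h.two_reps hβ b2 b3 h23 d2 d3 c2 c3
  rcases (h.mem_W_one hA).mp m1 with e | ⟨u, hu, e⟩
  · exact ne1 e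
  rcases eq_or_ne u β with rfl | huβ
  · exact neβ e.symm
  obtain ⟨k1, k2⟩ := hn β _ hβ hF0
  rw [mul_assoc, ← e] at k1 k2
  rcases h.rep_eq hA (h.symm hμ) d1 hu c1 huβ with e' | e' <;> rw [e'] at k1 k2
  · exact k1 (h.z_sq (h.notA hA d1))
  · exact k2 (by rw [← mul_assoc, h.z_sq (h.notA hA d1), one_mul])

/-- Two neighbours of a vertex of the first kind cannot share a noncentral product. -/
theorem false_of_pair (hb : 3 ≤ b) (hn : ∀ β f, ¬ A β → IsF adj z β f → f ≠ 1 ∧ f ≠ z β) {μ β₁ β₂ : V}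
    {f₁ f₂ : G} (hμ : A μ) (h1 : adj μ β₁) (h2 : adj μ β₂) (hne : β₁ ≠ β₂) (F1 : IsF adj z β₁ f₁)
    (F2 : IsF adj z β₂ f₂) (hp : f₁ * f₂ ∈ W adj z 1 μ) : False := by
  obtain ⟨β₃, h3, h31, h32, -⟩ := h.other h1 h2 hne
  have hB1 := h.notA hμ h1
  set H := W adj z 2 β₁
  have cm := h.comm_two hb hB1
  have sq := h.sq_two hb hB1
  have f1H : f₁ ∈ H := h.F_mem F1
  have WH : W adj z 1 μ ≤ H := h.W_one_le_two (h.symm h1)
  let C : G → Prop := fun x => f₁ * x ∈ W adj z 1 μ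
  have CH : ∀ {x}, C x → x ∈ H := fun {x} hx => by
    simpa using mul_mem (inv_mem f1H) (WH hx)
  have C2 : C f₂ := hp
  obtain ⟨t, ht, htm⟩ := h.move' h1 h2 hne
  have e3 := (h.swap ht.1 ht.2 h1 h2 h3 hne h31.symm h32.symm htm).1
  have F3 : IsF adj z β₃ (t * f₂ * t⁻¹) := e3 ▸ h.F_conj t (h.notA hμ h2) F2
  have C3 : C (t * f₂ * t⁻¹) := by
    show f₁ * (t * f₂ * t⁻¹) ∈ W adj z 1 μ
    have hc := h.W_conj (n := 1) (iff_of_true hμ (by decide)) t hp
    rw [ht.1] at hc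
    rw [show t * (f₁ * f₂) * t⁻¹ = t * f₁ * t⁻¹ * (t * f₂ * t⁻¹) by group] at hc
    have hu := h.F_conj t hB1 F1
    rw [ht.2] at hu
    rcases h.F_unique hb hB1 F1 hu with e | e <;> rw [e] at hc
    · exact hc
    · rw [cm _ f1H _ (WH (mem_W (wk_one h1))), mul_assoc] at hc
      have := mul_mem (inv_mem (mem_W (z := z) (wk_one h1))) hc
      rwa [inv_mul_cancel_left] at this
  -- common values
  have meet : ∀ {u v : V} {x y : G}, adj μ u → adj μ v → u ≠ v → IsF adj z u x → IsF adj z v y → C x → C y →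
      ∃ e, IsF adj z u e ∧ IsF adj z v e ∧ C e := by
    intro u v x y hu hv huv Fx Fy Cx Cy
    have hm : x * y ∈ W adj z 1 μ := by
      have := mul_mem (inv_mem Cx) Cy
      rwa [mul_inv_rev, mul_assoc, inv_mul_cancel_left, inv_of_sq (sq _ (CH Cx))] at this
    have xx := sq _ (CH Cx)
    have hy : y = x * (x * y) := by rw [← mul_assoc, xx, one_mul]
    have tx : C (x * z u) := by
      show f₁ * (x * z u) ∈ W adj z 1 μ
      rw [← mul_assoc]
      exact mul_mem Cx (mem_W (wk_one hu))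
    rcases (h.mem_W_one hμ).mp hm with e | ⟨w, hw, e⟩
    · rw [e, mul_one] at hy
      exact ⟨x, Fx, hy ▸ Fy, Cx⟩
    rw [← e] at hy
    rcases eq_or_ne w u with rfl | hwu
    · exact ⟨y, hy ▸ h.F_toggle hb (h.notA hμ hw) Fx, Fy, Cy⟩
    rcases eq_or_ne w v with rfl | hwv
    · have Ft := h.F_toggle hb (h.notA hμ hw) Fy
      rw [hy, mul_assoc, h.z_sq (h.notA hμ hw), mul_one] at Ft
      exact ⟨x, Fx, Ft, Cx⟩
    · have Ft := h.F_toggle hb (h.notA hμ hv) Fy
      rw [hy, mul_assoc, h.z_sum hμ hw hv hu hwv hwu huv.symm] at Ft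
      exact ⟨x * z u, h.F_toggle hb (h.notA hμ hu) Fx, Ft, tx⟩
  have uniq : ∀ {u v : V} {x y : G}, adj μ u → adj μ v → u ≠ v → IsF adj z u x → IsF adj z v x →
      IsF adj z u y → IsF adj z v y → y = x := by
    intro u v x y hu hv huv Fux Fvx Fuy Fvy
    rcases h.F_unique hb (h.notA hμ hu) Fux Fuy with e | e
    · exact e
    rcases h.F_unique hb (h.notA hμ hv) Fvx Fvy with e' | e'
    · exact e'
    · exact absurd (h.z_inj hμ hu hv (mul_left_cancel (e.symm.trans e'))) huv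
  have C1 : C f₁ := by
    show f₁ * f₁ ∈ W adj z 1 μ
    rw [sq _ f1H]
    exact one_mem _
  obtain ⟨a, a1, a2, Ca⟩ := meet h1 h2 hne F1 F2 C1 C2
  obtain ⟨c, c1, c3, Cc⟩ := meet h1 h3 h31.symm F1 F3 C1 C3
  obtain ⟨d, d2, d3, Cd⟩ := meet h2 h3 h32.symm F2 F3 C2 C3
  -- an element fixing one neighbour fixes the product of the three values
  have inv1 : ∀ {u v w : V} {x y r : G}, adj μ u → adj μ v → adj μ w → u ≠ v → u ≠ w → v ≠ w →
      IsF adj z u x → IsF adj z v x → IsF adj z u y → IsF adj z w y → IsF adj z v r → IsF adj z w r →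
      x ∈ H → y ∈ H → ∀ s ∈ T G μ u, s * (x * y * r) * s⁻¹ = x * y * r := by
    intro u v w x y r hu hv hw huv huw hvw xu xv yu yw rv rw' hxH hyH s hs
    have hcj : s * (x * y * r) * s⁻¹ = s * x * s⁻¹ * (s * y * s⁻¹) * (s * r * s⁻¹) := by group
    have iu : ∀ {g}, IsF adj z u g → IsF adj z u (s * g * s⁻¹) := fun hg => by
      have := h.F_conj s (h.notA hμ hu) hg
      rwa [hs.2] at this
    have iv : ∀ {g}, IsF adj z v g → IsF adj z (s • v) (s * g * s⁻¹) := fun hg => h.F_conj s (h.notA hμ hv) hg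
    have iw : ∀ {g}, IsF adj z w g → IsF adj z (s • w) (s * g * s⁻¹) := fun hg => h.F_conj s (h.notA hμ hw) hg
    rw [hcj]
    by_cases hsv : s • v = v
    · have hsw : s • w = w := (h.fix_two hs.1 hs.2 hsv hu hv huv).2 w hw
      rw [uniq hu hv huv xu xv (iu xu) (by simpa [hsv] using iv xv),
        uniq hu hw huw yu yw (iu yu) (by simpa [hsw] using iw yw),
        uniq hv hw hvw rv rw' (show IsF adj z v (s * r * s⁻¹) by simpa [hsv] using iv rv)
          (by simpa [hsw] using iw rw')]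
    · obtain ⟨s1, s2⟩ := h.swap hs.1 hs.2 hu hv hw huv huw hvw hsv
      rw [uniq hu hw huw yu yw (iu xu) (by simpa [s1] using iv xv),
        uniq hu hv huv xu xv (iu yu) (by simpa [s2] using iw yw),
        uniq hv hw hvw rv rw' (show IsF adj z v (s * r * s⁻¹) by simpa [s2] using iw rw')
          (by simpa [s1] using iv rv), cm _ hyH _ hxH]
  have hcent : stabilizer G μ ≤ centralizer {a * c * d} := by
    refine h.gen_stab h1 h2 hne ?_ ?_ <;> intro s hs <;>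
      rw [mem_centralizer_singleton_iff, ← conj_eq_self_iff]
    · exact inv1 h1 h2 h3 hne h31.symm h32.symm a1 a2 c1 c3 d2 d3 (CH Ca) (CH Cc) s hs
    · have := inv1 h2 h1 h3 hne.symm h32.symm h31.symm a2 a1 d2 d3 c1 c3 (CH Ca) (CH Cd) s hs
      rwa [show a * d * c = a * c * d by rw [mul_assoc, cm _ (CH Cd) _ (CH Cc), ← mul_assoc]] at this
  have hH : a * c * d ∈ H := mul_mem (mul_mem (CH Ca) (CH Cc)) (CH Cd)
  have h1' := h.no_central hμ h1 _ (h.W_two_le_T hb hB1 (h.symm h1) hH)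
    (fun g hg => mem_centralizer_singleton_iff.mp (hcent hg)) (sq _ hH)
  refine h.F_not_mem hb hn hB1 (h.symm h1) F1 ?_
  have hprod := mul_mem (mul_mem Ca Cc) Cd
  rw [show f₁ * a * (f₁ * c) * (f₁ * d) = f₁ * f₁ * f₁ * (a * c * d) by
    rw [show f₁ * a * (f₁ * c) = f₁ * (a * f₁) * c by group, cm _ (CH Ca) _ f1H,
      show f₁ * (f₁ * a) * c * (f₁ * d) = f₁ * f₁ * (a * c * f₁) * d by group,
      cm _ (mul_mem (CH Ca) (CH Cc)) _ f1H]
    group, h1', sq _ f1H, one_mul, mul_one] at hprod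
  exact hprod

/-- The commutator of the two ends of a critical configuration. -/
theorem flank (hC : AllCrit G adj A z b) (hb : 3 ≤ b) {p : ℕ → V} (hp : Arc adj b p) (hA : A (p 0))
    (hodd : ¬ Even b) {δ γ ε η : V} (hδ : adj (p 0) δ) (hδ1 : δ ≠ p 1) (hγ : adj (p b) γ) (hγ1 : γ ≠ p (b - 1))
    (hε : adj γ ε) (hεb : ε ≠ p b) (hη : adj (p 2) η) (hη1 : η ≠ p 1) :
    IsF adj z (p 1) (z δ * z ε * z δ * z ε * z η) ∧ z δ * z ε * z δ * z ε ∈ W adj z 2 (p 1) ∧
      z δ * z ε * z δ * z ε ≠ 1 ∧ z δ * z ε * z δ * z ε ≠ z (p 1) := by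
  have hB1 := h.notA hA (hp.1 0 h.pos)
  have hAb := h.A_arc hp le_rfl
  have hγA : A γ := h.isA (by tauto) hγ
  have h10 : adj (p 1) (p 0) := h.symm (hp.1 0 h.pos)
  have hpb : adj (p b) (p (b - 1)) := by
    have := h.symm (hp.1 (b - 1) (by omega))
    rwa [show b - 1 + 1 = b by omega] at this
  have hq : Arc adj b (consP γ fun i => p (b - i)) := by
    have := ((h.arc_rev hp).mono (show b - 1 ≤ b by omega)).cons (u := γ) (by simpa using h.symm hγ)
      (fun _ => by simpa using hγ1.symm)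
    rwa [show b - 1 + 1 = b by omega] at this
  obtain ⟨m, hm⟩ : ∃ m, b = m + 1 := ⟨b - 1, by omega⟩
  have hq1 : consP γ (fun i => p (b - i)) b = p 1 := by
    conv_lhs => rw [hm, consP_succ]
    exact congrArg p (by omega)
  have hmove : z ε • p 0 ≠ p 0 := by
    refine h.crit_move hq hγA (hC _ hq hγA) hε (by simpa using hεb) (by rw [hq1]; exact h10) ?_
    obtain ⟨n, hn⟩ : ∃ n, b = n + 2 := ⟨b - 2, by omega⟩
    rw [show b - 1 = n + 1 by omega, consP_succ, show b - n = 2 by omega]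
    exact hp.ne_pred (by omega)
  have hfix : z ε • p 1 = p 1 := h.low (k := b) le_rfl hγA hε (by
    have := hq.wk (Nat.zero_le b) le_rfl
    rwa [hq1, Nat.sub_zero] at this)
  have hfix2 : z ε • p 2 = p 2 := h.low (k := b - 1) (by omega) hγA hε (by
    have := hq.wk (Nat.zero_le (b - 1)) (Nat.sub_le b 1)
    rw [Nat.sub_zero] at this
    conv at this => arg 4; rw [show b - 1 = (b - 2) + 1 by omega, consP_succ, show b - (b - 2) = 2 by omega]
    exact this)
  have hα' : adj (p 1) (z ε • p 0) := h.adj_smul_of_fix hfix h10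
  have hα'2 : z ε • p 0 ≠ p 2 := fun e => hp.ne_pred (i := 0) (by omega) (smul_left_cancel _ (e.trans hfix2.symm))
  have hδ' : z ε • δ ≠ p 1 := fun e => hδ1 (smul_left_cancel _ (e.trans hfix.symm))
  have e1 : z δ * z ε * z δ * z ε = z δ * z (z ε • δ) := by
    rw [h.z_smul _ (h.notA hA hδ), inv_of_sq (h.z_sq (h.notA hγA hε))]
    group
  rw [e1]
  obtain ⟨n1, n2⟩ := h.two_reps hB1 h10 hα' (Ne.symm hmove) hδ (h.smul_adj _ hδ) hδ1 hδ'
  exact ⟨⟨p 0, z ε • p 0, p 2, δ, z ε • δ, η, h10, hα', hp.1 1 (by omega), Ne.symm hmove,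
      hp.ne_pred (by omega), hα'2, hδ, h.smul_adj _ hδ, hη, hδ1, hδ', hη1, rfl⟩,
    mul_mem (mem_W (n := 2) ⟨p 0, h10, δ, hδ, rfl⟩)
      (mem_W (n := 2) ⟨z ε • p 0, hα', z ε • δ, h.smul_adj _ hδ, rfl⟩), n1, n2⟩

/-- Both flanks of a critical configuration. -/
theorem flanks (hC : AllCrit G adj A z b) (hb : 3 ≤ b) {p : ℕ → V} (hp : Arc adj b p) (hA : A (p 0))
    (hodd : ¬ Even b) {δ γ ε η η' : V} (hδ : adj (p 0) δ) (hδ1 : δ ≠ p 1) (hγ : adj (p b) γ)
    (hγ1 : γ ≠ p (b - 1)) (hε : adj γ ε) (hεb : ε ≠ p b) (hη : adj (p 2) η) (hη1 : η ≠ p 1)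
    (hη' : adj (p (b - 1)) η') (hη'1 : η' ≠ p b) :
    ∃ c, c = z δ * z ε * z δ * z ε ∧ IsF adj z (p 1) (c * z η) ∧ IsF adj z (p b) (c * z η') ∧
      c ∈ W adj z 2 (p 1) ∧ c ∈ W adj z 2 (p b) ∧ c ≠ 1 ∧ c ≠ z (p 1) ∧ c ≠ z (p b) := by
  obtain ⟨F1, m1, n1, n2⟩ := h.flank hC hb hp hA hodd hδ hδ1 hγ hγ1 hε hεb hη hη1
  have hB1 := h.notA hA (hp.1 0 h.pos)
  have hAb := h.A_arc hp le_rfl
  have hγA : A γ := h.isA (by tauto) hγ
  obtain ⟨n, hn⟩ : ∃ n, b = n + 2 := ⟨b - 2, by omega⟩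
  have hq : Arc adj b (consP γ fun i => p (b - i)) := by
    have := ((h.arc_rev hp).mono (show b - 1 ≤ b by omega)).cons (u := γ) (by simpa using h.symm hγ)
      (fun _ => by simpa using hγ1.symm)
    rwa [show b - 1 + 1 = b by omega] at this
  have q1 : consP γ (fun i => p (b - i)) 1 = p b := by simp
  have q2 : consP γ (fun i => p (b - i)) 2 = p (b - 1) := by simp
  have qb : consP γ (fun i => p (b - i)) b = p 1 := by
    conv_lhs => rw [hn, consP_succ]
    exact congrArg p (by omega)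
  have qb1 : consP γ (fun i => p (b - i)) (b - 1) = p 2 := by
    rw [show b - 1 = n + 1 by omega, consP_succ]
    exact congrArg p (by omega)
  obtain ⟨F2, m2, -, n3⟩ := h.flank hC hb hq hγA hodd hε (by rw [q1]; exact hεb)
    (γ := p 0) (ε := δ) (η := η') (by rw [qb]; exact h.symm (hp.1 0 h.pos))
    (by rw [qb1]; exact hp.ne_pred (by omega)) hδ (by rw [qb]; exact hδ1) (by rw [q2]; exact hη')
    (by rw [q1]; exact hη'1)
  have hcc : z ε * z δ * z ε * z δ = z δ * z ε * z δ * z ε := by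
    refine mul_left_cancel (a := z δ * z ε * z δ * z ε) (Eq.trans ?_ (h.sq_two hb hB1 _ m1).symm)
    simp only [mul_assoc]
    rw [← mul_assoc (z ε) (z ε), h.z_sq (h.notA hγA hε), one_mul, ← mul_assoc (z δ) (z δ),
      h.z_sq (h.notA hA hδ), one_mul, ← mul_assoc (z ε) (z ε), h.z_sq (h.notA hγA hε), one_mul,
      h.z_sq (h.notA hA hδ)]
  rw [hcc, q1] at F2 m2 n3
  exact ⟨_, rfl, F1, F2, m1, m2, n1, n2, n3⟩

theorem exists_config {p : ℕ → V} (hp : Arc adj b p) :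
    ∃ δ γ ε, adj (p 0) δ ∧ δ ≠ p 1 ∧ adj (p b) γ ∧ γ ≠ p (b - 1) ∧ adj γ ε ∧ ε ≠ p b := by
  obtain ⟨δ, -, h1, -, -, hδ, -, -⟩ := h.nbr (hp.1 0 h.pos)
  obtain ⟨γ, hγ, hγ1⟩ := h.exists_extend hp
  obtain ⟨ε, -, h3, -, -, hε, -, -⟩ := h.nbr (h.symm hγ)
  exact ⟨δ, γ, ε, hδ, h1, hγ, hγ1 h.pos, hε, h3⟩

/-- The products of the three centres are central. -/
theorem d2 (hC : AllCrit G adj A z b) (hodd : ¬ Even b) (hb : 3 ≤ b) : D2 adj A z := by
  refine (h.F_dichotomy hb).resolve_right fun hn => ?_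
  obtain ⟨p, hp, hA, -⟩ := h.crit
  have hAi : ∀ {i}, i ≤ b → (A (p i) ↔ Even i) := fun hi => by
    have := h.A_arc hp hi
    tauto
  have hB1 := h.notA hA (hp.1 0 h.pos)
  have hA2 : A (p 2) := (hAi (by omega)).mpr (by decide)
  have hBb : ¬ A (p b) := fun e => hodd ((hAi le_rfl).mp e)
  have hb' : adj (p (b - 1)) (p b) := by
    have := hp.1 (b - 1) (by omega)
    rwa [show b - 1 + 1 = b by omega] at this
  have h21 : adj (p 2) (p 1) := h.symm (hp.1 1 (by omega))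
  have h23 : adj (p 2) (p 3) := hp.1 2 (by omega)
  have cm1 := h.comm_two hb hB1
  obtain ⟨δ, γ, ε, hδ, hδ1, hγ, hγ1, hε, hεb⟩ := h.exists_config hp
  by_cases hb3 : b = 3
  · subst hb3
    obtain ⟨c, -, F1, F3, m1, -⟩ := h.flanks hC hb hp hA hodd hδ hδ1 hγ hγ1 hε hεb h23
      (hp.ne_pred le_rfl).symm h21 (hp.ne_pred le_rfl)
    refine h.false_of_pair hb hn hA2 h21 h23 (hp.ne_pred le_rfl) F1 F3 ?_
    have hm : z (p 3) ∈ W adj z 2 (p 1) := mem_W (n := 2) ⟨p 2, hp.1 1 (by omega), p 3, h23, rfl⟩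
    rw [cm1 _ m1 _ hm, mul_assoc, ← mul_assoc c c, h.sq_two hb hB1 _ m1, one_mul]
    exact mul_mem (mem_W (wk_one h23)) (mem_W (wk_one h21))
  obtain ⟨j, rfl⟩ : ∃ j, b = j + 5 := ⟨b - 5, by
    rcases (by omega : b = 4 ∨ 5 ≤ b) with e | e
    · exact absurd (e ▸ (by decide : Even 4)) hodd
    · omega⟩
  rw [show j + 5 - 1 = j + 4 by omega] at hb' hγ1
  have h44 : adj (p (j + 4)) (p (j + 3)) := h.symm (hp.1 (j + 3) (by omega))
  obtain ⟨c, -, F1, Fb, m1, mb, -⟩ := h.flanks hC hb hp hA hodd hδ hδ1 hγ (by simpa using hγ1) hε hεb h23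
    (hp.ne_pred (by omega)).symm (η' := p (j + 3)) (by simpa using h44) (hp.ne_pred (by omega))
  -- replace the second vertex
  obtain ⟨δ'', hd2, hd1, hd3, -⟩ := h.other h21 h23 (hp.ne_pred (by omega))
  have hBd := h.notA hA2 hd2
  obtain ⟨a'', -, ha2, -, -, ha, -, -⟩ := h.nbr (h.symm hd2)
  obtain ⟨d, -, hdd, -, -, had, -, -⟩ := h.nbr (h.symm ha)
  have hAa : A a'' := h.isA hBd ha
  have hq : Arc adj (j + 5) (consP a'' (consP δ'' fun i => p (2 + i))) :=
    ((hp.shift (m := j + 3) 2 (by omega)).cons (u := δ'') (h.symm hd2) fun _ => hd3.symm).cons (h.symm ha)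
      fun _ => ha2.symm
  have qi : ∀ i, consP a'' (consP δ'' fun i => p (2 + i)) (i + 2) = p (i + 2) := fun i => congrArg p (by omega)
  obtain ⟨c', -, F1', Fb', m1', mb', -⟩ := h.flanks hC hb hq hAa hodd (δ := d) had hdd
    (γ := γ) (ε := ε) (η := p 3) (η' := p (j + 3))
    (by rw [show j + 5 = j + 3 + 2 by omega, qi]; exact hγ)
    (by rw [show j + 5 - 1 = j + 2 + 2 by omega, qi]; exact hγ1) hε
    (by rw [show j + 5 = j + 3 + 2 by omega, qi]; exact hεb)
    (by rw [show 2 = 0 + 2 from rfl, qi]; exact h23) hd3.symm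
    (by rw [show j + 5 - 1 = j + 2 + 2 by omega, qi]; exact h44)
    (by rw [show j + 5 = j + 3 + 2 by omega, qi]; exact hp.ne_pred (by omega))
  rw [show j + 5 = j + 3 + 2 by omega, qi, show j + 3 + 2 = j + 5 by omega] at Fb' mb'
  change IsF adj z δ'' (c' * z (p 3)) at F1'
  change c' ∈ W adj z 2 δ'' at m1'
  have cmb := h.comm_two hb hBb
  have cmd := h.comm_two hb hBd
  have m3 : z (p 3) ∈ W adj z 2 (p 1) := mem_W (n := 2) ⟨p 2, hp.1 1 (by omega), p 3, h23, rfl⟩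
  have m3' : z (p 3) ∈ W adj z 2 δ'' := mem_W (n := 2) ⟨p 2, h.symm hd2, p 3, h23, rfl⟩
  have hff : c * z (p 3) * (c' * z (p 3)) = c * c' := by
    rw [cmd _ m1' _ m3', mul_assoc, ← mul_assoc (z (p 3)) (z (p 3)),
      h.z_sq (fun e => by simpa [hAi (show 3 ≤ j + 5 by omega), (by decide : ¬ Even 3)] using e), one_mul]
  rcases h.F_unique hb hBb Fb Fb' with e | e
  · refine h.false_of_pair hb hn hA2 h21 hd2 hd1.symm F1 F1' ?_
    rw [hff, mul_right_cancel e, h.sq_two hb hBb _ mb]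
    exact one_mem _
  -- the central element of the far end commutes with too much
  have mη : z (p (j + 3)) ∈ W adj z 2 (p (j + 5)) :=
    mem_W (n := 2) ⟨p (j + 4), h.symm hb', p (j + 3), h44, rfl⟩
  have mz : z (p (j + 5)) ∈ W adj z 2 (p (j + 5)) := mem_W (n := 2) ⟨p (j + 4), h.symm hb', p (j + 5), hb', rfl⟩
  have hcc : c * c' = z (p (j + 5)) := by
    rw [mul_assoc, cmb _ mη _ mz, ← mul_assoc] at e
    rw [mul_right_cancel e, ← mul_assoc, h.sq_two hb hBb _ mb, one_mul]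
  obtain ⟨w, -, hw0, -, -, hw, -, -⟩ := h.nbr (h.symm hδ)
  have hwA : A w := h.isA (h.notA hA hδ) hw
  obtain ⟨u, -, hu1, -, -, hu, -, -⟩ := h.nbr (h.symm hw)
  have hW1 : W adj z 2 (p 1) ≤ centralizer {z u} := W_le fun e he =>
    mem_centralizer_singleton_iff.mpr (h.z_comm_of_wk hwA hu (h.notA_wk (by simpa using hB1) he)
      (k := 5) (Wk.trans (m := 3) (n := 2) ⟨δ, h.symm hw, p 0, h.symm hδ, p 1, hp.1 0 (by omega), rfl⟩ he)
      (by omega)).symm
  have w5 : Wk adj 5 w δ'' :=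
    ⟨δ, h.symm hw, p 0, h.symm hδ, p 1, hp.1 0 (by omega), p 2, hp.1 1 (by omega), δ'', hd2, rfl⟩
  have hzd : z u * z δ'' = z δ'' * z u := h.z_comm_of_wk hwA hu hBd w5 (by omega)
  have hWd : c' * z (p 3) ∈ centralizer {z u} := by
    rcases Nat.eq_zero_or_pos j with rfl | hj
    · have ha5 : Arc adj 5 (consP w (consP δ (consP (p 0) (consP (p 1) (consP (p 2) fun _ => δ''))))) :=
        (((arc_two (hp.1 1 (by omega)) hd2 hd1).cons (hp.1 0 (by omega))
          fun _ => (hp.ne_pred (by omega)).symm).cons (h.symm hδ) fun _ => hδ1.symm).cons (h.symm hw)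
            fun _ => hw0.symm
      have hmv : z u • a'' ≠ a'' := h.crit_move ha5 hwA (hC _ ha5 hwA) hu hu1 (w := a'') ha ha2
      have f5 : z u • δ'' = δ'' := h.low le_rfl hwA hu w5
      have f4 : z u • p 2 = p 2 := h.low (k := 4) (by omega) hwA hu
        ⟨δ, h.symm hw, p 0, h.symm hδ, p 1, hp.1 0 (by omega), p 2, hp.1 1 (by omega), rfl⟩
      have f5' : z u • p 3 = p 3 := h.low le_rfl hwA hu
        ⟨δ, h.symm hw, p 0, h.symm hδ, p 1, hp.1 0 (by omega), p 2, hp.1 1 (by omega), p 3, h23, rfl⟩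
      have Fs : IsF adj z δ'' (z (p 3) * z d * z (z u • d)) :=
        ⟨p 2, a'', z u • a'', p 3, d, z u • d, h.symm hd2, ha, h.adj_smul_of_fix f5 ha, ha2.symm,
          fun e => ha2 (smul_left_cancel (z u) (e.symm.trans f4.symm)), Ne.symm hmv, h23, had, h.smul_adj _ had,
          hd3.symm, hdd, fun e => hdd (smul_left_cancel (z u) (e.trans f5.symm)), rfl⟩
      have cs : z u * (z (p 3) * z d * z (z u • d)) = z (p 3) * z d * z (z u • d) * z u := by
        have c3 : z u * z (p 3) = z (p 3) * z u :=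
          h.z_comm (fun e => by simpa [hAi (show 3 ≤ 0 + 5 by omega), (by decide : ¬ Even 3)] using e) f5'
        have uu := h.z_sq (h.notA hwA hu)
        have cd := cmd _ (mem_W (n := 2) ⟨a'', ha, d, had, rfl⟩) _
          (mem_W (n := 2) ⟨z u • a'', h.adj_smul_of_fix f5 ha, z u • d, h.smul_adj _ had, rfl⟩)
        rw [mul_assoc (z (p 3)), ← mul_assoc, c3, mul_assoc, mul_assoc (z (p 3))]
        congr 1
        conv_lhs => rw [cd]
        rw [h.z_smul _ (h.notA hAa had), inv_of_sq uu]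
        simp only [mul_assoc]
        rw [← mul_assoc (z u) (z u), uu, one_mul, mul_one]
      rcases h.F_unique hb hBd Fs F1' with e | e <;> rw [e, mem_centralizer_singleton_iff]
      · exact cs.symm
      · rw [mul_assoc, ← hzd, ← mul_assoc, ← cs, mul_assoc]
    · have hj2 : 2 ≤ j := by
        rcases (by omega : j = 1 ∨ 2 ≤ j) with rfl | e
        · exact absurd (by decide : Even (1 + 5)) hodd
        · exact e
      refine (W_le (z := z) fun e he => mem_centralizer_singleton_iff.mpr (h.z_comm_of_wk hwA hu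
        (h.notA_wk (by simpa using hBd) he) (k := 5 + 2) (w5.trans he) (by omega)).symm) (mul_mem m1' m3')
  have hzb : z (p (j + 5)) * z u = z u * z (p (j + 5)) := by
    have := mul_mem (hW1 (h.F_mem F1)) hWd
    rw [hff, hcc] at this
    exact mem_centralizer_singleton_iff.mp this
  -- but it moves `w`
  have hr : Arc adj (j + 5) (snocP (j + 4) (fun i => p (j + 4 - i)) δ) :=
    (h.arc_rev (hp.mono (show j + 4 ≤ j + 5 by omega))).snoc (by simpa using hδ)
      fun _ => by simpa [show j + 4 - (j + 4 - 1) = 1 by omega] using hδ1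
  have hr0 : snocP (j + 4) (fun i => p (j + 4 - i)) δ 0 = p (j + 4) := snocP_le _ _ (by omega)
  have hr1 : snocP (j + 4) (fun i => p (j + 4 - i)) δ 1 = p (j + 3) := snocP_le _ _ (by omega)
  have hr4 : snocP (j + 4) (fun i => p (j + 4 - i)) δ (j + 4) = p 0 := by rw [snocP_le _ _ le_rfl, Nat.sub_self]
  have hA4 : A (p (j + 4)) := h.isA hBb (h.symm hb')
  have hmv : z (p (j + 5)) • w ≠ w := by
    refine h.crit_move hr (hr0 ▸ hA4) (hC _ hr (hr0 ▸ hA4)) (by rw [hr0]; exact hb')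
      (by rw [hr1]; exact (hp.ne_pred (by omega)).symm) ?_ ?_
    · rw [snocP_last]; exact hw
    · rw [show j + 5 - 1 = j + 4 by omega, hr4]; exact hw0
  have hfδ : z (p (j + 5)) • δ = δ := h.low le_rfl hA4 hb' (by
    have := hr.wk (Nat.zero_le (j + 5)) le_rfl
    rwa [hr0, snocP_last, Nat.sub_zero] at this)
  have ha4 : Arc adj 4 (consP u (consP w (consP δ (consP (z (p (j + 5)) • w) fun _ => z (p (j + 5)) • u)))) :=
    ((arc_two (h.adj_smul_of_fix hfδ hw) (h.smul_adj _ hu)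
      (fun e => hu1 (smul_left_cancel (z (p (j + 5))) (e.trans hfδ.symm)))).cons (h.symm hw)
        fun _ => hmv).cons (h.symm hu) fun _ => hu1.symm
  refine h.centre_ne hC ha4 (h.notA hwA hu) (h.B_smul _ (h.notA hwA hu)) (by omega) (by omega) ?_
  show z u = z (z (p (j + 5)) • u)
  rw [h.z_smul _ (h.notA hwA hu), hzb, mul_inv_cancel_right]

/-- With central products the commutator is the centre of the third neighbour. -/
theorem centre_of_c (hD : D2 adj A z) (hb : 3 ≤ b) {β μ η : V} {c : G} (hβ : ¬ A β) (hμ : adj β μ)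
    (hη : adj μ η) (hne : η ≠ β) (hF : IsF adj z β (c * z η)) : ∃ d, adj μ d ∧ d ≠ β ∧ c = z d := by
  have _ := hb
  have hA := h.isA hβ hμ
  have hs := h.z_sq (h.notA hA hη)
  rcases hD β _ hβ hF with e | e
  · exact ⟨η, hη, hne, by rw [← mul_one c, ← hs, ← mul_assoc, e, one_mul]⟩
  · obtain ⟨t, ht, htβ, htη, -⟩ := h.other (h.symm hμ) hη hne.symm
    refine ⟨t, ht, htβ, ?_⟩
    rw [← h.z_sum hA (h.symm hμ) hη ht hne.symm htβ.symm htη.symm, ← e, mul_assoc, hs, mul_one]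

/-- The critical length is at most three. -/
theorem le_three (hC : AllCrit G adj A z b) (hodd : ¬ Even b) : b ≤ 3 := by
  by_contra hlt
  have hb : 3 ≤ b := by omega
  have hb5 : 5 ≤ b := by
    rcases (by omega : b = 4 ∨ 5 ≤ b) with e | e
    · exact absurd (e ▸ (by decide : Even 4)) hodd
    · exact e
  have hD := h.d2 hC hodd hb
  have rule : ∀ {p : ℕ → V}, Arc adj b p → A (p 0) → ∀ {δ γ ε : V}, adj (p 0) δ → δ ≠ p 1 → adj (p b) γ →
      γ ≠ p (b - 1) → adj γ ε → ε ≠ p b → b = 5 ∧ z δ * z ε * z δ * z ε = z (p 3) := by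
    intro p hp hA δ γ ε hδ hδ1 hγ hγ1 hε hεb
    obtain ⟨j, rfl⟩ : ∃ j, b = j + 5 := ⟨b - 5, by omega⟩
    have hAi : ∀ {i}, i ≤ j + 5 → (A (p i) ↔ Even i) := fun hi => by
      have := h.A_arc hp hi
      tauto
    have h23 : adj (p 2) (p 3) := hp.1 2 (by omega)
    have h43 : adj (p (j + 4)) (p (j + 3)) := h.symm (hp.1 (j + 3) (by omega))
    have h45 : adj (p (j + 4)) (p (j + 5)) := hp.1 (j + 4) (by omega)
    obtain ⟨c, hc, F1, Fb, -⟩ := h.flanks hC hb hp hA hodd hδ hδ1 hγ hγ1 hε hεb h23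
      (hp.ne_pred (by omega)).symm (η' := p (j + 3)) (by simpa using h43) (hp.ne_pred (by omega))
    have hB1 : ¬ A (p 1) := by rw [hAi (by omega)]; decide
    have hBb : ¬ A (p (j + 5)) := fun e => hodd ((hAi le_rfl).mp e)
    have hA2 : A (p 2) := (hAi (by omega)).mpr (by decide)
    obtain ⟨d₁, hd₁, hd₁1, e₁⟩ := h.centre_of_c hD hb hB1 (hp.1 1 (by omega)) h23 (hp.ne_pred (by omega)).symm F1
    obtain ⟨d₂, hd₂, hd₂1, e₂⟩ := h.centre_of_c hD hb hBb (h.symm h45) h43 (hp.ne_pred (by omega)) Fb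
    have hd₁B := h.notA hA2 hd₁
    have hd₂B := h.notA (h.isA hBb (h.symm h45)) hd₂
    rw [← hc]
    by_cases k1 : d₁ = p 3
    · by_cases k2 : d₂ = p (j + 3)
      · rcases Nat.eq_zero_or_pos j with rfl | hj
        · exact ⟨rfl, k1 ▸ e₁⟩
        · have hy : Arc adj j fun i => p (3 + i) := hp.shift 3 (by omega)
          refine absurd ?_ (h.centre_ne hC hy (k1 ▸ hd₁B)
            (by show ¬ A (p (3 + j)); rw [Nat.add_comm]; exact k2 ▸ hd₂B) ?_ (by omega))
          · show z (p 3) = z (p (3 + j))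
            rw [Nat.add_comm 3 j, ← k1, ← k2, ← e₁, e₂]
          · rcases (by omega : j = 1 ∨ 2 ≤ j) with rfl | e
            · exact absurd (by decide : Even (1 + 5)) hodd
            · exact e
      · have hy : Arc adj (j + 1 + 1) (snocP (j + 1) (fun i => p (3 + i)) d₂) :=
          (hp.shift 3 (by omega)).snoc (by rw [show 3 + (j + 1) = j + 4 by omega]; exact hd₂)
            fun _ => by rw [show 3 + (j + 1 - 1) = j + 3 by omega]; exact k2
        refine absurd ?_ (h.centre_ne hC hy (by rw [snocP_le _ _ (by omega)]; exact k1 ▸ hd₁B)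
          (by rwa [snocP_last]) (by omega) (by omega))
        rw [snocP_le _ _ (by omega), snocP_last]
        show z (p 3) = z d₂
        rw [← k1, ← e₁, e₂]
    · have hy0 : Arc adj (j + 3) (consP d₁ fun i => p (2 + i)) :=
        (hp.shift (m := j + 2) 2 (by omega)).cons (h.symm hd₁) fun _ => Ne.symm k1
      by_cases k2 : d₂ = p (j + 3)
      · have hy := hy0.mono (show j + 2 ≤ j + 3 by omega)
        have hl : consP d₁ (fun i => p (2 + i)) (j + 2) = d₂ := by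
          rw [consP_succ, k2]
          exact congrArg p (by omega)
        refine absurd ?_ (h.centre_ne hC hy hd₁B (hl.symm ▸ hd₂B) (by omega) (by omega))
        rw [hl, consP_zero, ← e₁, e₂]
      · have hy : Arc adj (j + 3 + 1) (snocP (j + 3) (consP d₁ fun i => p (2 + i)) d₂) :=
          hy0.snoc (by rw [consP_succ, show 2 + (j + 2) = j + 4 by omega]; exact hd₂) fun _ => by
            rw [show j + 3 - 1 = j + 1 + 1 by omega, consP_succ, show 2 + (j + 1) = j + 3 by omega]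
            exact k2
        refine absurd ?_ (h.centre_ne hC hy (by rw [snocP_le _ _ (by omega)]; exact hd₁B)
          (by rwa [snocP_last]) (by omega) (by omega))
        rw [snocP_le _ _ (by omega), snocP_last, consP_zero, ← e₁, e₂]
  obtain ⟨p, hp, hA, -⟩ := h.crit
  obtain ⟨δ₀, γ₀, ε₀, a1, a2, a3, a4, a5, a6⟩ := h.exists_config hp
  obtain rfl := (rule hp hA a1 a2 a3 a4 a5 a6).1
  obtain ⟨q, hq, hqp⟩ := h.extend hp 3
  have hA0 : A (q 0) := hqp 0 (by omega) ▸ hA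
  have hAi : ∀ {i}, i ≤ 8 → (A (q i) ↔ Even i) := fun hi => by
    have := h.A_arc hq hi
    tauto
  obtain ⟨δ, -, hδ1, -, -, hδ, -, -⟩ := h.nbr (hq.1 0 (by omega))
  obtain ⟨ε, -, hε1, -, -, hε, -, -⟩ := h.nbr (h.symm (hq.1 7 (by omega)))
  have hA8 : A (q 8) := (hAi le_rfl).mpr (by decide)
  -- the far involution moves `q 2`, the near one moves `q 6`
  have hr : Arc adj 5 fun i => q (8 - i) := (h.arc_rev hq).mono (by omega)
  have hy2 : z ε • q 2 ≠ q 2 := h.crit_move hr hA8 (hC _ hr hA8) hε hε1 (h.symm (hq.1 2 (by omega)))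
    (hq.ne_pred (by omega))
  have hy3 : z ε • q 3 = q 3 := h.low le_rfl hA8 hε (h.wk_symm (hq.wk (by omega : 3 ≤ 8) le_rfl))
  have hw6 : z δ • q 6 ≠ q 6 := h.crit_move (hq.mono (show 5 ≤ 8 by omega)) hA0
    (hC _ (hq.mono (show 5 ≤ 8 by omega)) hA0) hδ hδ1 (hq.1 5 (by omega)) (hq.ne_pred (by omega)).symm
  have hw5 : z δ • q 5 = q 5 := h.low le_rfl hA0 hδ (hq.wk (by omega : 0 ≤ 5) (by omega))
  have q1 : Arc adj 5 (consP (q 0) (consP (q 1) (consP (q 2) (consP (q 3)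
      (consP (z ε • q 2) fun _ => z ε • q 1))))) :=
    (((arc_two (hy3 ▸ h.smul_adj (z ε) (h.symm (hq.1 2 (by omega)))) (h.smul_adj (z ε) (h.symm (hq.1 1 (by omega))))
      (fun e => hq.ne_pred (i := 1) (by omega) (smul_left_cancel (z ε) (e.trans hy3.symm)))).cons
        (hq.1 2 (by omega)) fun _ => hy2).cons (hq.1 1 (by omega)) fun _ => (hq.ne_pred (by omega)).symm).cons
          (hq.1 0 (by omega)) fun _ => (hq.ne_pred (by omega)).symm
  have c1 := (rule q1 hA0 (δ := δ) (γ := z ε • q 0) (ε := z ε • δ) hδ hδ1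
    (h.smul_adj _ (h.symm (hq.1 0 (by omega))))
    (fun e => hq.ne_pred (i := 0) (by omega) (smul_left_cancel _ e)) (h.smul_adj _ hδ)
    (fun e => hδ1 (smul_left_cancel _ e))).2
  have q2 : Arc adj 5 (consP (q 8) (consP (q 7) (consP (q 6) (consP (q 5)
      (consP (z δ • q 6) fun _ => z δ • q 7))))) :=
    (((arc_two (hw5 ▸ h.smul_adj (z δ) (hq.1 5 (by omega))) (h.smul_adj (z δ) (hq.1 6 (by omega)))
      (fun e => (hq.ne_pred (i := 5) (by omega)).symm (smul_left_cancel (z δ) (e.trans hw5.symm)))).cons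
        (h.symm (hq.1 5 (by omega))) fun _ => hw6).cons (h.symm (hq.1 6 (by omega)))
          fun _ => hq.ne_pred (by omega)).cons (h.symm (hq.1 7 (by omega))) fun _ => hq.ne_pred (by omega)
  have c2 := (rule q2 hA8 (δ := ε) (γ := z δ • q 8) (ε := z δ • ε) hε hε1
    (h.smul_adj _ (hq.1 7 (by omega)))
    (fun e => (hq.ne_pred (i := 6) (by omega)).symm (smul_left_cancel _ e)) (h.smul_adj _ hε)
    (fun e => hε1 (smul_left_cancel _ e))).2
  change _ = z (q 3) at c1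
  change _ = z (q 5) at c2
  have wi := inv_of_sq (h.z_sq (h.notA hA0 hδ))
  have yi := inv_of_sq (h.z_sq (h.notA hA8 hε))
  rw [h.z_smul _ (h.notA hA0 hδ), yi] at c1
  rw [h.z_smul _ (h.notA hA8 hε), wi] at c2
  have hB3 : ¬ A (q 3) := by rw [hAi (by omega)]; decide
  refine hq.ne_pred (i := 3) (by omega) (h.z_inj ((hAi (show 4 ≤ 8 by omega)).mpr (by decide))
    (h.symm (hq.1 3 (by omega))) (hq.1 4 (by omega)) ?_)
  rw [← inv_of_sq (h.z_sq hB3), ← c1, ← c2]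
  simp only [mul_inv_rev, wi, yi, mul_assoc]

end HypB

end Cfsg.Agent.Transfer.Goldschmidt
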