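import Cfsg.Agent.Lib.Transfer.Goldschmidt.ThreeBase

/-!
# Critical length three: the order of the edge stabilizer
-/

set_option autoImplicit false

namespace Cfsg.Agent.Transfer.Goldschmidt

open MulAction Subgroup

variable {G V : Type*} [Group G] [MulAction G V] {adj : V → V → Prop} {A : V → Prop} {z : V → G}

namespace HypB

variable (h : HypB G adj A z 3) (hC : AllCrit G adj A z 3) (hD : D2 adj A z)
include h hC hD

omit hD in
theorem dist_four {x a c e e' : V} (hx : ¬ A x) (ha : adj x a) (hc : adj x c) (hac : a ≠ c) (he : adj a e)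
    (he' : adj c e') (hex : e ≠ x) (hex' : e' ≠ x) : z e ≠ z e' := by
  have hp : Arc adj 4 (consP e (consP a (consP x (consP c fun _ => e')))) :=
    ((arc_two hc he' hex').cons (h.symm ha) fun _ => hac.symm).cons (h.symm he) fun _ => hex.symm
  exact h.centre_ne hC hp (h.notA (h.isA hx ha) he) (h.notA (h.isA hx hc) he') (by omega) (by omega)

omit hD in
/-- A centre at distance two is not central in `L`. -/
theorem z_two_notJ0 {x μ y : V} (hx : ¬ A x) (hμ : adj x μ) (hy : adj μ y) (hyx : y ≠ x) :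
    z y ∉ J0 G adj x := by
  intro hj
  obtain ⟨ρ, hρ, hρ3, hρne⟩ := h.exists_three hμ
  have hc := J0_comm hj (subset_closure ⟨hρ, hρ3⟩)
  refine h.dist_four hC hx (h.adj_smul_of_fix hρ hμ) hμ (hρne μ hμ) (h.smul_adj ρ hy) hy
    (fun e => hyx (smul_left_cancel ρ (e.trans hρ.symm))) hyx ?_
  rw [h.z_smul ρ (h.notA (h.isA hx hμ) hy), conj_eq_self_iff.mpr hc]

theorem J0_inter_K {x μ y : V} (hx : ¬ A x) (hμ : adj x μ) (hy : adj μ y) (hyx : y ≠ x) {j : G}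
    (hj : j ∈ J0 G adj x) (hjy : j ∈ Q G adj y) : j ∈ K G adj y := by
  have hμA := h.isA hx hμ
  have hyB := h.notA hμA hy
  refine mem_K.mpr ⟨hjy, fun a ha => ?_⟩
  rcases eq_or_ne a μ with rfl | haμ
  · exact (mem_K.mp (J0_le_K hj)).2 a hμ
  have haA := h.isA hyB ha
  refine h.mem_Q_of_comm haA (hjy.2 a ha) fun e he => ?_
  rcases eq_or_ne e y with rfl | hey
  · exact h.z_comm hyB hjy.1
  have heB := h.notA haA he
  have hw : Wk adj 3 a x := ⟨y, h.symm ha, μ, h.symm hy, x, h.symm hμ, rfl⟩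
  have hz : z e • x = x := h.low le_rfl haA he hw
  have hm : j * z e * j⁻¹ * z e ∈ J0 G adj x := by
    rw [show j * z e * j⁻¹ * z e = j * (z e * j⁻¹ * z e) by group]
    refine mul_mem hj ?_
    have := h.J0_conj (g := z e) (inv_mem hj)
    rwa [hz, inv_of_sq (h.z_sq heB)] at this
  have hje : j • a = a := hjy.2 a ha
  rcases eq_or_ne (j • e) e with hfix | hne
  · exact h.z_comm heB hfix
  · exfalso
    obtain ⟨t, ht, hty, hte, -⟩ := h.other (h.symm ha) he hey.symm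
    rw [← h.z_smul j heB, (h.swap hje hjy.1 (h.symm ha) he ht hey.symm hty.symm hte.symm hne).1,
      ← h.z_sum haA he (h.symm ha) ht hey hte.symm hty.symm, mul_assoc, ← h.z_commute haA he (h.symm ha),
      ← mul_assoc, h.z_sq heB, one_mul] at hm
    exact h.z_two_notJ0 hC hx hμ hy hyx hm

theorem J0_inter {x μ y : V} (hx : ¬ A x) (hμ : adj x μ) (hy : adj μ y) (hyx : y ≠ x) {j : G}
    (hj : j ∈ J0 G adj x) (hjy : j ∈ Q G adj y) : j ∈ J G adj x := by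
  have across : ∀ {μ y w}, adj x μ → adj μ y → y ≠ x → adj μ w → w ≠ x → j ∈ Q G adj y → j ∈ Q G adj w := by
    intro μ y w hμ hy hyx hw hwx hjy
    rcases eq_or_ne w y with rfl | hne
    · exact hjy
    obtain ⟨u, hu, hux, huμ, huμ'⟩ := h.exists_swap hC hD hx hμ
    have e1 := (h.swap huμ' hux.1 (h.symm hμ) hy hw hyx.symm hwx.symm hne.symm
      (h.moves_all huμ' hux.1 (h.symm hμ) hy hyx.symm huμ)).1
    have := h.Q_conj (g := u) hjy
    rwa [J0_comm hj hu, mul_inv_cancel_right, e1] at this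
  obtain ⟨ρ, hρ, hρ3, hρne⟩ := h.exists_three hμ
  obtain ⟨b1, b2, n1, n2, n3, -⟩ := h.cycle hρ hρ3 hρne hμ
  have move : ∀ {y}, j ∈ Q G adj y → j ∈ Q G adj (ρ • y) := by
    intro y hy
    have := h.Q_conj (g := ρ) hy
    rwa [J0_comm hj (subset_closure ⟨hρ, hρ3⟩), mul_inv_cancel_right] at this
  refine mem_J.mpr ⟨hj, fun w hw => ?_⟩
  obtain ⟨c, hc, w', hw', rfl⟩ := hw
  rcases eq_or_ne w' x with rfl | hwx
  · exact (mem_K.mp (J0_le_K hj)).1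
  have hne : ∀ {v}, v ≠ x → ρ • v ≠ x := fun hv e => hv (smul_left_cancel ρ (e.trans hρ.symm))
  rcases h.only hμ b1 b2 n1 n2 n3 hc with rfl | rfl | rfl
  · exact across hμ hy hyx hw' hwx hjy
  · exact across b1 (h.smul_adj ρ hy) (hne hyx) hw' hwx (move hjy)
  · exact across b2 (h.smul_adj ρ (h.smul_adj ρ hy)) (hne (hne hyx)) hw' hwx (move (move hjy))

theorem J_le_K {x y : V} (hx : ¬ A x) (hy : Wk adj 2 x y) {j : G} (hj : j ∈ J G adj x) : j ∈ K G adj y := by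
  obtain ⟨hj0, hjQ⟩ := mem_J.mp hj
  have hjy := hjQ y hy
  obtain ⟨μ, hμ, y', hy', rfl⟩ := hy
  rcases eq_or_ne y' x with rfl | hne
  · exact J0_le_K hj0
  · exact h.J0_inter_K hC hD hx hμ hy' hne hj0 hjy

omit hC hD in
theorem z_mem_J {x : V} (hx : ¬ A x) : z x ∈ J G adj x := by
  refine mem_J.mpr ⟨⟨?_, ?_⟩, fun y hy => h.z_mem_Q hx hy (by omega)⟩
  · obtain ⟨a, ha⟩ := h.deg x
    exact h.W_two_le_K hx (mem_W (n := 2) ⟨a, ha, x, h.symm ha, rfl⟩)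
  · exact mem_centralizer_iff.mpr fun g hg => h.z_comm hx (Hyp.L_le (G := G) x hg)

/-- The subgroups of two vertices at distance two meet trivially. -/
theorem J_inter_bot {μ x y : V} (hμ : A μ) (hx : adj μ x) (hy : adj μ y) (hne : x ≠ y) {j : G}
    (hjx : j ∈ J G adj x) (hjy : j ∈ J G adj y) : j = 1 := by
  obtain ⟨d, hd, hdx, hdy, hall⟩ := h.other hx hy hne
  have hxB := h.notA hμ hx
  have hyB := h.notA hμ hy
  obtain ⟨u, hu, huy, huμ, huμ'⟩ := h.exists_swap hC hD hyB (h.symm hy)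
  have e1 := (h.swap huμ' huy.1 hy hx hd hne.symm hdy.symm hdx.symm
    (h.moves_all huμ' huy.1 hy hx hne.symm huμ)).1
  have hjd : j ∈ J G adj d := by
    have := h.J_conj (g := u) hjx
    rwa [J0_comm (mem_J.mp hjy).1 hu, mul_inv_cancel_right, e1] at this
  let N : Subgroup G := ⨅ v : {v // adj μ v}, J G adj v.1
  have memN : ∀ {g}, g ∈ N ↔ ∀ v, adj μ v → g ∈ J G adj v := by simp [N, Subgroup.mem_iInf]
  have hjN : j ∈ N := memN.mpr fun v hv => by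
    rcases hall v hv with rfl | rfl | rfl
    exacts [hjx, hjy, hjd]
  have n1 : stabilizer G μ ≤ Norm N := le_norm fun g hg v hv => memN.mpr fun w hw => by
    have hgi : g⁻¹ • μ = μ := inv_smul_eq_iff.mpr (mem_stabilizer_iff.mp hg).symm
    simpa using h.J_conj (g := g) (memN.mp hv _ (h.adj_smul_of_fix hgi hw))
  obtain ⟨ρ, hρ, hρ3, hρne⟩ := h.exists_three (h.symm hx)
  have hρN : ρ ∈ Norm N := by
    intro v
    have hc : ∀ v ∈ N, ρ * v * ρ⁻¹ = v := fun v hv => by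
      rw [J0_comm (mem_J.mp (memN.mp hv x hx)).1 (subset_closure ⟨hρ, hρ3⟩), mul_inv_cancel_right]
    refine ⟨fun hv => ?_, fun hv => by rwa [hc v hv]⟩
    have := hc _ hv
    rw [show ρ * (ρ * v * ρ⁻¹) * ρ⁻¹ = ρ * (ρ * v * ρ⁻¹ * ρ⁻¹) by group] at this
    have e : ρ * v * ρ⁻¹ * ρ⁻¹ = v * ρ⁻¹ := mul_left_cancel (this.trans (mul_assoc _ _ _))
    rw [mul_right_cancel e] at hv
    exact hv
  have n2 := h.gen_move (h.symm hx) hρ (hρne μ (h.symm hx)) (fun t ht => n1 ht.2) hρN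
  have hT : N ≤ T G μ x := fun v hv => by
    have hk := mem_K.mp (J0_le_K (mem_J.mp (memN.mp hv x hx)).1)
    exact mem_T.mpr ⟨hk.1.2 μ (h.symm hx), hk.1.1⟩
  exact mem_bot.mp (h.faithful' hx hT n1 n2 ▸ hjN)

omit hC in
theorem comm_Q {x : V} (hx : ¬ A x) {v q : G} (hq : q ∈ Q G adj x) (hv : v ∈ W adj z 2 x) :
    v * q * v⁻¹ * q⁻¹ = 1 ∨ v * q * v⁻¹ * q⁻¹ = z x := by
  rcases (h.mem_W_two hD hx).mp hv with rfl | ⟨e, ⟨a, ha, e', he, rfl⟩, rfl⟩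
  · left; group
  have haA := h.isA hx ha
  have heB := h.notA haA he
  have e1 : z e' * q * (z e')⁻¹ * q⁻¹ = z e' * z (q • e') := by
    rw [h.z_smul q heB, inv_of_sq (h.z_sq heB)]; group
  rw [e1]
  rcases eq_or_ne e' x with rfl | hex
  · rw [hq.1]; exact Or.inl (h.z_sq heB)
  rcases h.rep_eq haA (h.symm ha) he (h.adj_smul_of_fix (hq.2 a ha) he) hex
    (fun e => hex (smul_left_cancel q (e.trans hq.1.symm))) with k | k <;> rw [k]
  · exact Or.inl (h.z_sq heB)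
  · exact Or.inr (by rw [← mul_assoc, h.z_sq heB, one_mul])

theorem W_one_inter {x a c : V} (hx : ¬ A x) (ha : adj x a) (hc : adj x c) (hac : a ≠ c) {v : G}
    (h1 : v ∈ W adj z 1 a) (h2 : v ∈ W adj z 1 c) : v = 1 ∨ v = z x := by
  rcases (h.mem_W_one (h.isA hx ha)).mp h1 with rfl | ⟨e, he, rfl⟩
  · exact Or.inl rfl
  rcases eq_or_ne e x with rfl | hex
  · exact Or.inr rfl
  rcases (h.mem_W_one (h.isA hx hc)).mp h2 with k | ⟨e', he', k⟩
  · exact Or.inl k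
  rcases eq_or_ne e' x with rfl | hex'
  · exact Or.inr k.symm
  · exact absurd k.symm (h.dist_four hC hx ha hc hac he he' hex hex')

/-- `K x` is the product of the fixed points of an element of order three and the centres. -/
theorem decomp {x : V} (hx : ¬ A x) {ρ : G} (hρ : ρ • x = x) (hρ3 : ρ ^ 3 = 1) {k : G} (hk : k ∈ K G adj x) :
    ∃ r ∈ K G adj x, ρ * r = r * ρ ∧ ∃ v ∈ W adj z 2 x, k = r * v := by
  have hn : A x ↔ ¬ Even 2 := iff_of_false hx (by decide)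
  set e := k⁻¹ * ρ * k * ρ⁻¹ with he_def
  have he : e ∈ W adj z 2 x := by
    simpa using h.L_comm hC hD hx (subset_closure ⟨hρ, hρ3⟩) (inv_mem hk)
  have hρN : ρ ∈ Norm (W adj z 2 x) := h.W_norm hn hρ
  have he1 : ρ * e * ρ⁻¹ ∈ W adj z 2 x := Norm.conj hρN he
  have sq := h.sq_two le_rfl hx
  have hr : k * (ρ * e * ρ⁻¹) ∈ K G adj x := mul_mem hk (h.W_two_le_K hx he1)
  refine ⟨_, hr, ?_, ρ * e * ρ⁻¹, he1, by rw [mul_assoc, sq _ he1, mul_one]⟩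
  have h3 : ρ * ρ * ρ = 1 := by rw [← hρ3, pow_succ, pow_two]
  have e3 : e * (ρ * e * ρ⁻¹) * (ρ * (ρ * e * ρ⁻¹) * ρ⁻¹) = 1 := by
    calc e * (ρ * e * ρ⁻¹) * (ρ * (ρ * e * ρ⁻¹) * ρ⁻¹)
        = k⁻¹ * (ρ * ρ * ρ) * k * (ρ * ρ * ρ)⁻¹ := by rw [he_def]; group
      _ = 1 := by rw [h3]; group
  rw [mul_eq_one_iff_eq_inv', inv_of_sq (sq _ (mul_mem he he1))] at e3
  calc ρ * (k * (ρ * e * ρ⁻¹)) = k * e * (ρ * (ρ * e * ρ⁻¹) * ρ⁻¹) * ρ := by rw [he_def]; group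
    _ = k * (e * e) * (ρ * e * ρ⁻¹) * ρ := by rw [e3]; group
    _ = k * (ρ * e * ρ⁻¹) * ρ := by rw [sq _ he, mul_one]

/-- The commutator of `K x` centralizes all elements of order three. -/
theorem comm_J0 {x : V} (hx : ¬ A x) {k₁ k₂ : G} (h1 : k₁ ∈ K G adj x) (h2 : k₂ ∈ K G adj x) :
    k₁ * k₂ * k₁⁻¹ * k₂⁻¹ ∈ J0 G adj x := by
  refine mem_inf.mpr ⟨mul_mem (mul_mem (mul_mem h1 h2) (inv_mem h1)) (inv_mem h2), ?_⟩
  have hle : L G x ≤ centralizer {k₁ * k₂ * k₁⁻¹ * k₂⁻¹} := (closure_le _).mpr fun g ⟨hg, hg3⟩ => by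
    by_cases hfix : ∃ u, adj x u ∧ g • u = u
    · obtain ⟨u, hu, hgu⟩ := hfix
      rw [h.eq_one_of_cube hu (mem_T.mpr ⟨hg, hgu⟩) hg3]
      exact one_mem _
    obtain ⟨r₁, hr₁, c₁, v₁, hv₁, rfl⟩ := h.decomp hC hD hx hg hg3 h1
    obtain ⟨r₂, hr₂, c₂, v₂, hv₂, rfl⟩ := h.decomp hC hD hx hg hg3 h2
    have hcV : ∀ {r v : G}, r ∈ K G adj x → v ∈ W adj z 2 x → Commute r v := fun hr hv => h.K_comm hx hr hv
    have e : r₁ * v₁ * (r₂ * v₂) * (r₁ * v₁)⁻¹ * (r₂ * v₂)⁻¹ = r₁ * r₂ * r₁⁻¹ * r₂⁻¹ := by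
      have a1 : v₁ * (r₂ * v₂) * v₁⁻¹ = r₂ * v₂ := by
        rw [← (hcV (mul_mem hr₂ (h.W_two_le_K hx hv₂)) hv₁).eq, mul_inv_cancel_right]
      have a2 : v₂ * r₁⁻¹ * v₂⁻¹ = r₁⁻¹ := by
        rw [← (hcV (inv_mem hr₁) hv₂).eq, mul_inv_cancel_right]
      calc r₁ * v₁ * (r₂ * v₂) * (r₁ * v₁)⁻¹ * (r₂ * v₂)⁻¹
          = r₁ * (v₁ * (r₂ * v₂) * v₁⁻¹) * r₁⁻¹ * v₂⁻¹ * r₂⁻¹ := by group
        _ = r₁ * r₂ * (v₂ * r₁⁻¹ * v₂⁻¹) * r₂⁻¹ := by rw [a1]; group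
        _ = r₁ * r₂ * r₁⁻¹ * r₂⁻¹ := by rw [a2]
    rw [SetLike.mem_coe, mem_centralizer_singleton_iff, e]
    exact (((Commute.mul_right c₁ c₂).mul_right (Commute.inv_right c₁)).mul_right (Commute.inv_right c₂)).eq
  exact mem_centralizer_iff.mpr fun g hg => mem_centralizer_singleton_iff.mp (hle hg)

/-- A fixed point of an element of order three with trivial bit lies in `J0`. -/
theorem kernel {x μ : V} (hx : ¬ A x) (hμ : adj x μ) {ρ : G} (hρ : ρ • x = x) (hρ3 : ρ ^ 3 = 1)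
    (hρne : ∀ u, adj x u → ρ • u ≠ u) {r : G} (hr : r ∈ K G adj x) (hrρ : ρ * r = r * ρ)
    (hbit : ∀ u ∈ L G x, u ∈ Q G adj x → u ∈ Q G adj μ → (∀ w, adj x w → w ≠ μ → u ∉ Q G adj w) →
      r * u * r⁻¹ * u⁻¹ = 1 ∨ r * u * r⁻¹ * u⁻¹ = z x) : r ∈ J0 G adj x := by
  have hconj : ∀ {g j : G}, g • x = x → j ∈ J0 G adj x → g * j * g⁻¹ ∈ J0 G adj x := fun {g j} hg hj => by
    have := h.J0_conj (g := g) hj
    rwa [hg] at this
  let S : Subgroup G :=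
    { carrier := {g | g • x = x ∧ r * g * r⁻¹ * g⁻¹ ∈ J0 G adj x}
      one_mem' := ⟨one_smul G x, by simp⟩
      mul_mem' := by
        rintro a b ⟨ha, ha'⟩ ⟨hb, hb'⟩
        refine ⟨by rw [mul_smul, hb, ha], ?_⟩
        rw [show r * (a * b) * r⁻¹ * (a * b)⁻¹ = r * a * r⁻¹ * a⁻¹ * (a * (r * b * r⁻¹ * b⁻¹) * a⁻¹) by group]
        exact mul_mem ha' (hconj ha hb')
      inv_mem' := by
        rintro a ⟨ha, ha'⟩
        have ha1 : a⁻¹ • x = x := inv_smul_eq_iff.mpr ha.symm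
        refine ⟨ha1, ?_⟩
        rw [show r * a⁻¹ * r⁻¹ * a⁻¹⁻¹ = a⁻¹ * (r * a * r⁻¹ * a⁻¹)⁻¹ * a⁻¹⁻¹ by group]
        exact hconj ha1 (inv_mem ha') }
  have hρS : ρ ∈ S := ⟨hρ, by rw [← hrρ, mul_inv_cancel_right, mul_inv_cancel]; exact one_mem _⟩
  obtain ⟨b1, b2, n1, n2, n3, e3⟩ := h.cycle hρ hρ3 hρne hμ
  obtain ⟨u, huL, hux, huμ, huw⟩ := h.exists_u hC hD hx hμ
  have huS : u ∈ S := by
    refine ⟨hux.1, ?_⟩
    rcases hbit u huL hux huμ huw with e | e <;> rw [e]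
    exacts [one_mem _, (mem_J.mp (h.z_mem_J hx)).1]
  have hKS : K G adj x ≤ S := fun k hk => ⟨(mem_K.mp hk).1.1, h.comm_J0 hC hD hx hr hk⟩
  have hQμ : ∀ q ∈ Q G adj x, q ∈ Q G adj μ → q ∈ S := by
    intro q hq hqμ
    by_cases hk : q ∈ K G adj x
    · exact hKS hk
    have hqb : q ∉ Q G adj (ρ • μ) := fun e => hk (h.K_of_two hD hx hμ b1 n1 hq hqμ e)
    have hp : u⁻¹ * q ∈ K G adj x := h.K_of_two hD hx hμ b1 n1 (mul_mem (inv_mem hux) hq)
      (mul_mem (inv_mem huμ) hqμ) (h.mul_mem_Q (h.symm b1) (mem_T.mpr ⟨(inv_mem hux).2 _ b1, (inv_mem hux).1⟩)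
        (mem_T.mpr ⟨hq.2 _ b1, hq.1⟩) (fun e => huw _ b1 n1.symm (inv_mem_iff.mp e)) hqb)
    simpa using mul_mem huS (hKS hp)
  have hQS : Q G adj x ≤ S := by
    intro q hq
    by_cases k1 : q ∈ Q G adj μ
    · exact hQμ q hq k1
    have hi : ρ⁻¹ • x = x := inv_smul_eq_iff.mpr hρ.symm
    by_cases k2 : q ∈ Q G adj (ρ • μ)
    · have := hQμ (ρ⁻¹ * q * ρ⁻¹⁻¹) (by simpa [hi] using h.Q_conj (g := ρ⁻¹) hq)
        (by simpa using h.Q_conj (g := ρ⁻¹) k2)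
      simpa [mul_assoc] using mul_mem (mul_mem hρS this) (inv_mem hρS)
    · have k3 := h.Q_of_flips hD hx hμ b1 b2 n1 n2 n3 hq k1 k2
      have := hQμ (ρ * q * ρ⁻¹) (by simpa [hρ] using h.Q_conj (g := ρ) hq)
        (by simpa [e3] using h.Q_conj (g := ρ) k3)
      simpa [mul_assoc] using mul_mem (mul_mem (inv_mem hρS) this) hρS
  have hgen : ∀ g : G, g • x = x → g ^ 3 = 1 → g * r = r * g := by
    intro g hg hg3
    have hgS : g ∈ S := by
      by_cases hfix : ∃ v, adj x v ∧ g • v = v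
      · obtain ⟨v, hv, hgv⟩ := hfix
        rw [h.eq_one_of_cube hv (mem_T.mpr ⟨hg, hgv⟩) hg3]
        exact one_mem _
      push Not at hfix
      obtain ⟨c1, c2, m1, m2, m3, f3⟩ := h.cycle hg hg3 hfix hμ
      have hcases : ∀ {w}, adj x w → w = μ ∨ w = ρ • μ ∨ w = ρ • ρ • μ := h.only hμ b1 b2 n1 n2 n3
      rcases (hcases c1).resolve_left m1.symm with k | k
      · have k2 : g • ρ • μ = ρ • ρ • μ := by
          rcases hcases c2 with e | e | e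
          · exact absurd e.symm m2
          · exact absurd (k.trans e.symm) m3
          · rwa [k] at e
        have hQ : ρ⁻¹ * g ∈ Q G adj x := h.fix_two (by rw [mul_smul, hg, inv_smul_eq_iff, hρ])
          (by rw [mul_smul, k, inv_smul_smul]) (by rw [mul_smul, k2, inv_smul_smul]) hμ b1 n1
        simpa using mul_mem hρS (hQS hQ)
      · have k2 : g • ρ • ρ • μ = ρ • μ := by
          rcases hcases c2 with e | e | e
          · exact absurd e.symm m2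
          · rwa [k] at e
          · exact absurd (k.trans e.symm) m3
        have hQ : ρ * g ∈ Q G adj x := h.fix_two (by rw [mul_smul, hg, hρ])
          (by rw [mul_smul, k, e3]) (by rw [mul_smul, k2]) hμ b2 n2
        simpa using mul_mem (inv_mem hρS) (hQS hQ)
    obtain ⟨-, hj⟩ := hgS
    set j := r * g * r⁻¹ * g⁻¹ with hj_def
    have hcj : Commute g j := J0_comm hj (subset_closure ⟨hg, hg3⟩)
    have e1 : (j * g) ^ 3 = 1 := by
      rw [hj_def, inv_mul_cancel_right, conj_pow, hg3, mul_one, mul_inv_cancel]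
    rw [hcj.symm.mul_pow, hg3, mul_one] at e1
    have hj1 := h.eq_one_of_cube hμ (h.K_le_T hμ (J0_le_K hj)) e1
    rw [hj_def, mul_inv_eq_one, mul_inv_eq_iff_eq_mul] at hj1
    exact hj1.symm
  have hle : L G x ≤ centralizer {r} :=
    (closure_le _).mpr fun g ⟨hg, hg3⟩ => mem_centralizer_singleton_iff.mpr (hgen g hg hg3)
  exact ⟨hr, mem_centralizer_iff.mpr fun g hg => mem_centralizer_singleton_iff.mp (hle hg)⟩

omit hC hD in
theorem M_norm {μ : V} : stabilizer G μ ≤ Norm (M G adj μ) := le_norm fun g hg v hv => mem_M.mpr fun w hw => by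
  have hgi : g⁻¹ • μ = μ := inv_smul_eq_iff.mpr (mem_stabilizer_iff.mp hg).symm
  simpa using h.K_conj (g := g) (mem_M.mp hv _ (h.adj_smul_of_fix hgi hw))

/-- The bit of an element of `M μ` vanishes. -/
theorem bit_zero {μ x : V} (hμ : A μ) (hx : adj μ x) {ρ : G} (hρ : ρ • x = x) (hρ3 : ρ ^ 3 = 1)
    (hρne : ∀ u, adj x u → ρ • u ≠ u) {r v : G} (hr : r ∈ K G adj x) (hrρ : ρ * r = r * ρ)
    (hv : v ∈ W adj z 2 x) (hn : r * v ∈ M G adj μ) {u : G} (hu : u ∈ L G x) (hux : u ∈ Q G adj x)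
    (huμ : u ∈ Q G adj μ) (huw : ∀ w, adj x w → w ≠ μ → u ∉ Q G adj w) :
    r * u * r⁻¹ * u⁻¹ = 1 ∨ r * u * r⁻¹ * u⁻¹ = z x := by
  have _ := huw
  have hxB := h.notA hμ hx
  have hxμ := h.symm hx
  obtain ⟨y, -, hyx, -, -, hy, -, -⟩ := h.nbr hx
  set c := r * u * r⁻¹ * u⁻¹ with hc_def
  have hcV : c ∈ W adj z 2 x := h.L_comm hC hD hxB hu hr
  have hrμ := (mem_K.mp hr).2 μ hxμ
  have hc1 : c ∈ W adj z 1 μ := h.inter_Q hC hD hxB hxμ hy hyx hcV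
    (h.comm_mem_Q (h.symm hy) (mem_T.mpr ⟨hrμ.2 y hy, hrμ.1⟩) (mem_T.mpr ⟨huμ.2 y hy, huμ.1⟩))
  have hu' : ρ * u * ρ⁻¹ ∈ Q G adj x := by simpa [hρ] using h.Q_conj (g := ρ) hux
  have hc' : ρ * c * ρ⁻¹ = r * (ρ * u * ρ⁻¹) * r⁻¹ * (ρ * u * ρ⁻¹)⁻¹ := by
    rw [hc_def]
    calc ρ * (r * u * r⁻¹ * u⁻¹) * ρ⁻¹ = ρ * r * u * (ρ * r)⁻¹ * (ρ * u⁻¹ * ρ⁻¹) := by group
      _ = r * (ρ * u * ρ⁻¹) * r⁻¹ * (ρ * u * ρ⁻¹)⁻¹ := by rw [hrρ]; group
  set u' := ρ * u * ρ⁻¹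
  have hm : r * v * u' * (r * v)⁻¹ * u'⁻¹ ∈ Q G adj y := by
    have h1 : r * v * (u' * (r * v)⁻¹ * u'⁻¹) ∈ M G adj μ :=
      mul_mem hn (Norm.conj (h.M_norm (mem_stabilizer_iff.mpr (hu'.2 μ hxμ))) (inv_mem hn))
    rw [← mul_assoc, ← mul_assoc] at h1
    exact (mem_K.mp (mem_M.mp h1 y hy)).1
  have hzy : z x ∈ Q G adj y := h.z_mem_Q (k := 2) hxB ⟨μ, hxμ, y, hy, rfl⟩ (by omega)
  rw [show r * v * u' * (r * v)⁻¹ * u'⁻¹ = r * (v * u' * v⁻¹ * u'⁻¹) * u' * r⁻¹ * u'⁻¹ by group] at hm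
  have hm2 : ρ * c * ρ⁻¹ ∈ Q G adj y := by
    rw [hc']
    rcases h.comm_Q hD hxB hu' hv with k | k <;> rw [k] at hm
    · simpa using hm
    · rw [h.z_comm hxB (mem_K.mp hr).1.1] at hm
      have := mul_mem (inv_mem hzy) hm
      simpa [mul_assoc] using this
  obtain ⟨b1, -, n1, -⟩ := h.cycle hρ hρ3 hρne hxμ
  have hc2 : ρ * c * ρ⁻¹ ∈ W adj z 1 (ρ • μ) := h.W_conj (iff_of_true hμ (by decide)) ρ hc1
  have hc3 : ρ * c * ρ⁻¹ ∈ W adj z 1 μ := h.inter_Q hC hD hxB hxμ hy hyx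
    (by simpa [hρ] using h.W_conj (n := 2) (iff_of_false hxB (by decide)) ρ hcV) hm2
  rcases h.W_one_inter hC hD hxB hxμ b1 n1 hc3 hc2 with k | k
  · exact Or.inl (conj_eq_one_iff.mp k)
  · refine Or.inr ?_
    rw [mul_inv_eq_iff_eq_mul, ← h.z_comm hxB hρ] at k
    exact mul_left_cancel k

/-- The elements of `M μ` lie in `J x` times the centres at `μ`. -/
theorem M_decomp {μ x : V} (hμ : A μ) (hx : adj μ x) {n : G} (hn : n ∈ M G adj μ) :
    ∃ i ∈ J G adj x, ∃ m ∈ W adj z 1 μ, n = i * m := by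
  have hxB := h.notA hμ hx
  obtain ⟨ρ, hρ, hρ3, hρne⟩ := h.exists_three (h.symm hx)
  obtain ⟨r, hr, hrρ, v, hv, rfl⟩ : ∃ r ∈ K G adj x, ρ * r = r * ρ ∧ ∃ v ∈ W adj z 2 x, n = r * v :=
    h.decomp hC hD hxB hρ hρ3 (mem_M.mp hn x hx)
  have hr0 : r ∈ J0 G adj x := h.kernel hC hD hxB (h.symm hx) hρ hρ3 hρne hr hrρ (by
    intro u hu hux huμ huw
    exact h.bit_zero hC hD hμ hx hρ hρ3 hρne hr hrρ hv hn hu hux huμ huw)
  obtain ⟨y, d, hyx, hdx, hyd, hy, hd, hall⟩ := h.nbr hx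
  have hyB := h.notA hμ hy
  have hny : r * v ∈ K G adj y := mem_M.mp hn y hy
  have rfix : ∀ {w}, adj μ w → r • w = w := fun hw => ((mem_K.mp hr).2 μ (h.symm hx)).2 _ hw
  by_cases hry : r ∈ Q G adj y
  · refine ⟨r, h.J0_inter hC hD hxB (h.symm hx) hy hyx hr0 hry, v,
      h.inter_Q hC hD hxB (h.symm hx) hy hyx hv ?_, rfl⟩
    simpa using mul_mem (inv_mem hry) (mem_K.mp hny).1
  exfalso
  rcases (h.mem_W_two hD hxB).mp hv with rfl | ⟨e, ⟨a', ha', e', he', rfl⟩, rfl⟩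
  · exact hry (by simpa using (mem_K.mp hny).1)
  have he'B := h.notA (h.isA hxB ha') he'
  have hvy : z e' ∉ Q G adj y := fun e => hry (by
    simpa using mul_mem (mem_K.mp hny).1 (inv_mem e))
  have hex : e' ≠ x := fun e => hvy (e ▸ h.z_mem_Q (k := 2) hxB ⟨μ, h.symm hx, y, hy, rfl⟩ (by omega))
  have ha'μ : a' ≠ μ := fun e => hvy (h.z_mem_Q (k := 2) he'B ⟨μ, h.symm (e ▸ he'), y, hy, rfl⟩ (by omega))
  obtain ⟨a, -, haμ, -, -, ha, -, -⟩ := h.nbr (h.symm hy)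
  obtain ⟨δ, -, hδy, -, -, hδ, -, -⟩ := h.nbr (h.symm ha)
  have hδB := h.notA (h.isA hyB ha) hδ
  have hzx : z δ • x = x := h.low le_rfl (h.isA hyB ha) hδ ⟨y, h.symm ha, μ, h.symm hy, x, hx, rfl⟩
  have hc : z δ * z e' * z δ * z e' = z d := h.third hC hD hyB ha (h.symm hy) hx ha' haμ hyx.symm ha'μ hδ hδy
    he' hex hd hyd.symm hdx
  have hw1 : r * z δ * r⁻¹ * z δ ∈ J0 G adj x := by
    rw [show r * z δ * r⁻¹ * z δ = r * (z δ * r⁻¹ * z δ) by group]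
    refine mul_mem hr0 ?_
    have := h.J0_conj (g := z δ) (inv_mem hr0)
    rwa [hzx, inv_of_sq (h.z_sq hδB)] at this
  have hsq := h.z_sq hδB
  have hvz : z e' * z δ * z e' = z δ * z d := by
    rw [← hc, ← mul_assoc, ← mul_assoc, ← mul_assoc, hsq, one_mul]
  have hnz : r * z e' * z δ = z δ * (r * z e') := h.z_comm hδB (h.K_fix hny ha hδ)
  have hrd : r * z d = z d * r := h.z_comm (h.notA hμ hd) (rfix hd)
  have key : r * z δ * r⁻¹ * z d = z δ := by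
    calc r * z δ * r⁻¹ * z d = r * (z δ * z d) * r⁻¹ := by
          rw [mul_assoc (r * z δ), mul_assoc r (z δ * z d), mul_assoc (z δ),
            show z d * r⁻¹ = r⁻¹ * z d from ((Commute.inv_left (hrd : Commute r (z d))).eq).symm]
          group
      _ = r * (z e' * z δ * z e') * r⁻¹ := by rw [hvz]
      _ = r * z e' * z δ * (z e' * r⁻¹) := by group
      _ = z δ * (r * (z e' * z e') * r⁻¹) := by rw [hnz]; group
      _ = z δ := by rw [h.z_sq he'B, mul_one, mul_inv_cancel, mul_one]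
  refine h.z_two_notJ0 hC hxB (h.symm hx) hd hdx ?_
  have hzd : z δ * z d = z d * z δ := h.z_comm (h.notA hμ hd)
    (h.low le_rfl (h.isA hyB ha) hδ ⟨y, h.symm ha, μ, h.symm hy, d, hd, rfl⟩)
  rw [show r * z δ * r⁻¹ = z δ * z d by
    rw [← mul_one (r * z δ * r⁻¹), ← h.z_sq (h.notA hμ hd), ← mul_assoc, key],
    hzd, mul_assoc, hsq, mul_one] at hw1
  exact hw1

/-- `M μ` consists of centres at `μ`. -/
theorem M_le {μ : V} (hμ : A μ) : M G adj μ ≤ W adj z 1 μ := by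
  obtain ⟨x, hx⟩ := h.deg μ
  have small : ∀ {x y}, adj μ x → adj μ y → x ≠ y → ∀ j ∈ J G adj y, j = 1 ∨ j = z y := by
    intro x y hx hy hne j hj
    have hxB := h.notA hμ hx
    have hyB := h.notA hμ hy
    have hjM : j ∈ M G adj μ := mem_M.mpr fun v hv => h.J_le_K hC hD hyB ⟨μ, h.symm hy, v, hv, rfl⟩ hj
    obtain ⟨i, hi, m, hm, rfl⟩ := h.M_decomp hC hD hμ hx hjM
    have jzy : i * m * z y ∈ J G adj y := mul_mem hj (h.z_mem_J hyB)
    have triv : i * m * z y ∈ J G adj x → i * m = z y := fun e => by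
      have := h.J_inter_bot hC hD hμ hx hy hne e jzy
      rw [mul_eq_one_iff_eq_inv, inv_of_sq (h.z_sq hyB)] at this
      exact this
    rcases (h.mem_W_one hμ).mp hm with rfl | ⟨w, hw, rfl⟩
    · left
      exact h.J_inter_bot hC hD hμ hx hy hne (by rwa [mul_one]) hj
    rcases eq_or_ne w x with rfl | hwx
    · left
      exact h.J_inter_bot hC hD hμ hx hy hne (mul_mem hi (h.z_mem_J hxB)) hj
    rcases eq_or_ne w y with rfl | hwy
    · exact Or.inr (triv (by rwa [mul_assoc, h.z_sq hyB, mul_one]))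
    · refine Or.inr (triv ?_)
      rw [mul_assoc, h.z_sum hμ hw hy hx hwy hwx hne.symm]
      exact mul_mem hi (h.z_mem_J hxB)
  obtain ⟨y, -, hyx, -, -, hy, -, -⟩ := h.nbr hx
  intro n hn
  obtain ⟨i, hi, m, hm, rfl⟩ := h.M_decomp hC hD hμ hx hn
  rcases small hy hx hyx i hi with rfl | rfl
  · simpa using hm
  · exact mul_mem (mem_W (wk_one hx)) hm

theorem J_small {x : V} (hx : ¬ A x) {j : G} (hj : j ∈ J G adj x) : j = 1 ∨ j = z x := by
  obtain ⟨μ, hμ⟩ := h.deg x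
  have hμA := h.isA hx hμ
  have hm : j ∈ W adj z 1 μ :=
    h.M_le hC hD hμA (mem_M.mpr fun v hv => h.J_le_K hC hD hx ⟨μ, hμ, v, hv, rfl⟩ hj)
  rcases (h.mem_W_one hμA).mp hm with rfl | ⟨w, hw, rfl⟩
  · exact Or.inl rfl
  rcases eq_or_ne w x with rfl | hwx
  · exact Or.inr rfl
  · exact absurd (mem_J.mp hj).1 (h.z_two_notJ0 hC hx hμ hw hwx)

end HypB

end Cfsg.Agent.Transfer.Goldschmidt
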