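import Cfsg.Agent.Lib.Transfer.Goldschmidt.OddCase

/-!
# Critical length three: elements of order three around a vertex of the second kind
-/

set_option autoImplicit false

namespace Cfsg.Agent.Transfer.Goldschmidt

open MulAction Subgroup

variable {G V : Type*} [Group G] [MulAction G V] {adj : V → V → Prop} {A : V → Prop} {z : V → G}

/-- The subgroup generated by the elements of order three in a vertex stabilizer. -/
def L (G : Type*) [Group G] {V : Type*} [MulAction G V] (x : V) : Subgroup G :=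
  closure {g : G | g • x = x ∧ g ^ 3 = 1}

/-- The elements of `K x` centralizing all elements of order three. -/
def J0 (G : Type*) [Group G] {V : Type*} [MulAction G V] (adj : V → V → Prop) (x : V) : Subgroup G :=
  K G adj x ⊓ centralizer (L G x : Set G)

/-- The part of `J0 x` fixing the neighbours of every vertex at distance two. -/
def J (G : Type*) [Group G] {V : Type*} [MulAction G V] (adj : V → V → Prop) (x : V) : Subgroup G :=
  J0 G adj x ⊓ ⨅ y : {y // Wk adj 2 x y}, Q G adj y.1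

/-- The elements fixing all vertices within two steps of every neighbour. -/
def M (G : Type*) [Group G] {V : Type*} [MulAction G V] (adj : V → V → Prop) (μ : V) : Subgroup G :=
  ⨅ u : {u // adj μ u}, K G adj u.1

theorem mem_M {g : G} {μ : V} : g ∈ M G adj μ ↔ ∀ u, adj μ u → g ∈ K G adj u := by
  simp [M, Subgroup.mem_iInf]

theorem mem_J {g : G} {x : V} : g ∈ J G adj x ↔ g ∈ J0 G adj x ∧ ∀ y, Wk adj 2 x y → g ∈ Q G adj y := by
  simp [J, Subgroup.mem_iInf]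

theorem mem_of_cube {q : G} {H : Subgroup G} {n : ℕ} (hn : q ^ 2 ^ n = 1) (h3 : q ^ 3 ∈ H) : q ∈ H := by
  have h4 : q ^ 4 ^ n = 1 := by
    rw [show 4 ^ n = 2 ^ n * 2 ^ n by rw [← mul_pow]; rfl, pow_mul, hn, one_pow]
  obtain ⟨k, hk⟩ : ∃ k, 4 ^ n = 3 * k + 1 := by
    induction n with
    | zero => exact ⟨0, rfl⟩
    | succ n ih =>
      obtain ⟨k, hk⟩ : ∃ k, 4 ^ n = 3 * k + 1 := ⟨4 ^ n / 3, by
        have := Nat.pow_mod 4 n 3
        simp at this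
        omega⟩
      exact ⟨4 * k + 1, by rw [pow_succ, hk]; ring⟩
  rw [hk, pow_succ, pow_mul, mul_eq_one_iff_eq_inv'] at h4
  exact h4 ▸ inv_mem (pow_mem h3 k)

theorem J0_le_K {x : V} : J0 G adj x ≤ K G adj x := inf_le_left

theorem J0_comm {g j : G} {x : V} (hj : j ∈ J0 G adj x) (hg : g ∈ L G x) : g * j = j * g :=
  mem_centralizer_iff.mp hj.2 g hg

namespace Hyp

variable (h : Hyp G adj A z)
include h

omit h in
theorem L_le (x : V) : L G x ≤ stabilizer G x := (closure_le _).mpr fun _ hg => hg.1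

theorem L_conj {g l : G} {x : V} (hl : l ∈ L G x) : g * l * g⁻¹ ∈ L G (g • x) := by
  have : L G x ≤ (L G (g • x)).comap (MulAut.conj g).toMonoidHom :=
    (closure_le _).mpr fun k hk => subset_closure ⟨by
      show (g * k * g⁻¹) • g • x = g • x
      rw [mul_smul, mul_smul, inv_smul_smul, hk.1], by
      show (g * k * g⁻¹) ^ 3 = 1
      rw [conj_pow, hk.2, mul_one, mul_inv_cancel]⟩
  exact this hl

theorem J0_conj {g j : G} {x : V} (hj : j ∈ J0 G adj x) : g * j * g⁻¹ ∈ J0 G adj (g • x) := by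
  refine ⟨h.K_conj hj.1, mem_centralizer_iff.mpr fun l hl => ?_⟩
  have hl' := h.L_conj (g := g⁻¹) hl
  rw [inv_smul_smul, inv_inv] at hl'
  have := J0_comm hj hl'
  calc l * (g * j * g⁻¹) = g * (g⁻¹ * l * g * j) * g⁻¹ := by group
    _ = g * (j * (g⁻¹ * l * g)) * g⁻¹ := by rw [this]
    _ = g * j * g⁻¹ * l := by group

theorem J_conj {g j : G} {x : V} (hj : j ∈ J G adj x) : g * j * g⁻¹ ∈ J G adj (g • x) := by
  rw [mem_J] at hj ⊢
  refine ⟨h.J0_conj hj.1, fun y hy => ?_⟩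
  have := h.Q_conj (g := g) (hj.2 (g⁻¹ • y) (by simpa using h.wk_smul g⁻¹ hy))
  rwa [smul_inv_smul] at this

theorem mul_mem_Q {g k : G} {v u : V} (hu : adj v u) (hg : g ∈ T G v u) (hk : k ∈ T G v u)
    (hgQ : g ∉ Q G adj v) (hkQ : k ∉ Q G adj v) : g * k ∈ Q G adj v := by
  obtain ⟨w, -, hwu, -, -, hw, -, -⟩ := h.nbr hu
  have hg' : g⁻¹ ∈ T G v u := inv_mem hg
  simpa using h.inv_mul_fix hg' hk hu hw hwu.symm
    (h.moves_all hg'.1 hg'.2 hu hw hwu.symm fun e => hgQ (inv_mem_iff.mp e))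
    (h.moves_all hk.1 hk.2 hu hw hwu.symm hkQ)

theorem K_le_T {x μ : V} (hμ : adj x μ) : K G adj x ≤ T G x μ := fun _ hk => h.Q_le_T hμ (mem_K.mp hk).1

theorem eq_one_of_cube {q : G} {x μ : V} (hμ : adj x μ) (hq : q ∈ T G x μ) (h3 : q ^ 3 = 1) : q = 1 := by
  obtain ⟨n, hn⟩ := h.two hμ ⟨q, hq⟩
  exact mem_bot.mp (mem_of_cube (congrArg Subtype.val hn) (mem_bot.mpr h3))

/-- An element of order three fixing no neighbour. -/
theorem exists_three {x μ : V} (hμ : adj x μ) :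
    ∃ ρ : G, ρ • x = x ∧ ρ ^ 3 = 1 ∧ ∀ u, adj x u → ρ • u ≠ u := by
  obtain ⟨b, c, hb, hc, hbc, ab, ac, hall⟩ := h.nbr hμ
  obtain ⟨t, ht, htb⟩ := h.move' hμ ab hb.symm
  obtain ⟨t', ht', htμ⟩ := h.move' ab hμ hb
  obtain ⟨e1, e2⟩ := h.swap ht.1 ht.2 hμ ab ac hb.symm hc.symm hbc htb
  obtain ⟨e3, e4⟩ := h.swap ht'.1 ht'.2 ab hμ ac hb hbc hc.symm htμ
  set g := t * t'
  have g0 : g • x = x := by rw [mul_smul, ht'.1, ht.1]
  have gμ : g • μ = b := by rw [mul_smul, e3, e2]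
  have gb : g • b = c := by rw [mul_smul, ht'.2, e1]
  have gc : g • c = μ := by rw [mul_smul, e4, ht.2]
  have g3 : g ^ 3 ∈ T G x μ := mem_T.mpr ⟨by simp [pow_succ, mul_smul, g0],
    by simp [pow_succ, mul_smul, gμ, gb, gc]⟩
  obtain ⟨n, hn⟩ := h.two hμ ⟨g ^ 3, g3⟩
  replace hn : (g ^ 3) ^ 2 ^ n = 1 := congrArg Subtype.val hn
  obtain ⟨k, hk⟩ : ∃ k, 4 ^ n = 3 * k + 1 := ⟨4 ^ n / 3, by
    have := Nat.pow_mod 4 n 3
    simp at this
    omega⟩
  have gQ : g ^ 3 ∈ Q G adj x :=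
    h.fix_two g3.1 g3.2 (by simp [pow_succ, mul_smul, gμ, gb, gc]) hμ ab hb.symm
  refine ⟨g * (g ^ 3) ^ k, by rw [mul_smul, (pow_mem gQ k).1, g0], ?_, fun u hu => ?_⟩
  · rw [← pow_mul, ← pow_succ', ← pow_mul, ← hk, mul_comm, pow_mul,
      show 4 ^ n = 2 ^ n * 2 ^ n by rw [← mul_pow]; rfl, pow_mul, hn, one_pow]
  · rw [mul_smul, (pow_mem gQ k).2 u hu]
    rcases hall u hu with rfl | rfl | rfl
    · rw [gμ]; exact hb
    · rw [gb]; exact hbc.symm
    · rw [gc]; exact hc.symm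

theorem cycle {ρ : G} {x μ : V} (hρ : ρ • x = x) (h3 : ρ ^ 3 = 1) (hne : ∀ u, adj x u → ρ • u ≠ u)
    (hμ : adj x μ) : adj x (ρ • μ) ∧ adj x (ρ • ρ • μ) ∧ μ ≠ ρ • μ ∧ μ ≠ ρ • ρ • μ ∧ ρ • μ ≠ ρ • ρ • μ ∧
      ρ • ρ • ρ • μ = μ := by
  have h1 := h.adj_smul_of_fix hρ hμ
  have e : ρ • ρ • ρ • μ = μ := by rw [← mul_smul, ← mul_smul, show ρ * ρ * ρ = ρ ^ 3 by rw [pow_succ, pow_two], h3, one_smul]
  refine ⟨h1, h.adj_smul_of_fix hρ h1, (hne μ hμ).symm, fun e' => hne μ hμ ?_, (hne _ h1).symm, e⟩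
  conv_lhs => rw [e']
  exact e

end Hyp

namespace HypB

variable (h : HypB G adj A z 3) (hC : AllCrit G adj A z 3) (hD : D2 adj A z)
include h hC hD

omit hD in
/-- A centre beyond the far end of two edges moves the neighbours of the near end. -/
theorem rep_notQ {a x μ y δ : V} (ha : adj x a) (hμ : adj x μ) (hy : adj μ y) (hx : ¬ A x) (ham : a ≠ μ)
    (hxy : y ≠ x) (hδ : adj a δ) (hδx : δ ≠ x) : z δ ∉ Q G adj y := by
  have hp : Arc adj 3 (consP a (consP x (consP μ fun _ => y))) :=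
    (arc_two hμ hy hxy).cons (h.symm ha) fun _ => ham.symm
  exact h.crit_z hp (h.isA hx ha) (hC _ hp (h.isA hx ha)) hδ hδx

/-- The commutator of two centres at distance five. -/
theorem third {a x μ y c d e e' : V} (hx : ¬ A x) (ha : adj x a) (hμ : adj x μ) (hy : adj μ y) (hc : adj y c)
    (ham : a ≠ μ) (hxy : y ≠ x) (hcm : c ≠ μ) (he : adj a e) (hex : e ≠ x) (he' : adj c e') (hey : e' ≠ y)
    (hd : adj μ d) (hdx : d ≠ x) (hdy : d ≠ y) : z e * z e' * z e * z e' = z d := by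
  have hp : Arc adj 3 (consP a (consP x (consP μ fun _ => y))) :=
    (arc_two hμ hy hxy).cons (h.symm ha) fun _ => ham.symm
  obtain ⟨k, hk, F1, -, -, -, -, -, n3⟩ := h.flanks hC le_rfl hp (h.isA hx ha) (by decide) (γ := c) (ε := e')
    (η := y) (η' := x) he hex hc hcm he' hey hy hxy (h.symm hμ) hxy.symm
  rw [← hk]
  obtain ⟨t, ht, htx, e1⟩ := h.centre_of_c hD le_rfl hx hμ hy hxy F1
  rw [e1]
  rcases h.only (h.symm hμ) hy hd hxy.symm hdx.symm hdy.symm ht with rfl | rfl | rfl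
  · exact absurd rfl htx
  · exact absurd e1 n3
  · rfl

omit hC in
theorem mem_W_two {x : V} (hx : ¬ A x) {v : G} :
    v ∈ W adj z 2 x ↔ v = 1 ∨ ∃ e, Wk adj 2 x e ∧ z e = v := by
  have hn : A x ↔ ¬ Even 2 := iff_of_false hx (by decide)
  have key : ∀ e e', Wk adj 2 x e → Wk adj 2 x e' → z e * z e' = 1 ∨ ∃ d, Wk adj 2 x d ∧ z d = z e * z e' := by
    rintro e e' ⟨a, ha, e₀, he, rfl⟩ ⟨a', ha', e₁, he', rfl⟩
    have W1 : ∀ {c e e'}, adj x c → adj c e → adj c e' →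
        z e * z e' = 1 ∨ ∃ d, Wk adj 2 x d ∧ z d = z e * z e' := by
      intro c e e' hc he he'
      rcases (h.mem_W_one (h.isA hx hc)).mp (mul_mem (mem_W (wk_one he)) (mem_W (wk_one he'))) with k | ⟨u, hu, k⟩
      · exact Or.inl k
      · exact Or.inr ⟨u, ⟨c, hc, u, hu, rfl⟩, k⟩
    rcases eq_or_ne a a' with rfl | hne
    · exact W1 ha he he'
    rcases eq_or_ne e₀ x with rfl | hex
    · exact W1 ha' (h.symm ha') he'
    rcases eq_or_ne e₁ x with rfl | hex'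
    · exact W1 ha he (h.symm ha)
    obtain ⟨m, hm, hma, hma', -⟩ := h.other ha ha' hne
    obtain ⟨η, -, hη, -, -, hmη, -, -⟩ := h.nbr (h.symm hm)
    obtain ⟨d, hd, -, e1⟩ := h.centre_of_c hD le_rfl hx hm hmη hη
      ⟨a, a', m, e₀, e₁, η, ha, ha', hm, hne, hma.symm, hma'.symm, he, he', hmη, hex, hex', hη, rfl⟩
    exact Or.inr ⟨d, ⟨m, hm, d, hd, rfl⟩, e1.symm⟩
  refine ⟨fun hv => ?_, ?_⟩
  · induction hv using closure_induction with
    | mem v hv => obtain ⟨e, he, rfl⟩ := hv; exact Or.inr ⟨e, he, rfl⟩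
    | one => exact Or.inl rfl
    | mul a b _ _ ea eb =>
      rcases ea with rfl | ⟨e, he, rfl⟩
      · simpa using eb
      rcases eb with rfl | ⟨e', he', rfl⟩
      · exact Or.inr ⟨e, he, (mul_one _).symm⟩
      · exact key e e' he he'
    | inv a _ ea =>
      rcases ea with rfl | ⟨e, he, rfl⟩
      · simp
      · exact Or.inr ⟨e, he, (inv_of_sq (h.z_sq (h.notA_wk hn he))).symm⟩
  · rintro (rfl | ⟨e, he, rfl⟩)
    exacts [one_mem _, mem_W he]

omit hC hD in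
theorem W_two_le_K {x : V} (hx : ¬ A x) : W adj z 2 x ≤ K G adj x :=
  W_le fun e he => mem_K.mpr
    ⟨h.z_mem_Q (h.notA_wk (iff_of_false hx (by decide)) he) (h.wk_symm he) (by omega),
      fun u hu => h.z_mem_Q (h.notA_wk (iff_of_false hx (by decide)) he) ((h.wk_symm he).snoc hu) le_rfl⟩

omit hC hD in
theorem K_comm {x : V} (hx : ¬ A x) {k v : G} (hk : k ∈ K G adj x) (hv : v ∈ W adj z 2 x) : k * v = v * k := by
  have : W adj z 2 x ≤ centralizer {k} := W_le fun e he => mem_centralizer_singleton_iff.mpr (by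
    obtain ⟨a, ha, e₀, he', rfl⟩ := he
    exact (h.z_comm (h.notA (h.isA hx ha) he') (h.K_fix hk ha he')).symm)
  exact (mem_centralizer_singleton_iff.mp (this hv)).symm

theorem inter_Q {x μ y : V} (hx : ¬ A x) (hμ : adj x μ) (hy : adj μ y) (hxy : y ≠ x) {v : G}
    (hv : v ∈ W adj z 2 x) (hvy : v ∈ Q G adj y) : v ∈ W adj z 1 μ := by
  rcases (h.mem_W_two hD hx).mp hv with rfl | ⟨e, ⟨a, ha, e₀, he, rfl⟩, rfl⟩
  · exact one_mem _
  rcases eq_or_ne e₀ x with rfl | hex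
  · exact mem_W (wk_one (h.symm hμ))
  rcases eq_or_ne a μ with rfl | ham
  · exact mem_W (wk_one he)
  · exact absurd hvy (h.rep_notQ hC ha hμ hy hx ham hxy he hex)

omit hC in
/-- An element of `K x` centralizes the centres at distance four modulo those at distance two. -/
theorem K_comm_four {x e : V} (hx : ¬ A x) {k : G} (hk : k ∈ K G adj x) (he : Wk adj 4 x e) :
    k * z e * k⁻¹ * z e ∈ W adj z 2 x := by
  obtain ⟨γ, hγ, y, hy, a, ha, e₀, hae, rfl⟩ := he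
  have hyB := h.notA (h.isA hx hγ) hy
  have haA := h.isA hyB ha
  have heB := h.notA haA hae
  have ky : k • y = y := h.K_fix hk hγ hy
  have kγ : k • γ = γ := (mem_K.mp hk).1.2 γ hγ
  rw [← h.z_smul k heB]
  rcases eq_or_ne e₀ y with rfl | hey
  · rw [ky, h.z_sq heB]
    exact one_mem _
  have key : k • e₀ ≠ y := fun e => hey (smul_left_cancel k (e.trans ky.symm))
  by_cases hka : k • a = a
  · rcases h.rep_eq haA (h.symm ha) hae (h.adj_smul_of_fix hka hae) hey key with e | e <;> rw [e]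
    · rw [h.z_sq heB]
      exact one_mem _
    · rw [mul_assoc, h.z_commute haA (h.symm ha) hae, ← mul_assoc, h.z_sq heB, one_mul]
      exact mem_W (n := 2) ⟨γ, hγ, y, hy, rfl⟩
  · have haγ : a ≠ γ := fun e => hka (e ▸ kγ)
    obtain ⟨η, -, hη, -, -, hγη, -, -⟩ := h.nbr hy
    obtain ⟨d, hd, -, e1⟩ := h.centre_of_c hD le_rfl hyB (h.symm hy) hγη hη
      ⟨k • a, a, γ, k • e₀, e₀, η, h.adj_smul_of_fix ky ha, ha, h.symm hy, hka,
        fun e => haγ (smul_left_cancel k (e.trans kγ.symm)), haγ, h.smul_adj k hae, hae, hγη, key, hey, hη, rfl⟩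
    rw [e1]
    exact mem_W (n := 2) ⟨γ, hγ, d, hd, rfl⟩

omit hC in
/-- Membership in `K x` is decided at two neighbours. -/
theorem K_of_two {x a c : V} (hx : ¬ A x) (ha : adj x a) (hc : adj x c) (hac : a ≠ c) {q : G}
    (hq : q ∈ Q G adj x) (h1 : q ∈ Q G adj a) (h2 : q ∈ Q G adj c) : q ∈ K G adj x := by
  obtain ⟨m, hm, hma, hmc, hall⟩ := h.other ha hc hac
  refine mem_K.mpr ⟨hq, fun w hw => ?_⟩
  rcases hall w hw with rfl | rfl | rfl
  · exact h1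
  · exact h2
  obtain ⟨e, -, hex, -, -, he, -, -⟩ := h.nbr (h.symm ha)
  obtain ⟨e', -, hex', -, -, he', -, -⟩ := h.nbr (h.symm hc)
  obtain ⟨η, -, hη, -, -, hwη, -, -⟩ := h.nbr (h.symm hw)
  obtain ⟨d, hd, hdx, e1⟩ := h.centre_of_c hD le_rfl hx hw hwη hη
    ⟨a, c, w, e, e', η, ha, hc, hw, hac, hma.symm, hmc.symm, he, he', hwη, hex, hex', hη, rfl⟩
  have hwA := h.isA hx hw
  have c1 : Commute q (z e) := h.z_comm (h.notA (h.isA hx ha) he) (h1.2 e he)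
  have c2 : Commute q (z e') := h.z_comm (h.notA (h.isA hx hc) he') (h2.2 e' he')
  have c3 := c1.mul_right c2
  rw [e1] at c3
  exact h.fix_two (hq.2 w hw) hq.1 (h.fix_of_comm hwA (hq.2 w hw) hd c3.eq) (h.symm hw) hd hdx.symm

omit hC in
/-- An element moving the centres beyond two neighbours fixes those beyond the third. -/
theorem Q_of_flips {x a c m : V} (hx : ¬ A x) (ha : adj x a) (hc : adj x c) (hm : adj x m) (hac : a ≠ c)
    (ham : a ≠ m) (hcm : c ≠ m) {q : G}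
    (hq : q ∈ Q G adj x) (h1 : q ∉ Q G adj a) (h2 : q ∉ Q G adj c) : q ∈ Q G adj m := by
  obtain ⟨e, -, hex, -, -, he, -, -⟩ := h.nbr (h.symm ha)
  obtain ⟨e', -, hex', -, -, he', -, -⟩ := h.nbr (h.symm hc)
  obtain ⟨η, -, hη, -, -, hmη, -, -⟩ := h.nbr (h.symm hm)
  obtain ⟨d, hd, hdx, e1⟩ := h.centre_of_c hD le_rfl hx hm hmη hη
    ⟨a, c, m, e, e', η, ha, hc, hm, hac, ham, hcm, he, he', hmη, hex, hex', hη, rfl⟩
  have flip : ∀ {a e}, adj x a → adj a e → e ≠ x → q ∉ Q G adj a → q * z e * q⁻¹ = z e * z x := by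
    intro a e ha he hex hqa
    obtain ⟨t, ht, htx, hte, -⟩ := h.other (h.symm ha) he hex.symm
    rw [← h.z_smul q (h.notA (h.isA hx ha) he),
      (h.swap (hq.2 a ha) hq.1 (h.symm ha) he ht hex.symm htx.symm hte.symm
        (h.moves_all (hq.2 a ha) hq.1 (h.symm ha) he hex.symm hqa)).1,
      h.z_sum (h.isA hx ha) he (h.symm ha) ht hex hte.symm htx.symm]
  have hcm' : z x * z e' = z e' * z x := h.z_commute (h.isA hx hc) (h.symm hc) he'
  have e2 : q * z d * q⁻¹ = z d := by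
    rw [← e1, show q * (z e * z e') * q⁻¹ = q * z e * q⁻¹ * (q * z e' * q⁻¹) by group, flip ha he hex h1,
      flip hc he' hex' h2, mul_assoc (z e), ← mul_assoc (z x), hcm', mul_assoc (z e'), h.z_sq hx, mul_one]
  exact h.fix_two (hq.2 m hm) hq.1 (h.fix_of_comm (h.isA hx hm) (hq.2 m hm) hd (conj_eq_self_iff.mp e2))
    (h.symm hm) hd hdx.symm

/-- Elements of order three centralize `K x` modulo the centres. -/
theorem L_comm {x : V} (hx : ¬ A x) {g : G} (hg : g ∈ L G x) {k : G} (hk : k ∈ K G adj x) :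
    k * g * k⁻¹ * g⁻¹ ∈ W adj z 2 x := by
  have hn2 : A x ↔ ¬ Even 2 := iff_of_false hx (by decide)
  have hn4 : A x ↔ ¬ Even 4 := iff_of_false hx (by decide)
  let S : Subgroup G :=
    { carrier := {g | g • x = x ∧ ∀ k ∈ K G adj x, k * g * k⁻¹ * g⁻¹ ∈ W adj z 2 x}
      one_mem' := ⟨one_smul G x, fun k _ => by simp⟩
      mul_mem' := by
        rintro a b ⟨ha, ha'⟩ ⟨hb, hb'⟩
        refine ⟨by rw [mul_smul, hb, ha], fun k hk => ?_⟩
        rw [show k * (a * b) * k⁻¹ * (a * b)⁻¹ = k * a * k⁻¹ * a⁻¹ * (a * (k * b * k⁻¹ * b⁻¹) * a⁻¹) by group]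
        exact mul_mem (ha' k hk) (Norm.conj (h.W_norm hn2 ha) (hb' k hk))
      inv_mem' := by
        rintro a ⟨ha, ha'⟩
        have ha1 : a⁻¹ • x = x := inv_smul_eq_iff.mpr ha.symm
        refine ⟨ha1, fun k hk => ?_⟩
        rw [show k * a⁻¹ * k⁻¹ * a⁻¹⁻¹ = a⁻¹ * (k * a * k⁻¹ * a⁻¹)⁻¹ * a⁻¹⁻¹ by group]
        exact Norm.conj (h.W_norm hn2 ha1) (inv_mem (ha' k hk)) }
  have hXS : W adj z 4 x ≤ S := W_le fun e he => by
    obtain ⟨a, ha, hae⟩ := Wk.unsnoc he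
    refine ⟨h.low le_rfl ((h.A_wk ha).mpr (iff_of_false hx (by decide))) hae (h.wk_symm ha), fun k hk => ?_⟩
    rw [inv_of_sq (h.z_sq (h.notA_wk hn4 he))]
    exact h.K_comm_four hD hx hk he
  have hX : stabilizer G x ≤ Norm (W adj z 4 x) := h.W_norm hn4
  -- transpositions
  have trn : ∀ {μ}, adj x μ → ∃ t ∈ W adj z 4 x, t ∈ T G x μ ∧ t ∉ Q G adj x := by
    intro μ hμ
    obtain ⟨y, -, hyx, -, -, hy, -, -⟩ := h.nbr (h.symm hμ)
    have hyB := h.notA (h.isA hx hμ) hy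
    obtain ⟨a, -, haμ, -, -, ha, -, -⟩ := h.nbr (h.symm hy)
    obtain ⟨δ, -, hδy, -, -, hδ, -, -⟩ := h.nbr (h.symm ha)
    refine ⟨z δ, mem_W (n := 4) ⟨μ, hμ, y, hy, a, ha, δ, hδ, rfl⟩, mem_T.mpr ⟨?_, ?_⟩,
      h.rep_notQ hC ha (h.symm hy) (h.symm hμ) hyB haμ hyx.symm hδ hδy⟩
    · exact h.low le_rfl (h.isA hyB ha) hδ ⟨y, h.symm ha, μ, h.symm hy, x, h.symm hμ, rfl⟩
    · exact h.low (k := 2) (by omega) (h.isA hyB ha) hδ ⟨y, h.symm ha, μ, h.symm hy, rfl⟩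
  have split : ∀ g, g • x = x → ∃ y ∈ W adj z 4 x, y * g ∈ Q G adj x := by
    intro g hg
    obtain ⟨μ, hμ⟩ := h.deg x
    obtain ⟨b, c, hb, hc, hbc, ab, ac, hall⟩ := h.nbr hμ
    obtain ⟨s, hs, hsμ⟩ : ∃ s ∈ W adj z 4 x, s • x = x ∧ s • g • μ = μ := by
      have sw : ∀ {w w' : V}, adj x w → adj x w' → μ ≠ w → μ ≠ w' → w ≠ w' →
          ∃ s ∈ W adj z 4 x, s • x = x ∧ s • w = μ := by
        intro w w' hw hw' h1 h2 h3
        obtain ⟨t, ht, htT, htQ⟩ := trn hw'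
        exact ⟨t, ht, htT.1, (h.swap htT.1 htT.2 hw' hμ hw h2.symm h3.symm h1
          (h.moves_all htT.1 htT.2 hw' hμ h2.symm htQ)).2⟩
      rcases hall (g • μ) (h.adj_smul_of_fix hg hμ) with e | e | e <;> rw [e]
      · exact ⟨1, one_mem _, one_smul G x, one_smul G μ⟩
      · exact sw ab ac hb.symm hc.symm hbc
      · exact sw ac ab hc.symm hb.symm hbc.symm
    have hsg : s * g ∈ T G x μ := mem_T.mpr ⟨by rw [mul_smul, hg, hsμ.1], by rw [mul_smul, hsμ.2]⟩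
    by_cases hQ : s * g ∈ Q G adj x
    · exact ⟨s, hs, hQ⟩
    · obtain ⟨t, ht, htT, htQ⟩ := trn hμ
      exact ⟨t * s, mul_mem ht hs, by rw [mul_assoc]; exact h.mul_mem_Q hμ htT hsg htQ hQ⟩
  have hLS : L G x ≤ S := (closure_le _).mpr fun g ⟨hg, hg3⟩ => hXS (by
    obtain ⟨y, hy, hq⟩ := split g hg
    obtain ⟨μ, hμ⟩ := h.deg x
    obtain ⟨n, hn⟩ := h.two hμ ⟨y * g, h.Q_le_T hμ hq⟩
    have hgn : g ∈ Norm (W adj z 4 x) := hX hg
    have h3 : (y * g) ^ 3 ∈ W adj z 4 x := by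
      have e : (y * g) ^ 3 = y * (g * y * g⁻¹) * (g * (g * y * g⁻¹) * g⁻¹) * g ^ 3 := by
        simp only [pow_succ, pow_zero, one_mul, mul_assoc, inv_mul_cancel_left]
      rw [e, hg3, mul_one]
      exact mul_mem (mul_mem hy (Norm.conj hgn hy)) (Norm.conj hgn (Norm.conj hgn hy))
    simpa using mul_mem (inv_mem hy) (mem_of_cube (congrArg Subtype.val hn) h3))
  exact (hLS hg).2 k hk

/-- An element generated by elements of order three, fixing the edges beyond one neighbour only. -/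
theorem exists_u {x μ : V} (hx : ¬ A x) (hμ : adj x μ) :
    ∃ u ∈ L G x, u ∈ Q G adj x ∧ u ∈ Q G adj μ ∧ ∀ w, adj x w → w ≠ μ → u ∉ Q G adj w := by
  obtain ⟨q, hq, hqK⟩ : ∃ q ∈ Q G adj x, q ∉ K G adj x := by
    by_contra hall
    push Not at hall
    have hle : Q G adj x ≤ Q G adj μ := fun q hq => (mem_K.mp (hall q hq)).2 μ hμ
    have heq : Q G adj μ ≤ Q G adj x := by
      intro t ht
      by_contra htx
      obtain ⟨w, -, hwx, -, -, hw, -, -⟩ := h.nbr (h.symm hμ)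
      obtain ⟨m, hm, hmw⟩ := h.move' (h.symm hμ) hw hwx.symm
      have hmx : m ∉ Q G adj x := fun e => hmw ((hle e).2 w hw)
      have htT : t ∈ T G x μ := ⟨ht.2 x (h.symm hμ), ht.1⟩
      have := h.mul_mem_Q hμ htT ⟨hm.2, hm.1⟩ htx hmx
      exact hmw ((by simpa using mul_mem (inv_mem ht) (hle this) : m ∈ Q G adj μ).2 w hw)
    have n1 : stabilizer G x ≤ Norm (Q G adj x) := le_norm fun g hg v hv => by
      simpa [mem_stabilizer_iff.mp hg] using h.Q_conj (g := g) hv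
    have n2 : stabilizer G μ ≤ Norm (Q G adj x) := le_antisymm heq hle ▸ le_norm fun g hg v hv => by
      simpa [mem_stabilizer_iff.mp hg] using h.Q_conj (g := g) hv
    have hbot := h.faithful' hμ (h.Q_le_T hμ) n1 n2
    exact h.z_ne hx (mem_bot.mp (hbot ▸ h.z_mem_Q (k := 0) hx rfl (by omega)))
  obtain ⟨ρ, hρ, hρ3, hρne⟩ := h.exists_three hμ
  obtain ⟨b1, b2, n1, n2, n3, e3⟩ := h.cycle hρ hρ3 hρne hμ
  -- a neighbour where `q` acts trivially
  obtain ⟨a, ha, hqa, hqb⟩ : ∃ a, adj x a ∧ q ∈ Q G adj a ∧ ∀ w, adj x w → w ≠ a → q ∉ Q G adj w := by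
    have only_one : ∀ {a}, adj x a → q ∈ Q G adj a → ∀ w, adj x w → w ≠ a → q ∉ Q G adj w :=
      fun ha hqa w hw hwa e => hqK (h.K_of_two hD hx ha hw hwa.symm hq hqa e)
    by_cases k1 : q ∈ Q G adj μ
    · exact ⟨μ, hμ, k1, only_one hμ k1⟩
    by_cases k2 : q ∈ Q G adj (ρ • μ)
    · exact ⟨_, b1, k2, only_one b1 k2⟩
    · have k3 := h.Q_of_flips hD hx hμ b1 b2 n1 n2 n3 hq k1 k2
      exact ⟨_, b2, k3, only_one b2 k3⟩
  obtain ⟨c1, c2, m1, m2, m3, f3⟩ := h.cycle hρ hρ3 hρne ha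
  have hρ' : ρ * q⁻¹ * ρ⁻¹ ∈ Q G adj x := by simpa [hρ] using h.Q_conj (g := ρ) (inv_mem hq)
  have hu : q * (ρ * q⁻¹ * ρ⁻¹) ∈ Q G adj x := mul_mem hq hρ'
  have hua : q * (ρ * q⁻¹ * ρ⁻¹) ∉ Q G adj a := fun e => by
    have h1 : ρ * q⁻¹ * ρ⁻¹ ∈ Q G adj a := by simpa [mul_assoc] using mul_mem (inv_mem hqa) e
    have := h.Q_conj (g := ρ⁻¹) h1
    rw [show ρ⁻¹ * (ρ * q⁻¹ * ρ⁻¹) * ρ⁻¹⁻¹ = q⁻¹ by group, inv_mem_iff,
      inv_smul_eq_iff.mpr f3.symm] at this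
    exact hqb _ c2 m2.symm this
  have hub : q * (ρ * q⁻¹ * ρ⁻¹) ∉ Q G adj (ρ • a) := fun e => by
    have h1 : ρ * q⁻¹ * ρ⁻¹ ∈ Q G adj (ρ • a) := h.Q_conj (inv_mem hqa)
    exact hqb _ c1 m1.symm (by simpa [mul_assoc] using mul_mem e (inv_mem h1))
  have huc := h.Q_of_flips hD hx ha c1 c2 m1 m2 m3 hu hua hub
  have hL : q * (ρ * q⁻¹ * ρ⁻¹) ∈ L G x := by
    rw [show q * (ρ * q⁻¹ * ρ⁻¹) = q * ρ * q⁻¹ * ρ⁻¹ by group]
    exact mul_mem (subset_closure ⟨by rw [mul_smul, mul_smul, inv_smul_eq_iff.mpr hq.1.symm, hρ, hq.1],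
      by rw [conj_pow, hρ3, mul_one, mul_inv_cancel]⟩) (inv_mem (subset_closure ⟨hρ, hρ3⟩))
  set u₀ := q * (ρ * q⁻¹ * ρ⁻¹)
  obtain ⟨g, hg, hgc⟩ := h.trans c2 hμ
  have hgx : g • x = x := hg
  refine ⟨g * u₀ * g⁻¹, by simpa [hgx] using h.L_conj (g := g) hL, by simpa [hgx] using h.Q_conj (g := g) hu,
    hgc ▸ h.Q_conj huc, fun w hw hwμ e => ?_⟩
  have hgi : g⁻¹ • x = x := inv_smul_eq_iff.mpr hgx.symm
  have hw' := h.adj_smul_of_fix hgi hw
  have he := h.Q_conj (g := g⁻¹) e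
  rw [show g⁻¹ * (g * u₀ * g⁻¹) * g⁻¹⁻¹ = u₀ by group] at he
  rcases h.only ha c1 c2 m1 m2 m3 hw' with k | k | k
  · exact hua (k ▸ he)
  · exact hub (k ▸ he)
  · exact hwμ (by rw [← hgc]; exact inv_smul_eq_iff.mp k)

/-- Two steps apart, the stabilizer of both vertices contains an element moving the third neighbour. -/
theorem exists_swap {x μ : V} (hx : ¬ A x) (hμ : adj x μ) :
    ∃ u ∈ L G x, u ∈ Q G adj x ∧ u ∉ Q G adj μ ∧ u • μ = μ := by
  obtain ⟨w, -, hwμ, -, -, hw, -, -⟩ := h.nbr hμ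
  obtain ⟨u, hu, hux, -, huw⟩ := h.exists_u hC hD hx hw
  exact ⟨u, hu, hux, huw μ hμ hwμ.symm, hux.2 μ hμ⟩

end HypB

end Cfsg.Agent.Transfer.Goldschmidt
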